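import Groth.Agent.Lib.FBlowAff.Sigma
import Groth.Agent.Lib.Adic.Limit
import Groth.Agent.Lib.Adic.Bosch.Trunc

/-!
# Functions of an admissible formal scheme on an affine open (helper5)
-/

set_option autoImplicit false
set_option linter.style.haveILetI false

universe u

open CategoryTheory CategoryTheory.Limits TopologicalSpace Opposite AlgebraicGeometry
open Groth.Agent.H30

namespace Groth.Agent.Lib.FBlowAff.AdmLocal

variable {R : Type u} [CommRing R] (I : _root_.Ideal R) {𝔛 : FSch.Sys.{u}} (h : 𝔛.IsFormal)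
  (p : 𝔛 ⟶ FSch.spf R I)

/-- The levels over the spectrum of the base. -/
noncomputable abbrev toBase (n : ℕ) : 𝔛.X n ⟶ Spec (CommRingCat.of R) :=
  SchIdeal.comp p (fun n => FSch.spfToSpec R I n) n

/-- The constants among the functions. -/
noncomputable abbrev const (U : (𝔛.X 0).Opens) : R →+* Levels.A 𝔛 h U :=
  (Ideal.r U).comp (Spf.ψOf h I p)

theorem proj_const (n : ℕ) (U : (𝔛.X 0).Opens) (a : R) :
    Levels.proj 𝔛 h n U (const I h p U a) =
      (toBase I p n).appLE ⊤ (𝔛.lvU h n U) le_top ((Scheme.ΓSpecIso (CommRingCat.of R)).inv a) :=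
  Sigma.proj_r_φq h _ (SchIdeal.comp_comm p _ (FSch.spfToSpec_comm R I)) n U a

theorem const_res {U V : (𝔛.X 0).Opens} (i : V ≤ U) (a : R) :
    (𝔛.Osh h).obj.map (homOfLE i).op (const I h p U a) = const I h p V a :=
  Ideal.res_r i _

variable (hp : FSch.IsAdicHom p)

include hp in
theorem ker_trans (n : ℕ) {U : (𝔛.X 0).Opens} (hU : IsAffineOpen U) :
    RingHom.ker (Levels.trans 𝔛 h n U).hom =
      (I ^ (n + 1)).map ((Levels.proj 𝔛 h (n + 1) U).hom.comp (const I h p U)) := by
  have := Groth.Agent.H30.Spf.isClosedImmersion_spf_ι I n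
  have := (h n).1
  have h1 : (𝔛.ι n).ker = ((FSch.spf R I).ι n).ker.comap ((p : FSch.Hom _ _).app (n + 1)) := by
    rw [← Scheme.IdealSheafData.ker_fst_of_isClosedImmersion, ← (hp n).isoPullback_hom_fst,
      Scheme.Hom.ker_comp_of_isIso]
  rw [Groth.Agent.H30.Spf.ker_spf_ι, Groth.Agent.Lib.Ideal.Comap.comap_pow,
    ← Scheme.IdealSheafData.comap_comp] at h1
  let U' : (𝔛.X (n + 1)).affineOpens := ⟨_, OshBasic.isAffineOpen_lvU 𝔛 h (n + 1) hU⟩
  rw [Levels.ker_trans', ← (𝔛.ι n).ker_apply U', h1, Scheme.IdealSheafData.ideal_pow, Pi.pow_apply,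
    Groth.Agent.Lib.Ideal.Comap.ideal_comap _ _ ⟨⊤, isAffineOpen_top _⟩ U' le_top,
    IdealLemmas.idealSpec_ideal_top, _root_.Ideal.map_map, ← _root_.Ideal.map_pow]
  congr 1
  exact RingHom.ext fun a => (proj_const I h p (n + 1) U a).symm

variable (hI : I.FG) {U : (𝔛.X 0).Opens} (hU : IsAffineOpen U)

include hp hI hU in
/-- Functions on an affine open: complete, projections surjective with kernels the powers. -/
theorem spec :
    IsAdicComplete (I.map (const I h p U)) (Levels.A 𝔛 h U) ∧
      ∀ n, Function.Surjective (Levels.proj 𝔛 h n U) ∧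
        RingHom.ker (Levels.proj 𝔛 h n U).hom = I.map (const I h p U) ^ (n + 1) := by
  let A := Levels.A 𝔛 h U
  let J := I.map (const I h p U)
  letI : ∀ n, Algebra A (Levels.B 𝔛 h n U) := fun n => (Levels.proj 𝔛 h n U).hom.toAlgebra
  have htr : ∀ n a, Levels.trans 𝔛 h n U (Levels.proj 𝔛 h (n + 1) U a) = Levels.proj 𝔛 h n U a :=
    fun n a => ConcreteCategory.congr_hom (Levels.proj_trans 𝔛 h n U) a
  let f : ∀ n, Levels.B 𝔛 h (n + 1) U →ₗ[A] Levels.B 𝔛 h n U := fun n =>
    { toFun := Levels.trans 𝔛 h n U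
      map_add' := map_add _
      map_smul' := fun a x => by
        rw [RingHom.id_apply, Algebra.smul_def, Algebra.smul_def, map_mul]
        exact congrArg (· * _) (htr n a) }
  let π : ∀ n, A →ₗ[A] Levels.B 𝔛 h n U := fun n => Algebra.linearMap A _
  have hsys : Adic.Limit.IsSys J f π :=
    { hf := fun n => Levels.trans_surjective n hU
      hker := fun n => by
        ext x
        rw [LinearMap.mem_ker, _root_.Ideal.smul_top_eq_map, Submodule.restrictScalars_mem]
        show x ∈ RingHom.ker (Levels.trans 𝔛 h n U).hom ↔ x ∈ (J ^ (n + 1)).map (Levels.proj 𝔛 h (n + 1) U).hom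
        rw [ker_trans I h p hp n hU, ← _root_.Ideal.map_pow, _root_.Ideal.map_map]
      hπ := fun n => LinearMap.ext fun a => htr n a
      hinj := fun x hx => Levels.ext_of_proj x hx
      hlift := fun y hy => Levels.exists_of_compatible y hy }
  refine ⟨Adic.Limit.isAdicComplete hsys (hI.map _), fun n => ⟨Adic.Limit.surjective hsys n, ?_⟩⟩
  have hk := Adic.Limit.ker_eq hsys (hI.map _) n
  rw [Adic.Complete.pow_mul_top] at hk
  exact hk

include hp hI hU in
/-- Functions on an affine open of an admissible formal scheme form an admissible algebra. -/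
theorem admissible (hR : AdicRing.IsBase R I) (hft : LocallyOfFiniteType ((p : FSch.Hom _ _).app 0))
    (htf : ∀ (V : (𝔛.X 0).Opens) (s : (𝔛.Osh h).obj.obj (op V)),
      (∀ a ∈ (FBlow.IdealSh.ker (𝔛.OshProj h 0)).sect V, a * s = 0) → s = 0) :
    letI := (const I h p U).toAlgebra
    AdicRing.Admissible R I (Levels.A 𝔛 h U) := by
  letI := (const I h p U).toAlgebra
  obtain ⟨hc, hsk⟩ := spec I h p hp hI hU
  haveI : IsAdicComplete (I.map (algebraMap R (Levels.A 𝔛 h U))) (Levels.A 𝔛 h U) := hc
  have hT : AdicRing.NoPowTorsion I (Levels.A 𝔛 h U) := by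
    intro x n
    induction n generalizing x with
    | zero =>
      intro hx
      have := hx 1 (by rw [pow_zero, _root_.Ideal.one_eq_top]; trivial)
      rwa [one_smul] at this
    | succ n ih =>
      intro hx
      refine ih x fun b hb => htf U _ fun a ha => ?_
      have ha' : a ∈ I.map (const I h p U) := by
        rw [← pow_one (I.map (const I h p U)), ← (hsk 0).2]
        exact ha
      refine Submodule.span_induction (p := fun a _ => a * (b • x) = 0) ?_ (zero_mul _)
        (fun u v _ _ hu hv => by rw [add_mul, hu, hv, add_zero])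
        (fun c u _ hu => by rw [smul_eq_mul, mul_assoc, hu, mul_zero]) ha'
      rintro _ ⟨i, hi, rfl⟩
      show const I h p U i * (b • x) = 0
      rw [show const I h p U i * (b • x) = i • (b • x) from (Algebra.smul_def _ _).symm, ← mul_smul]
      exact hx _ (by rw [pow_succ']; exact _root_.Ideal.mul_mem_mul hi hb)
  have hdense : Adic.Bosch.Localization.HasDense R I (Levels.A 𝔛 h U) := by
    have := IdealLemmas.isClosedImmersion_specQuot R I 0
    have hft' : LocallyOfFiniteType (toBase I p 0) := by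
      haveI := hft
      haveI : LocallyOfFiniteType (FSch.spfToSpec R I 0) := inferInstanceAs (LocallyOfFiniteType (CohB1.specQuot I 0))
      infer_instance
    have h0 : (((Levels.proj 𝔛 h 0 U).hom.comp (const I h p U))).FiniteType := by
      have e : (Levels.proj 𝔛 h 0 U).hom.comp (const I h p U) =
          ((toBase I p 0).appLE ⊤ (𝔛.lvU h 0 U) le_top).hom.comp (Scheme.ΓSpecIso (CommRingCat.of R)).inv.hom :=
        RingHom.ext fun a => proj_const I h p 0 U a
      rw [e]
      refine ((toBase I p 0).finiteType_appLE (isAffineOpen_top _) (OshBasic.isAffineOpen_lvU 𝔛 h 0 hU) le_top).comp ?_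
      exact RingHom.FiniteType.of_surjective _ (Scheme.ΓSpecIso (CommRingCat.of R)).symm.commRingCatIsoToRingEquiv.surjective
    letI := ((Levels.proj 𝔛 h 0 U).hom.comp (const I h p U)).toAlgebra
    obtain ⟨n, q, hq⟩ := Algebra.FiniteType.iff_quotient_mvPolynomial''.1 h0
    choose b hb using fun i => (hsk 0).1 (q (MvPolynomial.X i))
    refine ⟨n, b, fun y => ?_⟩
    obtain ⟨P, hP⟩ := hq (Levels.proj 𝔛 h 0 U y)
    refine ⟨P, ?_⟩
    show y - MvPolynomial.aeval b P ∈ I.map (const I h p U)
    rw [← pow_one (I.map (const I h p U)), ← (hsk 0).2, RingHom.mem_ker, map_sub, sub_eq_zero]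
    let proj' : Levels.A 𝔛 h U →ₐ[R] Levels.B 𝔛 h 0 U :=
      { (Levels.proj 𝔛 h 0 U).hom with commutes' := fun _ => rfl }
    refine hP.symm.trans ?_
    show q P = proj' (MvPolynomial.aeval b P)
    rw [MvPolynomial.comp_aeval_apply, MvPolynomial.aeval_unique q]
    congr 1
    refine congrArg _ (funext fun i => ?_)
    exact (hb i).symm
  exact ⟨Adic.Bosch.Basic.topFinitePresentation_of_noPowTorsion hR (Adic.Bosch.Trunc.exists_surjection hI hdense) hT, hT⟩

end Groth.Agent.Lib.FBlowAff.AdmLocal
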