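import Groth.Agent.Lib.FBlowAff.Restrict

/-!
# Levelwise open immersions of formal systems (helper5)
-/

set_option autoImplicit false
set_option linter.style.haveILetI false

universe u

open CategoryTheory CategoryTheory.Limits TopologicalSpace Opposite AlgebraicGeometry
open Groth.Agent.H30

namespace Groth.Agent.Lib.FBlowAff.OpenImm

variable {𝔛 𝔜 : FSch.Sys.{u}} (hX : 𝔛.IsFormal) (hY : 𝔜.IsFormal) (v : 𝔜 ⟶ 𝔛)
  (hv : ∀ n, IsOpenImmersion ((v : FSch.Hom 𝔜 𝔛).app n))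

omit hY hv in
theorem toX_comm : ∀ n, 𝔜.toX n ≫ (v : FSch.Hom 𝔜 𝔛).app n = (v : FSch.Hom 𝔜 𝔛).app 0 ≫ 𝔛.toX n
  | 0 => (Category.id_comp _).trans (Category.comp_id _).symm
  | n + 1 => by
      change (𝔜.toX n ≫ 𝔜.ι n) ≫ (v : FSch.Hom 𝔜 𝔛).app (n + 1) =
        (v : FSch.Hom 𝔜 𝔛).app 0 ≫ 𝔛.toX n ≫ 𝔛.ι n
      rw [Category.assoc, ← (v : FSch.Hom 𝔜 𝔛).comm n, ← Category.assoc, toX_comm n, Category.assoc]

omit hY hv in
theorem lvU_subset_range {W : (𝔛.X 0).Opens}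
    (hW : (W : Set (𝔛.X 0)) ⊆ Set.range ((v : FSch.Hom 𝔜 𝔛).app 0).base) (n : ℕ) :
    (𝔛.lvU hX n W : Set (𝔛.X n)) ⊆ Set.range ((v : FSch.Hom 𝔜 𝔛).app n).base := by
  intro z hz
  obtain ⟨w, hw, rfl⟩ := Unit.exists_preimage_toX hX n hz
  obtain ⟨z₀, hz₀⟩ := hW ((Unit.mem_lvU_zero hX w).1 hw)
  refine ⟨(𝔜.toX n).base z₀, ?_⟩
  rw [← hz₀]
  exact congrArg (fun φ => φ.base z₀) (toX_comm v n)

include hv in
/-- Functions on an open in the image are those on its trace. -/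
theorem bijective_sharp {W : (𝔛.X 0).Opens}
    (hW : (W : Set (𝔛.X 0)) ⊆ Set.range ((v : FSch.Hom 𝔜 𝔛).app 0).base) :
    Function.Bijective ((FSch.Hom.sharp v hY hX).hom.app (op W)) := by
  have hbij : ∀ n, Function.Bijective (((v : FSch.Hom 𝔜 𝔛).app n).appLE (𝔛.lvU hX n W)
      (𝔜.lvU hY n (((v : FSch.Hom 𝔜 𝔛).app 0) ⁻¹ᵁ W))
      (FSch.Hom.lvU_preimage v hY hX n W).ge) := fun n => by
    have := hv n
    have hi : IsIso (((v : FSch.Hom 𝔜 𝔛).app n).app (𝔛.lvU hX n W)) :=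
      Scheme.Hom.isIso_app _ _ fun z hz => lvU_subset_range hX v hW n hz
    have hpre := FSch.Hom.lvU_preimage v hY hX n W
    have : IsIso (((v : FSch.Hom 𝔜 𝔛).app n).appLE (𝔛.lvU hX n W)
        (𝔜.lvU hY n (((v : FSch.Hom 𝔜 𝔛).app 0) ⁻¹ᵁ W)) hpre.ge) := by
      rw [Scheme.Hom.appLE]
      exact IsIso.comp_isIso' inferInstance (by
        rw [show (homOfLE hpre.ge).op = (eqToIso hpre.symm).hom.op from Subsingleton.elim _ _]
        infer_instance)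
    exact ConcreteCategory.bijective_of_isIso _
  refine ⟨(injective_iff_map_eq_zero _).2 fun t ht => Levels.ext_of_proj t fun n => (hbij n).1 ?_, fun s => ?_⟩
  · rw [map_zero]
    refine ((SchIdeal.proj_sharp hX hY v n W t).symm.trans ?_)
    rw [ht]
    exact map_zero _
  · choose y hy using fun n => (hbij n).2 (Levels.proj 𝔜 hY n _ s)
    obtain ⟨t, ht⟩ := Levels.exists_of_compatible (𝔛 := 𝔛) (h := hX) (V := W) y fun n => (hbij n).1 (by
      rw [hy n]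
      conv_rhs => rw [← Levels.proj_trans 𝔜 hY n]
      show _ = Levels.trans 𝔜 hY n _ (Levels.proj 𝔜 hY (n + 1) _ s)
      rw [← hy (n + 1)]
      exact ConcreteCategory.congr_hom
        ((FSch.appLE_comp_appLE_of_eq _ _ _ ((v : FSch.Hom 𝔜 𝔛).comm n) _ _ _ _ _
          ((𝔜.lvU_le hY n _).trans
            (Scheme.Hom.preimage_mono (𝔜.ι n) (FSch.Hom.lvU_preimage v hY hX (n + 1) W).ge))).trans
        (FSch.appLE_comp_appLE_of_eq _ _ _ rfl _ _ _ _ _ _).symm) (y (n + 1)))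
    refine ⟨t, SchIdeal.ext_proj hY (V := ((v : FSch.Hom 𝔜 𝔛).app 0) ⁻¹ᵁ W) _ s fun n => ?_⟩
    refine (SchIdeal.proj_sharp hX hY v n W t).trans ?_
    rw [ht, hy]

end Groth.Agent.Lib.FBlowAff.OpenImm
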