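import Groth.Agent.Lib.FBlowAff.Spf

/-!
# Formal spectra without torsion (helper5)
-/

set_option autoImplicit false
set_option linter.style.haveILetI false

universe u

open CategoryTheory CategoryTheory.Limits TopologicalSpace Opposite AlgebraicGeometry
open Groth.Agent.H30

namespace Groth.Agent.Lib.FBlowAff.SpfTF

attribute [local instance] Spf.algD Spf.isLocD

variable {A : Type u} [CommRing A] (I : _root_.Ideal A)

/-- If being multiplied into a power by all of `I` reflects the filtration up to a shift, no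
section of the formal spectrum is killed by `I`. -/
theorem eq_zero_of_kill (hI : I.FG) (hX : (FSch.spf A I).IsFormal)
    (ha : ∃ e : ℕ, ∀ (N : ℕ) (b : A), (∀ c ∈ I, c * b ∈ I ^ (N + e)) → b ∈ I ^ N)
    (V : ((FSch.spf A I).X 0).Opens) (s : Levels.A (FSch.spf A I) hX V)
    (hs : ∀ c ∈ I, Ideal.r V (Spf.φ I hX c) * s = 0) : s = 0 := by
  classical
  obtain ⟨e, he⟩ := ha
  refine Levels.ext_of_proj s fun n => ?_
  have hp : ∀ n, IsClosedImmersion (FSch.spfToSpec A I n) := fun n =>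
    IdealLemmas.isClosedImmersion_specQuot A I n
  have hcov : ∀ x ∈ V, ∃ f : A, x ∈ FSch.spfToSpec A I 0 ⁻¹ᵁ PrimeSpectrum.basicOpen f ∧
      FSch.spfToSpec A I 0 ⁻¹ᵁ PrimeSpectrum.basicOpen f ≤ V := fun x hx => by
    have := hp 0
    obtain ⟨O, hO, hOV⟩ := (FSch.spfToSpec A I 0).isClosedEmbedding.isEmbedding.isInducing.isOpen_iff.1 V.2
    obtain ⟨_, ⟨f, rfl⟩, hxf, hfO⟩ := Opens.isBasis_iff_nbhd.1 (PrimeSpectrum.isBasis_basic_opens (R := A))
      (show (FSch.spfToSpec A I 0).base x ∈ (⟨O, hO⟩ : (Spec (CommRingCat.of A)).Opens) from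
        (Set.ext_iff.1 hOV x).2 hx)
    exact ⟨f, hxf, fun y hy => (Set.ext_iff.1 hOV y).1 (hfO hy)⟩
  choose! f hxf hfV using hcov
  let W : V → ((FSch.spf A I).X 0).Opens := fun x => FSch.spfToSpec A I 0 ⁻¹ᵁ PrimeSpectrum.basicOpen (f x.1)
  refine TopCat.Sheaf.eq_of_locally_eq' ((FSch.spf A I).levelObj hX n) W V
    (fun x => homOfLE (hfV x.1 x.2)) (fun x hx => Opens.mem_iSup.2 ⟨⟨x, hx⟩, hxf x hx⟩) _ _ fun x => ?_
  refine Eq.trans ?_ (map_zero _).symm
  refine ((ConcreteCategory.congr_hom (((FSch.spf A I).OshProj hX n).hom.naturality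
    (homOfLE (hfV x.1 x.2)).op) s).symm).trans ?_
  show Levels.proj (FSch.spf A I) hX n (W x) (((FSch.spf A I).Osh hX).obj.map (homOfLE (hfV x.1 x.2)).op s) = 0
  have hs' : ∀ c ∈ I, Ideal.r (W x) (Spf.φ I hX c) *
      ((FSch.spf A I).Osh hX).obj.map (homOfLE (hfV x.1 x.2)).op s = 0 := fun c hc => by
    rw [← Ideal.res_r (hfV x.1 x.2) (Spf.φ I hX c), ← map_mul, hs c hc, map_zero]
  generalize ((FSch.spf A I).Osh hX).obj.map (homOfLE (hfV x.1 x.2)).op s = t at hs'
  have := hp (n + e)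
  obtain ⟨y, hy⟩ := Spf.surjective_appLE (FSch.spfToSpec A I (n + e))
    (IsAffineOpen.Spec_basicOpen (R := CommRingCat.of A) (f x.1)) _
    (FSch.lvU_p (FSch.spf A I) hX (fun n => FSch.spfToSpec A I n) (FSch.spfToSpec_comm A I) (n + e) _).ge
    (FSch.lvU_p (FSch.spf A I) hX (fun n => FSch.spfToSpec A I n) (FSch.spfToSpec_comm A I) (n + e) _).le
    (Levels.proj (FSch.spf A I) hX (n + e) (W x) t)
  obtain ⟨⟨b, m⟩, hm⟩ := IsLocalization.surj (Submonoid.powers (f x.1)) y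
  obtain ⟨_, k, rfl⟩ := m
  have hl : ∀ c ∈ I, ∃ l : ℕ, f x.1 ^ l * (c * b) ∈ I ^ (n + e + 1) := fun c hc => by
    have h0 := congrArg (Levels.proj (FSch.spf A I) hX (n + e) (W x)) (hs' c hc)
    rw [map_mul, map_zero, Spf.r_φ, ← hy, ← map_mul, Spf.appLE_spfToSpec_eq_zero_iff] at h0
    have h1 : algebraMap A Γ(Spec (CommRingCat.of A), PrimeSpectrum.basicOpen (f x.1)) (c * b) ∈
        (I ^ (n + e + 1)).map (algebraMap A Γ(Spec (CommRingCat.of A), PrimeSpectrum.basicOpen (f x.1))) := by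
      rw [map_mul, ← hm, ← mul_assoc]
      exact _root_.Ideal.mul_mem_right _ _ h0
    rw [IsLocalization.algebraMap_mem_map_algebraMap_iff (Submonoid.powers (f x.1))] at h1
    obtain ⟨_, ⟨l, rfl⟩, hl⟩ := h1
    exact ⟨l, hl⟩
  choose! l hl using hl
  obtain ⟨S, hS⟩ := hI
  have hSI : ∀ c ∈ S, c ∈ I := fun c hc => hS ▸ Submodule.subset_span hc
  have hmem : f x.1 ^ S.sup l * b ∈ I ^ (n + 1) := he _ _ fun c hc => by
    rw [← hS] at hc
    induction hc using Submodule.span_induction with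
    | mem c hc =>
      have := _root_.Ideal.mul_mem_left (I ^ (n + e + 1)) (f x.1 ^ (S.sup l - l c)) (hl c (hSI c hc))
      rw [← mul_assoc, ← pow_add, Nat.sub_add_cancel (Finset.le_sup (f := l) hc)] at this
      rwa [show n + 1 + e = n + e + 1 by omega, mul_left_comm]
    | zero => rw [zero_mul]; exact Submodule.zero_mem _
    | add c d _ _ hc hd => rw [add_mul]; exact add_mem hc hd
    | smul a c _ hc => rw [smul_eq_mul, mul_assoc]; exact _root_.Ideal.mul_mem_left _ _ hc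
  have hy' : y ∈ (I ^ (n + 1)).map (algebraMap A Γ(Spec (CommRingCat.of A), PrimeSpectrum.basicOpen (f x.1))) := by
    have h2 := _root_.Ideal.mem_map_of_mem
      (algebraMap A Γ(Spec (CommRingCat.of A), PrimeSpectrum.basicOpen (f x.1))) hmem
    rw [map_mul, ← hm, ← mul_assoc, mul_comm _ y, mul_assoc] at h2
    refine (_root_.Ideal.mul_unit_mem_iff_mem _ ?_).1 h2
    exact (IsLocalization.map_units _ (⟨_, S.sup l, rfl⟩ : Submonoid.powers (f x.1))).mul
      (IsLocalization.map_units _ (⟨_, k, rfl⟩ : Submonoid.powers (f x.1)))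
  have hd := Spf.proj_eq_zero_of_add hX (n := n) (e := e)
    (t - SchIdeal.sch hX (fun n => FSch.spfToSpec A I n) (FSch.spfToSpec_comm A I)
      (PrimeSpectrum.basicOpen (f x.1)) y) (by rw [map_sub, SchIdeal.proj_sch, sub_eq_zero]; exact hy.symm)
  rw [map_sub, SchIdeal.proj_sch, sub_eq_zero] at hd
  exact hd.trans ((Spf.appLE_spfToSpec_eq_zero_iff I n (f x.1) hX y).2 hy')

theorem proj_zero_φ (hX : (FSch.spf A I).IsFormal) (V : ((FSch.spf A I).X 0).Opens) {c : A} (hc : c ∈ I) :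
    Levels.proj (FSch.spf A I) hX 0 V (Ideal.r V (Spf.φ I hX c)) = 0 := by
  have h0 : Levels.proj (FSch.spf A I) hX 0 ⊤ (Spf.φ I hX c) = 0 := by
    rw [← Spf.ψOf_id I hX]
    exact Spf.proj_ψOf_eq_zero hX I _ (by rwa [zero_add, pow_one])
  refine (ConcreteCategory.congr_hom (((FSch.spf A I).OshProj hX 0).hom.naturality
    (homOfLE (le_top : V ≤ ⊤)).op) (Spf.φ I hX c)).trans ?_
  show ((FSch.spf A I).levelObj hX 0).obj.map _ (Levels.proj (FSch.spf A I) hX 0 ⊤ (Spf.φ I hX c)) = 0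
  rw [h0]
  exact map_zero _

end Groth.Agent.Lib.FBlowAff.SpfTF
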