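import Groth.Agent.Lib.FBlowAff.LocalChart
import Groth.Agent.Lib.FBlowAff.OpenImm
import Groth.Agent.Lib.FBlowAff.SpfTF
import Mathlib.AlgebraicGeometry.Morphisms.FinitePresentation

/-!
# Admissible formal blowing-ups are admissible (helper5)
-/

set_option autoImplicit false
set_option linter.style.haveILetI false

universe u

open CategoryTheory CategoryTheory.Limits TopologicalSpace Opposite AlgebraicGeometry
open Groth.Agent.H30

namespace Groth.Agent.Lib.FBlowAff.BlowProps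

/-- Without torsion: no section is killed by the ideal of definition. -/
def TF (𝔛 : FSch.Sys.{u}) (h : 𝔛.IsFormal) : Prop :=
  ∀ (U : (𝔛.X 0).Opens) (s : (𝔛.Osh h).obj.obj (op U)),
    (∀ a ∈ (FBlow.IdealSh.ker (𝔛.OshProj h 0)).sect U, a * s = 0) → s = 0

variable {R : Type u} [CommRing R] {I : _root_.Ideal R}

theorem tf_spf (hR : AdicRing.IsBase R I) {B : Type u} [CommRing B] [Algebra R B]
    (hB : AdicRing.Admissible R I B) (hX : (FSch.spf B (I.map (algebraMap R B))).IsFormal) :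
    TF (FSch.spf B (I.map (algebraMap R B))) hX := by
  intro V s hs
  obtain ⟨e, he⟩ := ChartAdm.colon_shift hR hB
  exact SpfTF.eq_zero_of_kill (I.map (algebraMap R B)) ((Groth.Agent.Lib.Adic.Base.isBase_fg hR).map _) hX
    ⟨e, fun N b hb => he N b fun c hc => hb _ (_root_.Ideal.mem_map_of_mem _ hc)⟩ V s
    fun c hc => hs _ (RingHom.mem_ker.2 (SpfTF.proj_zero_φ _ hX V hc))

theorem sMap_finitePresentation (hI : I.FG) {B : Type u} [CommRing B] [Algebra R B]
    (hB : AdicRing.TopFinitePresentation R I B) (hle : I ≤ (I.map (algebraMap R B)).comap (algebraMap R B))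
    (n : ℕ) : (FSch.quotPowMap (I.map (algebraMap R B)) I (algebraMap R B) hle n).FinitePresentation := by
  have h1 := Groth.Agent.Lib.Adic.Bosch.Trunc.finitePresentation_trunc hI hB (n + 1)
  let e := _root_.Ideal.quotEquivOfEq (_root_.Ideal.map_pow (algebraMap R B) I (n + 1))
  have e1 : FSch.quotPowMap (I.map (algebraMap R B)) I (algebraMap R B) hle n =
      e.toRingHom.comp (Groth.Agent.Lib.Adic.Bosch.Trunc.sMap I (n + 1) B) :=
    _root_.Ideal.Quotient.ringHom_ext rfl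
  rw [e1]
  exact (RingHom.FinitePresentation.of_bijective e.bijective).comp h1

/-- S13657. -/
theorem main (hR : AdicRing.IsBase R I) {𝔛 : FSch.Sys.{u}} (h : 𝔛.IsFormal) (p : 𝔛 ⟶ FSch.spf R I)
    (hp : FSch.IsAdicHom p) (hft : LocallyOfFiniteType ((p : FSch.Hom _ _).app 0)) (htf : TF 𝔛 h)
    (J : FBlow.IdealSh (𝔛.Osh h)) (hJ : CohLocal.LocGen h I p J)
    {𝔛' : FSch.Sys.{u}} (h' : 𝔛'.IsFormal) (b : 𝔛' ⟶ 𝔛) (hb : FBlow.IsAdmBlowUp b h' h J) :
    TF 𝔛' h' ∧ ∀ n, LocallyOfFinitePresentation ((b ≫ p : FSch.Hom 𝔛' (FSch.spf R I)).app n) := by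
  have hI := Groth.Agent.Lib.Adic.Base.isBase_fg hR
  refine ⟨fun T s hs => ?_, fun n => ?_⟩
  · refine (Submodule.mem_bot _).1 ((FBlow.IdealSh.bot (𝔛'.Osh h')).mem_of_local fun x' hx' => ?_)
    obtain ⟨B, iB, iA, hB, hle, v, hvoi, hxv, hv⟩ := LocalChart.exists_chart I h p hR hp hft htf J hJ h' b hb x'
    have := hvoi 0
    let W : (𝔛'.X 0).Opens := T ⊓ ((v : FSch.Hom _ 𝔛').app 0).opensRange
    have hW : (W : Set (𝔛'.X 0)) ⊆ Set.range ((v : FSch.Hom _ 𝔛').app 0).base := fun z hz => hz.2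
    refine ⟨W, inf_le_left, ⟨hx', hxv⟩, (Submodule.mem_bot _).2 ?_⟩
    have hB' := LocalChart.isFormal_spf B (I.map (algebraMap R B))
    have hbij := OpenImm.bijective_sharp h' hB' v hvoi hW
    refine hbij.1 (Eq.trans ?_ (map_zero _).symm)
    obtain ⟨e, he⟩ := ChartAdm.colon_shift hR hB
    refine SpfTF.eq_zero_of_kill (I.map (algebraMap R B)) (hI.map _) hB'
      ⟨e, fun N b hb => he N b fun c hc => hb _ (_root_.Ideal.mem_map_of_mem _ hc)⟩ _ _ fun c hc => ?_
    let σ : Levels.A 𝔛' h' W →+* Levels.A (FSch.spf B (I.map (algebraMap R B))) hB'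
        (((v : FSch.Hom _ 𝔛').app 0) ⁻¹ᵁ W) := ((FSch.Hom.sharp v hB' h').hom.app (op W)).hom
    refine Submodule.span_induction (p := fun c _ => Ideal.r (((v : FSch.Hom _ 𝔛').app 0) ⁻¹ᵁ W)
      (Spf.φ _ hB' c) * σ ((𝔛'.Osh h').obj.map (homOfLE (inf_le_left : W ≤ T)).op s) = 0) ?_ ?_ ?_ ?_ hc
    · rintro _ ⟨a, ha, rfl⟩
      have hker : Levels.proj 𝔛' h' 0 T (Ideal.r T (Spf.ψOf h' I (b ≫ p) a)) = 0 := by
        have h0 := Spf.proj_ψOf_eq_zero h' I (b ≫ p) (n := 0) (a := a) (by rwa [zero_add, pow_one])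
        refine (ConcreteCategory.congr_hom ((𝔛'.OshProj h' 0).hom.naturality
          (homOfLE (le_top : T ≤ ⊤)).op) (Spf.ψOf h' I (b ≫ p) a)).trans ?_
        show (𝔛'.levelObj h' 0).obj.map _ (Levels.proj 𝔛' h' 0 ⊤ (Spf.ψOf h' I (b ≫ p) a)) = 0
        rw [h0]
        exact map_zero _
      have h1 := congrArg ((FSch.Hom.sharp v hB' h').hom.app (op W))
        (congrArg ((𝔛'.Osh h').obj.map (homOfLE (inf_le_left : W ≤ T)).op)
          (hs _ (RingHom.mem_ker.2 hker)))
      have h2 : (FSch.Hom.sharp v hB' h').hom.app (op W) (Ideal.r W (Spf.ψOf h' I (b ≫ p) a)) =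
          Ideal.r (((v : FSch.Hom _ 𝔛').app 0) ⁻¹ᵁ W) (Spf.φ _ hB' (algebraMap R B a)) := by
        refine (SchIdeal.res_sharp h' hB' v (le_top : W ≤ ⊤) _).trans ?_
        refine congrArg _ ?_
        refine (Main.ψOf_comp I hB' h' v (b ≫ p) a).symm.trans ?_
        rw [hv, Spf.ψOf_spfMap]
        rfl
      rw [← h2]
      erw [map_mul, map_zero, Ideal.res_r, map_mul, map_zero] at h1
      exact h1
    · rw [map_zero, map_zero, zero_mul]
    · intro x y _ _ hx hy
      rw [map_add, map_add, add_mul, hx, hy, add_zero]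
    · intro z x _ hx
      rw [smul_eq_mul, map_mul, map_mul, mul_assoc, hx, mul_zero]
  · have hchart := LocalChart.exists_chart I h p hR hp hft htf J hJ h' b hb
    choose B iB iA hB hle v hvoi hxv hv using hchart
    let U : 𝔛'.X 0 → (𝔛'.X n).Opens := fun x =>
      haveI := hvoi x n
      ((v x : FSch.Hom _ 𝔛').app n).opensRange
    refine IsZariskiLocalAtSource.of_iSup_eq_top U (top_le_iff.1 fun z _ => Opens.mem_iSup.2 ⟨𝔛'.gInv h' n z, ?_⟩) fun x => ?_
    · have := hvoi (𝔛'.gInv h' n z) 0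
      let W := ((v (𝔛'.gInv h' n z) : FSch.Hom _ 𝔛').app 0).opensRange
      exact OpenImm.lvU_subset_range h' (v (𝔛'.gInv h' n z)) (W := W) (fun _ hy => hy) n
        (show 𝔛'.gInv h' n z ∈ W from hxv _)
    · haveI := hvoi x n
      show LocallyOfFinitePresentation (((v x : FSch.Hom _ 𝔛').app n).opensRange.ι ≫
        ((b ≫ p : FSch.Hom 𝔛' (FSch.spf R I)).app n))
      rw [← Scheme.Hom.isoOpensRange_inv_comp, Category.assoc,
        show ((v x : FSch.Hom _ 𝔛').app n) ≫ ((b ≫ p : FSch.Hom 𝔛' (FSch.spf R I)).app n) =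
          Spec.map (CommRingCat.ofHom (FSch.quotPowMap _ I (algebraMap R (B x)) (hle x) n)) from
            congrArg (fun φ : _ ⟶ FSch.spf R I => (φ : FSch.Hom _ _).app n) (hv x)]
      have : LocallyOfFinitePresentation
          (Spec.map (CommRingCat.ofHom (FSch.quotPowMap _ I (algebraMap R (B x)) (hle x) n))) :=
        (LocallyOfFinitePresentation.SpecMap_iff _).2 (sMap_finitePresentation hI (hB x).1 (hle x) n)
      exact MorphismProperty.comp_mem @LocallyOfFinitePresentation _ _ inferInstance this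

end Groth.Agent.Lib.FBlowAff.BlowProps
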