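import Groth.Agent.Lib.FBlowAff.Spf
import Groth.Agent.Lib.Adic.Bosch.Blow
import Groth.Agent.Lib.Adic.Lift

/-!
# The chart algebra of an admissible formal blowing-up and its universal property (helper5)
-/

set_option autoImplicit false
set_option linter.style.haveILetI false

universe u

open CategoryTheory CategoryTheory.Limits TopologicalSpace Opposite AlgebraicGeometry
open Groth.Agent.H30 Groth.Agent.Lib.Adic.Bosch

namespace Groth.Agent.Lib.FBlowAff.Chart

variable {R : Type u} [CommRing R] {I : _root_.Ideal R} {A : Type u} [CommRing A] [Algebra R A]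
  {r : ℕ} (f : Fin (r + 1) → A) (i : Fin (r + 1))

/-- The torsion ideal of the completed chart. -/
noncomputable abbrev T : _root_.Ideal (AdicRing.chartCompl I f i) :=
  ⨆ n : ℕ, Submodule.torsionBy (AdicRing.chartCompl I f i) (AdicRing.chartCompl I f i)
    (algebraMap A (AdicRing.chartCompl I f i) (f i) ^ n)

theorem mem_T {x : AdicRing.chartCompl I f i} :
    x ∈ T (I := I) f i ↔ ∃ n : ℕ, algebraMap A (AdicRing.chartCompl I f i) (f i) ^ n * x = 0 := by
  rw [T, Submodule.mem_iSup_of_directed]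
  · simp only [Submodule.mem_torsionBy_iff, smul_eq_mul]
  · refine Monotone.directed_le fun m n hmn x hx => ?_
    rw [Submodule.mem_torsionBy_iff, smul_eq_mul] at hx ⊢
    obtain ⟨d, rfl⟩ := Nat.exists_eq_add_of_le hmn
    rw [pow_add, mul_right_comm, hx, zero_mul]

theorem regular_gen (x : AdicRing.chartAdm I f i)
    (hx : x * algebraMap A (AdicRing.chartAdm I f i) (f i) = 0) : x = 0 := by
  obtain ⟨y, rfl⟩ := _root_.Ideal.Quotient.mk_surjective x
  have h1 : y * algebraMap A (AdicRing.chartCompl I f i) (f i) ∈ T (I := I) f i :=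
    _root_.Ideal.Quotient.eq_zero_iff_mem.1 hx
  obtain ⟨n, hn⟩ := (mem_T f i).1 h1
  exact _root_.Ideal.Quotient.eq_zero_iff_mem.2 ((mem_T f i).2 ⟨n + 1, by
    rw [pow_succ, mul_assoc, mul_comm _ y]; exact hn⟩)

/-- The map of the chart algebra to the chart. -/
noncomputable def toAdm : AdicRing.chartAlg f i →+* AdicRing.chartAdm I f i :=
  (_root_.Ideal.Quotient.mk (T (I := I) f i)).comp
    (algebraMap (AdicRing.chartAlg f i) (AdicRing.chartCompl I f i))

theorem toAdm_algebraMap (a : A) :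
    toAdm (I := I) f i (algebraMap A _ a) = algebraMap A (AdicRing.chartAdm I f i) a :=
  congrArg (_root_.Ideal.Quotient.mk (T (I := I) f i))
    (IsScalarTower.algebraMap_apply A (AdicRing.chartAlg f i) (AdicRing.chartCompl I f i) a).symm

theorem exists_dvd_gen (j : Fin (r + 1)) : ∃ z : AdicRing.chartAdm I f i,
    algebraMap A (AdicRing.chartAdm I f i) (f j) = z * algebraMap A (AdicRing.chartAdm I f i) (f i) := by
  rcases eq_or_ne j i with rfl | hj
  · exact ⟨1, (one_mul _).symm⟩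
  · refine ⟨toAdm f i (_root_.Ideal.Quotient.mk _ (MvPolynomial.X ⟨j, hj⟩)), ?_⟩
    rw [← toAdm_algebraMap, ← toAdm_algebraMap, ← map_mul, mul_comm, Blow.chart_rel f i ⟨j, hj⟩]

theorem map_ideal : (I.map (algebraMap R A)).map (algebraMap A (AdicRing.chartAdm I f i)) =
    I.map (algebraMap R (AdicRing.chartAdm I f i)) := by
  rw [_root_.Ideal.map_map, ← IsScalarTower.algebraMap_eq]

theorem shift_of {B : Type u} [CommRing B] (J : _root_.Ideal B) {g : B} (hg : ∀ x, x * g = 0 → x = 0)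
    {k : ℕ} (hk : J ^ k ≤ _root_.Ideal.span {g}) (N : ℕ) (x : B) (hx : g * x ∈ J ^ (N + k)) :
    x ∈ J ^ N := by
  rw [pow_add] at hx
  have h1 := (_root_.Ideal.mul_mono_right hk) hx
  rw [_root_.Ideal.mem_mul_span_singleton] at h1
  obtain ⟨z, hz, he⟩ := h1
  have : z - x = 0 := hg _ (by rw [sub_mul, he, mul_comm, sub_self])
  exact sub_eq_zero.1 this ▸ hz

theorem pow_le_span_of {B : Type u} [CommRing B] (J : _root_.Ideal A) (β : A →+* B) {k : ℕ} {s : Set A}
    (hopen : J ^ k ≤ _root_.Ideal.span s) {g : B} (hs : ∀ a ∈ s, ∃ z, β a = z * g) :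
    J.map β ^ k ≤ _root_.Ideal.span {g} := by
  rw [← _root_.Ideal.map_pow]
  refine (_root_.Ideal.map_mono hopen).trans ?_
  rw [_root_.Ideal.map_span, _root_.Ideal.span_le]
  rintro _ ⟨a, ha, rfl⟩
  obtain ⟨z, hz⟩ := hs a ha
  rw [SetLike.mem_coe, hz]
  exact _root_.Ideal.mul_mem_left _ _ (_root_.Ideal.mem_span_singleton_self _)

theorem shift {k : ℕ} (hopen : (I ^ k).map (algebraMap R A) ≤ _root_.Ideal.span (Set.range f)) :
    ∃ e : ℕ, ∀ (N : ℕ) (x : AdicRing.chartAdm I f i),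
      algebraMap A (AdicRing.chartAdm I f i) (f i) * x ∈ (I.map (algebraMap R (AdicRing.chartAdm I f i))) ^ (N + e) →
        x ∈ (I.map (algebraMap R (AdicRing.chartAdm I f i))) ^ N := by
  refine ⟨k, shift_of _ (regular_gen f i) ?_⟩
  have := pow_le_span_of (I.map (algebraMap R A)) (algebraMap A (AdicRing.chartAdm I f i))
    (by rwa [← _root_.Ideal.map_pow]) (g := algebraMap A (AdicRing.chartAdm I f i) (f i))
    (by rintro _ ⟨j, rfl⟩; exact exists_dvd_gen f i j)
  rwa [map_ideal] at this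

variable {𝔜 : FSch.Sys.{u}} (hY : 𝔜.IsFormal)

theorem exists_algMap (φ₀ : A →+* Levels.A 𝔜 hY ⊤)
    (hdvd : ∀ j, ∃ d, φ₀ (f j) = d * φ₀ (f i)) :
    ∃ h₀ : AdicRing.chartAlg f i →+* Levels.A 𝔜 hY ⊤, ∀ a, h₀ (algebraMap A _ a) = φ₀ a := by
  choose d hd using hdvd
  let g₁ : MvPolynomial {j // j ≠ i} A →+* Levels.A 𝔜 hY ⊤ := MvPolynomial.eval₂Hom φ₀ fun j => d j.1
  have hker : _root_.Ideal.span (Set.range fun j : {j // j ≠ i} =>
      MvPolynomial.C (f i) * MvPolynomial.X j - MvPolynomial.C (f j.1)) ≤ RingHom.ker g₁ := by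
    rw [_root_.Ideal.span_le]
    rintro _ ⟨j, rfl⟩
    simp only [SetLike.mem_coe, RingHom.mem_ker, g₁, map_sub, map_mul, MvPolynomial.eval₂Hom_C,
      MvPolynomial.eval₂Hom_X']
    rw [mul_comm, ← hd, sub_self]
  refine ⟨_root_.Ideal.Quotient.lift _ g₁ fun a ha => hker ha, fun a => ?_⟩
  rw [← _root_.Ideal.Quotient.mk_algebraMap, _root_.Ideal.Quotient.lift_mk, MvPolynomial.algebraMap_eq]
  exact MvPolynomial.eval₂Hom_C _ _ _

theorem exists_complMap {C : Type u} [CommRing C] (J : _root_.Ideal C) (h₀ : C →+* Levels.A 𝔜 hY ⊤)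
    (hJ : ∀ n, ∀ c ∈ J ^ (n + 1), Levels.proj 𝔜 hY n ⊤ (h₀ c) = 0) :
    ∃ h : AdicCompletion J C →+* Levels.A 𝔜 hY ⊤, ∀ c, h (AdicCompletion.of J C c) = h₀ c := by
  let q : ∀ n, AdicCompletion J C →+* Levels.B 𝔜 hY n ⊤ := fun n =>
    (_root_.Ideal.Quotient.lift (J ^ (n + 1)) ((Levels.proj 𝔜 hY n ⊤).hom.comp h₀) (hJ n)).comp
      (AdicCompletion.evalₐ J (n + 1)).toRingHom
  have hq : ∀ n x, Levels.trans 𝔜 hY n ⊤ (q (n + 1) x) = q n x := by
    intro n x
    induction x using AdicCompletion.induction_on with | _ a => ?_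
    simp only [q, RingHom.comp_apply, AlgHom.toRingHom_eq_coe, RingHom.coe_coe, AdicCompletion.evalₐ_mk,
      _root_.Ideal.Quotient.lift_mk]
    refine (ConcreteCategory.congr_hom (Levels.proj_trans 𝔜 hY n ⊤) (h₀ (a.val (n + 1 + 1)))).trans ?_
    have h1 := hJ n _ (_root_.Ideal.Quotient.eq.1 (AdicCompletion.Ideal.mk_eq_mk J (Nat.le_succ (n + 1)) a))
    rw [map_sub, map_sub, sub_eq_zero] at h1
    exact h1
  have hex : ∀ x, ∃ c : Levels.A 𝔜 hY ⊤, ∀ n, Levels.proj 𝔜 hY n ⊤ c = q n x := fun x =>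
    Levels.exists_of_compatible (fun n => q n x) fun n => hq n x
  choose h hh using hex
  let h' : AdicCompletion J C →+* Levels.A 𝔜 hY ⊤ :=
    { toFun := h
      map_one' := SchIdeal.ext_proj hY _ _ fun n => by rw [hh, map_one, map_one]
      map_mul' := fun x y => SchIdeal.ext_proj hY _ _ fun n => by rw [hh, map_mul, map_mul, hh, hh]
      map_zero' := SchIdeal.ext_proj hY _ _ fun n => by rw [hh, map_zero, map_zero]
      map_add' := fun x y => SchIdeal.ext_proj hY _ _ fun n => by rw [hh, map_add, map_add, hh, hh] }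
  refine ⟨h', fun c => SchIdeal.ext_proj hY _ _ fun n => ?_⟩
  refine (hh _ n).trans ?_
  simp only [q, RingHom.comp_apply, AlgHom.toRingHom_eq_coe, RingHom.coe_coe, AdicCompletion.evalₐ_of,
    _root_.Ideal.Quotient.lift_mk]

theorem kill_map {C : Type u} [CommRing C] (J : _root_.Ideal A) (h : C →+* Levels.A 𝔜 hY ⊤) (β : A →+* C)
    (m : ℕ) (hJ : ∀ a ∈ J ^ (m + 1), Levels.proj 𝔜 hY m ⊤ (h (β a)) = 0) :
    ∀ x ∈ J.map β ^ (m + 1), Levels.proj 𝔜 hY m ⊤ (h x) = 0 := by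
  intro x hx
  have hle : J.map β ^ (m + 1) ≤ RingHom.ker ((Levels.proj 𝔜 hY m ⊤).hom.comp h) := by
    rw [← _root_.Ideal.map_pow, _root_.Ideal.map_le_iff_le_comap]
    exact fun a ha => hJ a ha
  exact hle hx

/-- The universal property, for an algebra with the features of the chart. -/
theorem existsUnique_lift_of {B : Type u} [CommRing B] (J : _root_.Ideal A) (JB : _root_.Ideal B)
    (β : A →+* B) (hle : J ≤ JB.comap β) (hJB : J.map β = JB) (g : 𝔜 ⟶ FSch.spf A J)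
    (h : B →+* Levels.A 𝔜 hY ⊤) (hh : h.comp β = Spf.ψOf hY J g)
    {C : Type u} [CommRing C] (t : C →+* B) (hdense : ∀ (x : B) (n : ℕ), ∃ c, x - t c ∈ JB ^ (n + 1))
    (huniq : ∀ h' : B →+* Levels.A 𝔜 hY ⊤, h'.comp β = h.comp β → ∀ c, h' (t c) = h (t c)) :
    ∃! k : 𝔜 ⟶ FSch.spf B JB, k ≫ FSch.spfMap JB J β hle = g := by
  obtain ⟨k, hk⟩ := Spf.exists_ψOf_eq hY JB h fun m x hx =>
    kill_map hY J h β m (fun a ha => by
      rw [show h (β a) = Spf.ψOf hY J g a from RingHom.congr_fun hh a]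
      exact Spf.proj_ψOf_eq_zero hY J g ha) x (by rwa [hJB])
  refine ⟨k, Spf.ψOf_injective hY _ ?_, fun k' hk' => Spf.ψOf_injective hY _ ?_⟩
  · rw [Spf.ψOf_comp_spfMap, hk, hh]
  · refine RingHom.ext fun x => SchIdeal.ext_proj hY _ _ fun n => ?_
    obtain ⟨c, hc⟩ := hdense x n
    have e1 := Spf.proj_ψOf_eq_zero hY _ k' hc
    have e2 := Spf.proj_ψOf_eq_zero hY _ k hc
    rw [map_sub, map_sub, sub_eq_zero] at e1 e2
    rw [e1, e2, hk, huniq _ (by rw [← Spf.ψOf_comp_spfMap hY _ _ _ hle, hk', hh]) c]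

theorem dense (hI : I.FG) (x : AdicRing.chartAdm I f i) (n : ℕ) :
    ∃ c, x - toAdm f i c ∈ (I.map (algebraMap R (AdicRing.chartAdm I f i))) ^ (n + 1) := by
  obtain ⟨y, rfl⟩ := _root_.Ideal.Quotient.mk_surjective x
  obtain ⟨c, hc⟩ := Lib.Adic.Lift.exists_of_sub_mem (C := AdicRing.chartAlg f i) hI y (n + 1)
  have := _root_.Ideal.mem_map_of_mem (_root_.Ideal.Quotient.mk (T (I := I) f i)) hc
  rw [_root_.Ideal.map_pow, _root_.Ideal.map_map, map_sub, Lib.Adic.Lift.of_eq_algebraMap] at this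
  exact ⟨c, this⟩

theorem toAdm_X (j : {j // j ≠ i}) :
    toAdm (I := I) f i (_root_.Ideal.Quotient.mk _ (MvPolynomial.X j)) *
      algebraMap A (AdicRing.chartAdm I f i) (f i) = algebraMap A (AdicRing.chartAdm I f i) (f j.1) := by
  have h1 := congrArg (toAdm (I := I) f i) ((mul_comm _ _).trans (Blow.chart_rel f i j))
  rw [map_mul, toAdm_algebraMap, toAdm_algebraMap] at h1
  exact h1

theorem toAdm_X_mul {D : Type u} [CommRing D] (h h' : AdicRing.chartAdm I f i →+* D)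
    (ha : ∀ a, h' (algebraMap A _ a) = h (algebraMap A _ a)) (j : {j // j ≠ i}) :
    h' (toAdm f i (_root_.Ideal.Quotient.mk _ (MvPolynomial.X j))) * h (algebraMap A _ (f i)) =
      h (toAdm f i (_root_.Ideal.Quotient.mk _ (MvPolynomial.X j))) * h (algebraMap A _ (f i)) := by
  have e' := congrArg h' (toAdm_X (I := I) f i j)
  have e := congrArg h (toAdm_X (I := I) f i j)
  rw [map_mul, ha, ha] at e'
  rw [map_mul] at e
  exact e'.trans e.symm

theorem hom_toAdm_eq {D : Type u} [CommRing D] (h h' : AdicRing.chartAdm I f i →+* D)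
    (he : h'.comp (algebraMap A _) = h.comp (algebraMap A _))
    (hreg : ∀ d : D, d * h (algebraMap A _ (f i)) = 0 → d = 0) (c : AdicRing.chartAlg f i) :
    h' (toAdm f i c) = h (toAdm f i c) := by
  have ha : ∀ a, h' (algebraMap A _ a) = h (algebraMap A _ a) := fun a => RingHom.congr_fun he a
  obtain ⟨p, rfl⟩ := _root_.Ideal.Quotient.mk_surjective c
  induction p using MvPolynomial.induction_on with
  | C a =>
    rw [show (_root_.Ideal.Quotient.mk _ (MvPolynomial.C a) : AdicRing.chartAlg f i) = algebraMap A _ a from rfl,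
      toAdm_algebraMap, ha]
  | add p q hp hq => simp only [map_add, hp, hq]
  | mul_X p j hp =>
    rw [map_mul, map_mul, map_mul, map_mul, hp]
    refine congrArg _ (sub_eq_zero.1 (hreg _ ?_))
    rw [sub_mul, sub_eq_zero]
    exact toAdm_X_mul (I := I) f i h h' ha j

theorem exists_hom (φ₀ : A →+* Levels.A 𝔜 hY ⊤)
    (hkill : ∀ n, ∀ a ∈ (I.map (algebraMap R A)) ^ (n + 1), Levels.proj 𝔜 hY n ⊤ (φ₀ a) = 0)
    (hreg : ∀ d : Levels.A 𝔜 hY ⊤, d * φ₀ (f i) = 0 → d = 0)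
    (hdvd : ∀ j, ∃ d, φ₀ (f j) = d * φ₀ (f i)) :
    ∃ h : AdicRing.chartAdm I f i →+* Levels.A 𝔜 hY ⊤, h.comp (algebraMap A _) = φ₀ := by
  have hreg' : ∀ (N : ℕ) (d : Levels.A 𝔜 hY ⊤), d * φ₀ (f i) ^ N = 0 → d = 0 := by
    intro N
    induction N with
    | zero => intro d hd; rwa [pow_zero, mul_one] at hd
    | succ N ih =>
      intro d hd
      rw [pow_succ, ← mul_assoc] at hd
      exact ih d (hreg _ hd)
  obtain ⟨h₀, h₀a⟩ := exists_algMap f i hY φ₀ hdvd
  have hJ : ∀ n, ∀ c ∈ (I.map (algebraMap R (AdicRing.chartAlg f i))) ^ (n + 1),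
      Levels.proj 𝔜 hY n ⊤ (h₀ c) = 0 := fun n c hc => by
    refine kill_map hY (I.map (algebraMap R A)) h₀ (algebraMap A (AdicRing.chartAlg f i)) n
      (fun a ha => by rw [h₀a]; exact hkill n a ha) c ?_
    rwa [_root_.Ideal.map_map, ← IsScalarTower.algebraMap_eq]
  obtain ⟨h₁, h₁c⟩ := exists_complMap hY _ h₀ hJ
  have h₁a : ∀ a, h₁ (algebraMap A (AdicRing.chartCompl I f i) a) = φ₀ a := fun a => by
    rw [IsScalarTower.algebraMap_apply A (AdicRing.chartAlg f i) (AdicRing.chartCompl I f i),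
      ← Lib.Adic.Lift.of_eq_algebraMap, h₁c, h₀a]
  refine ⟨_root_.Ideal.Quotient.lift (T (I := I) f i) h₁ fun x hx => ?_, RingHom.ext fun a => h₁a a⟩
  obtain ⟨N, hN⟩ := (mem_T f i).1 hx
  have := congrArg h₁ hN
  rw [map_mul, map_pow, h₁a, map_zero, mul_comm] at this
  exact hreg' N _ this

/-- The universal property of the chart. -/
theorem existsUnique_lift (hI : I.FG) (g : 𝔜 ⟶ FSch.spf A (I.map (algebraMap R A)))
    (hreg : Ideal.Regular (Spf.ψOf hY _ g (f i)))
    (hdvd : ∀ j, ∃ d, Spf.ψOf hY _ g (f j) = d * Spf.ψOf hY _ g (f i))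
    (hle : (I.map (algebraMap R A)) ≤
      (I.map (algebraMap R (AdicRing.chartAdm I f i))).comap (algebraMap A (AdicRing.chartAdm I f i))) :
    ∃! k : 𝔜 ⟶ FSch.spf (AdicRing.chartAdm I f i) (I.map (algebraMap R (AdicRing.chartAdm I f i))),
      k ≫ FSch.spfMap (I.map (algebraMap R (AdicRing.chartAdm I f i))) (I.map (algebraMap R A))
        (algebraMap A (AdicRing.chartAdm I f i)) hle = g := by
  have hreg1 : ∀ d, d * Spf.ψOf hY _ g (f i) = 0 → d = 0 := fun d hd => hreg ⊤ d (by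
    rwa [show Ideal.r (⊤ : (𝔜.X 0).Opens) (Spf.ψOf hY _ g (f i)) = Spf.ψOf hY _ g (f i) from
      FBlow.IdealSh.map_id_apply _ _])
  obtain ⟨h, hh⟩ := exists_hom f i hY (Spf.ψOf hY _ g)
    (fun n a ha => Spf.proj_ψOf_eq_zero hY _ g ha) hreg1 hdvd
  refine existsUnique_lift_of hY _ _ _ hle (map_ideal f i) g h hh (toAdm f i) (dense f i hI)
    fun h' he c => hom_toAdm_eq f i h h' he (fun d hd => hreg1 d ?_) c
  rwa [← RingHom.congr_fun hh (f i)]

end Groth.Agent.Lib.FBlowAff.Chart
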