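import Groth.Agent.Lib.FBlowAff.Chart
import Groth.Agent.Lib.Adic.Bosch.Trunc

/-!
# Chart algebras are admissible (helper5)
-/

set_option autoImplicit false
set_option linter.style.haveILetI false

universe u

open Groth.Agent.Lib.Adic Groth.Agent.Lib.Adic.Bosch

namespace Groth.Agent.Lib.FBlowAff.ChartAdm

variable {R : Type u} [CommRing R] {I : Ideal R}

theorem hasDense_finiteType (hI : I.FG) {A C : Type u} [CommRing A] [CommRing C] [Algebra R A] [Algebra A C]
    [Algebra R C] [IsScalarTower R A C] (hA : AdicRing.TopFiniteType R I A) [Algebra.FiniteType A C] :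
    Bosch.Localization.HasDense R I C := by
  classical
  obtain ⟨n, b, hb⟩ := Bosch.Localization.hasDense_of_topFiniteType hI hA
  obtain ⟨m, q, hq⟩ := Algebra.FiniteType.iff_quotient_mvPolynomial''.1 (‹Algebra.FiniteType A C›)
  let gen : Fin (n + m) → C := Fin.append (fun i => algebraMap A C (b i)) (fun j => q (MvPolynomial.X j))
  refine ⟨n + m, gen, fun y => ?_⟩
  obtain ⟨P, rfl⟩ := hq y
  induction P using MvPolynomial.induction_on with
  | C a =>
    obtain ⟨p, hp⟩ := hb a
    refine ⟨MvPolynomial.rename (Fin.castAdd m) p, ?_⟩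
    have h := (Bosch.Localization.map_map_algHom I (IsScalarTower.toAlgHom R A C)).le
      (Ideal.mem_map_of_mem (IsScalarTower.toAlgHom R A C) hp)
    rw [map_sub, MvPolynomial.comp_aeval_apply] at h
    rw [MvPolynomial.aeval_rename, show gen ∘ Fin.castAdd m = fun i => algebraMap A C (b i) from
      funext fun i => Fin.append_left _ _ i, show q (MvPolynomial.C a) = algebraMap A C a from q.commutes a]
    exact h
  | add P Q hP hQ =>
    obtain ⟨p, hp⟩ := hP
    obtain ⟨p', hp'⟩ := hQ
    refine ⟨p + p', ?_⟩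
    rw [map_add, map_add, add_sub_add_comm]
    exact add_mem hp hp'
  | mul_X P j hP =>
    obtain ⟨p, hp⟩ := hP
    refine ⟨p * MvPolynomial.X (Fin.natAdd n j), ?_⟩
    rw [map_mul, map_mul, MvPolynomial.aeval_X, show gen (Fin.natAdd n j) = q (MvPolynomial.X j) from
      Fin.append_right _ _ j, ← sub_mul]
    exact Ideal.mul_mem_right _ _ hp

/-- The chart algebra is admissible. -/
theorem admissible (hR : AdicRing.IsBase R I) {A : Type u} [CommRing A] [Algebra R A]
    (hA : AdicRing.Admissible R I A) {r : ℕ} (f : Fin (r + 1) → A) {k : ℕ}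
    (hopen : (I ^ k).map (algebraMap R A) ≤ Ideal.span (Set.range f)) (i : Fin (r + 1)) :
    AdicRing.Admissible R I (AdicRing.chartAdm I f i) := by
  have hI := Base.isBase_fg hR
  obtain ⟨m, φ, hφ, -⟩ := hA.1
  haveI : Algebra.FiniteType A (AdicRing.chartAlg f i) :=
    Algebra.FiniteType.of_surjective (Ideal.Quotient.mkₐ A _) Ideal.Quotient.mk_surjective
  have hC : AdicRing.TopFiniteType R I (AdicRing.chartCompl I f i) :=
    Bosch.Localization.topFiniteType_completion hI
      (hasDense_finiteType (A := A) hI ⟨m, φ, hφ⟩)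
  have hT : AdicRing.NoPowTorsion I (AdicRing.chartAdm I f i) := by
    intro x n hx
    obtain ⟨y, rfl⟩ := Ideal.Quotient.mk_surjective x
    obtain ⟨s, g, hg⟩ := Submodule.fg_iff_exists_fin_generating_family.1 (hI.pow (n := n))
    have h1 : ∀ j, ∃ N : ℕ, algebraMap A (AdicRing.chartCompl I f i) (f i) ^ N * (g j • y) = 0 := fun j => by
      refine (Chart.mem_T f i).1 (Ideal.Quotient.eq_zero_iff_mem.1 ?_)
      exact hx (g j) (hg ▸ Submodule.subset_span ⟨j, rfl⟩)
    choose N hN using h1
    have h2 : ∀ a ∈ I ^ n, a • (algebraMap A (AdicRing.chartCompl I f i) (f i) ^ Finset.univ.sup N * y) = 0 := by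
      intro a ha
      rw [← hg] at ha
      obtain ⟨c, rfl⟩ := (Submodule.mem_span_range_iff_exists_fun R).1 ha
      rw [Finset.sum_smul]
      refine Finset.sum_eq_zero fun j _ => ?_
      have hle : N j ≤ Finset.univ.sup N := Finset.le_sup (Finset.mem_univ j)
      rw [smul_assoc, ← mul_smul_comm, ← Nat.sub_add_cancel hle, pow_add, mul_assoc, hN, mul_zero, smul_zero]
    obtain ⟨M, hM⟩ := (Blow.torsion_chartCompl hR hA f hopen i _).1 ⟨n, h2⟩
    refine Ideal.Quotient.eq_zero_iff_mem.2 ((Chart.mem_T f i).2 ⟨M + Finset.univ.sup N, ?_⟩)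
    rw [pow_add, mul_assoc, hM]
  have hD : AdicRing.TopFiniteType R I (AdicRing.chartAdm I f i) := by
    obtain ⟨l, χ, hχ⟩ := hC
    exact ⟨l, (Ideal.Quotient.mkₐ R _).comp χ, Ideal.Quotient.mk_surjective.comp hχ⟩
  exact ⟨Basic.topFinitePresentation_of_noPowTorsion hR hD hT, hT⟩

theorem fg_map (hI : I.FG) {A : Type u} [CommRing A] [Algebra R A] : (I.map (algebraMap R A)).FG := hI.map _

/-- Sections killed by the ideal reflect the filtration up to a shift. -/
theorem colon_shift (hR : AdicRing.IsBase R I) {A : Type u} [CommRing A] [Algebra R A]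
    (hA : AdicRing.Admissible R I A) :
    ∃ e : ℕ, ∀ (N : ℕ) (a : A), (∀ c ∈ I, algebraMap R A c * a ∈ I.map (algebraMap R A) ^ (N + e)) →
      a ∈ I.map (algebraMap R A) ^ N := by
  have hI := Base.isBase_fg hR
  obtain ⟨m, φ, hφ, -⟩ := hA.1
  obtain ⟨s, g, hg⟩ := Submodule.fg_iff_exists_fin_generating_family.1 hI
  let L : A →ₗ[A] (Fin s → A) := LinearMap.pi fun j => LinearMap.mulLeft A (algebraMap R A (g j))
  obtain ⟨n₀, hn₀⟩ := ArtinRees.artinRees (M := Fin s → A) hR (⟨m, φ, hφ⟩ : AdicRing.TopFiniteType R I A)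
    (LinearMap.range L)
  refine ⟨n₀, fun N a ha => ?_⟩
  have hinj : Function.Injective L := (injective_iff_map_eq_zero _).2 fun x hx => hA.2 x 1 fun c hc => by
    rw [pow_one, ← hg] at hc
    obtain ⟨d, rfl⟩ := (Submodule.mem_span_range_iff_exists_fun R).1 hc
    rw [Finset.sum_smul]
    refine Finset.sum_eq_zero fun j _ => ?_
    rw [smul_assoc, show g j • x = (L x) j from Algebra.smul_def (g j) x, hx]
    exact smul_zero _
  have e : ∀ (j : ℕ), (I ^ j • (⊤ : Submodule R A)) = ((I.map (algebraMap R A)) ^ j).restrictScalars R :=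
    fun j => by rw [← Ideal.map_pow, Ideal.smul_top_eq_map]
  have h1 : L a ∈ I ^ (N + n₀) • (⊤ : Submodule R (Fin s → A)) := by
    rw [show L a = ∑ j, (LinearMap.single R (fun _ : Fin s => A) j) ((L a) j) from
      (Finset.univ_sum_single (L a)).symm]
    refine Submodule.sum_mem _ fun j _ => ?_
    have hj : (L a) j ∈ I ^ (N + n₀) • (⊤ : Submodule R A) := by
      rw [e]
      exact ha (g j) (hg ▸ Submodule.subset_span ⟨j, rfl⟩)
    have := Submodule.mem_map_of_mem (f := LinearMap.single R (fun _ : Fin s => A) j) hj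
    rw [Submodule.map_smul''] at this
    exact Submodule.smul_mono le_rfl le_top this
  have h2 := hn₀ N ⟨h1, LinearMap.mem_range_self L a⟩
  rw [show (LinearMap.range L).restrictScalars R = (⊤ : Submodule R A).map (L.restrictScalars R) from by
    rw [Submodule.map_top]; rfl, ← Submodule.map_smul''] at h2
  obtain ⟨b, hb, hab⟩ := h2
  rw [show a = b from (hinj hab).symm]
  rw [e] at hb
  exact hb

end Groth.Agent.Lib.FBlowAff.ChartAdm
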