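import Groth.Agent.Lib.FBlowAff.SchIdeal

/-!
# Units among the functions of a formal system (helper5)
-/

set_option autoImplicit false
set_option linter.style.haveILetI false

universe u

open CategoryTheory CategoryTheory.Limits TopologicalSpace Opposite AlgebraicGeometry
open Groth.Agent.H30

namespace Groth.Agent.Lib.FBlowAff.Unit

variable {𝔛 : FSch.Sys.{u}} (h : 𝔛.IsFormal)

theorem mem_lvU_zero {V : (𝔛.X 0).Opens} (x : 𝔛.X 0) : x ∈ 𝔛.lvU h 0 V ↔ x ∈ V := by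
  show 𝔛.gInv h 0 x ∈ V ↔ _
  rw [show 𝔛.gInv h 0 x = x from ConcreteCategory.congr_hom (𝔛.toX_base_gInv h 0) x]

theorem exists_preimage_toX {V : (𝔛.X 0).Opens} (n : ℕ) {z : 𝔛.X n} (hz : z ∈ 𝔛.lvU h n V) :
    ∃ w ∈ 𝔛.lvU h 0 V, (𝔛.toX n).base w = z := by
  obtain ⟨w, hw⟩ := (𝔛.levelHomeo h n).surjective z
  refine ⟨w, (mem_lvU_zero h w).2 ?_, hw⟩
  have hg : 𝔛.gInv h n ((𝔛.toX n).base w) = w := ConcreteCategory.congr_hom (𝔛.toX_base_gInv h n) w
  rw [← hg]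
  exact (show (𝔛.toX n).base w = z from hw).symm ▸ hz

theorem isUnit_of_toZero {n : ℕ} {V : (𝔛.X 0).Opens} {s : Levels.B 𝔛 h n V}
    (hs : IsUnit (Levels.toZero 𝔛 h n V s)) : IsUnit s := by
  refine RingedSpace.isUnit_of_isUnit_germ (𝔛.X n).toRingedSpace _ _ fun z hz => ?_
  refine (Scheme.mem_basicOpen (𝔛.X n) s z hz).1 ?_
  obtain ⟨w, hw, rfl⟩ := exists_preimage_toX h n hz
  show w ∈ (𝔛.toX n) ⁻¹ᵁ ((𝔛.X n).basicOpen s)
  rw [Scheme.preimage_basicOpen]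
  have h1 : w ∈ (𝔛.X 0).basicOpen (Levels.toZero 𝔛 h n V s) := by
    rw [Scheme.basicOpen_of_isUnit (𝔛.X 0) hs]; exact hw
  rw [show Levels.toZero 𝔛 h n V s = (𝔛.X 0).presheaf.map (homOfLE (Levels.toX_preimage 𝔛 h n V)).op
    ((𝔛.toX n).app _ s) from rfl, Scheme.basicOpen_res] at h1
  exact h1.2

/-- A function invertible on the smallest level is invertible. -/
theorem isUnit_of_proj_zero {V : (𝔛.X 0).Opens} (s : Levels.A 𝔛 h V)
    (hs : IsUnit (Levels.proj 𝔛 h 0 V s)) : IsUnit s := by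
  have hn : ∀ n, IsUnit (Levels.proj 𝔛 h n V s) := fun n => isUnit_of_toZero h (by
    rwa [← ConcreteCategory.congr_hom (Levels.proj_toZero 𝔛 h n V) s] at hs)
  choose v hv using fun n => (hn n).exists_left_inv
  obtain ⟨w, hw⟩ := Levels.exists_of_compatible (𝔛 := 𝔛) (h := h) v fun n => by
    refine ((hn n).mul_left_inj).1 ?_
    conv_lhs => rw [← Levels.proj_trans 𝔛 h n V]
    show Levels.trans 𝔛 h n V (v (n + 1)) * Levels.trans 𝔛 h n V (Levels.proj 𝔛 h (n + 1) V s) = _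
    rw [← map_mul, hv, map_one, hv]
  exact IsUnit.of_mul_eq_one_right w (SchIdeal.ext_proj h _ _ fun n => by rw [map_mul, hw, hv, map_one])

theorem proj_res (n : ℕ) {U U' : (𝔛.X 0).Opens} (i : U' ≤ U) (s : Levels.A 𝔛 h U) :
    Levels.proj 𝔛 h n U' ((𝔛.Osh h).obj.map (homOfLE i).op s) =
      (𝔛.X n).presheaf.map (homOfLE (show 𝔛.lvU h n U' ≤ 𝔛.lvU h n U from fun _ hz => i hz)).op
        (Levels.proj 𝔛 h n U s) :=
  ConcreteCategory.congr_hom ((𝔛.OshProj h n).hom.naturality (homOfLE i).op) s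

/-- The open on which a function is invertible. -/
noncomputable def D {V : (𝔛.X 0).Opens} (s : Levels.A 𝔛 h V) : (𝔛.X 0).Opens :=
  (𝔛.X 0).basicOpen (Levels.proj 𝔛 h 0 V s)

theorem D_le {V : (𝔛.X 0).Opens} (s : Levels.A 𝔛 h V) : D h s ≤ V :=
  fun _ hz => (mem_lvU_zero h _).1 ((𝔛.X 0).basicOpen_le _ hz)

theorem isUnit_res_D {V : (𝔛.X 0).Opens} (s : Levels.A 𝔛 h V) :
    IsUnit ((𝔛.Osh h).obj.map (homOfLE (D_le h s)).op s) := by
  refine isUnit_of_proj_zero h _ ?_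
  rw [proj_res h 0 (D_le h s) s]
  have hle : 𝔛.lvU h 0 (D h s) ≤ (𝔛.X 0).basicOpen (Levels.proj 𝔛 h 0 V s) := fun z hz =>
    (mem_lvU_zero h z).1 hz
  rw [← FBlow.sch_map_comp_apply (X := 𝔛.X 0) ((𝔛.X 0).basicOpen_le _) hle]
  exact (RingedSpace.isUnit_res_basicOpen (𝔛.X 0).toRingedSpace _).map _

/-- One of a family of functions generating the unit ideal is invertible near a given point. -/
theorem exists_mem_D {ι : Type} [Fintype ι] {V : (𝔛.X 0).Opens} (b u : ι → Levels.A 𝔛 h V)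
    (hsum : ∑ j, u j * b j = 1) {x : 𝔛.X 0} (hx : x ∈ V) : ∃ j, x ∈ D h (b j) := by
  by_contra hne
  push Not at hne
  let χ := ((𝔛.X 0).presheaf.germ (𝔛.lvU h 0 V) x ((mem_lvU_zero h x).2 hx)).hom.comp
    (Levels.proj 𝔛 h 0 V).hom
  have h1 := congrArg χ hsum
  rw [map_sum, map_one] at h1
  have h2 : χ 1 ∈ IsLocalRing.maximalIdeal _ := by
    rw [map_one, ← h1]
    refine Submodule.sum_mem _ fun j _ => ?_
    rw [map_mul]
    refine _root_.Ideal.mul_mem_left _ _ ((IsLocalRing.mem_maximalIdeal _).2 fun hu => hne j ?_)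
    exact (Scheme.mem_basicOpen (𝔛.X 0) _ x _).2 hu
  rw [map_one] at h2
  exact (IsLocalRing.maximalIdeal.isMaximal _).ne_top ((_root_.Ideal.eq_top_iff_one _).2 h2)

end Groth.Agent.Lib.FBlowAff.Unit
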