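import Groth.Agent.Lib.FBlowAff.AdmLocal
import Groth.Agent.Lib.FBlowAff.Unit

/-!
# Coherent open ideals on affine opens of an admissible formal scheme (helper5)
-/

set_option autoImplicit false
set_option linter.style.haveILetI false

universe u

open CategoryTheory CategoryTheory.Limits TopologicalSpace Opposite AlgebraicGeometry
open Groth.Agent.H30

namespace Groth.Agent.Lib.FBlowAff.CohLocal

variable {𝔛 : FSch.Sys.{u}} (h : 𝔛.IsFormal)

/-- Restriction between sections. -/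
noncomputable abbrev res {U V : (𝔛.X 0).Opens} (i : V ≤ U) : Levels.A 𝔛 h U →+* Levels.A 𝔛 h V :=
  ((𝔛.Osh h).obj.map (homOfLE i).op).hom

/-- Below `U` the ideal sheaf is generated by the ideal `𝔞` of functions on `U`. -/
def HGen (J : FBlow.IdealSh (𝔛.Osh h)) (U : (𝔛.X 0).Opens) (𝔞 : _root_.Ideal (Levels.A 𝔛 h U)) : Prop :=
  (∀ a ∈ 𝔞, a ∈ J.sect U) ∧ ∀ (V : (𝔛.X 0).Opens), V ≤ U → ∀ s ∈ J.sect V, ∀ x ∈ V,
    ∃ (W : (𝔛.X 0).Opens) (e : W ≤ V) (e' : W ≤ U), x ∈ W ∧ res h e s ∈ 𝔞.map (res h e')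

variable {R : Type u} [CommRing R] (I : _root_.Ideal R) (p : 𝔛 ⟶ FSch.spf R I)

/-- Near every point the ideal sheaf is generated by a finitely generated open ideal of functions. -/
def LocGen (J : FBlow.IdealSh (𝔛.Osh h)) : Prop :=
  ∀ x : 𝔛.X 0, ∃ (U : (𝔛.X 0).Opens) (k : ℕ) (𝔞 : _root_.Ideal (Levels.A 𝔛 h U)), x ∈ U ∧ IsAffineOpen U ∧
    𝔞.FG ∧ I.map (AdmLocal.const I h p U) ^ k ≤ 𝔞 ∧ HGen h J U 𝔞

variable (hp : FSch.IsAdicHom p)
  (hI : I.FG)

include hp hI in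
theorem exists_gen (J : FBlow.IdealSh (𝔛.Osh h)) (hJ : FBlow.IsCohOpen 𝔛 h J) (x : 𝔛.X 0) :
    ∃ (U : (𝔛.X 0).Opens) (k : ℕ) (𝔞 : _root_.Ideal (Levels.A 𝔛 h U)), x ∈ U ∧ IsAffineOpen U ∧ 𝔞.FG ∧
      I.map (AdmLocal.const I h p U) ^ k ≤ 𝔞 ∧ HGen h J U 𝔞 := by
  obtain ⟨U₀, hxU₀, n, 𝒜, hfg, hJU⟩ := hJ x
  obtain ⟨U, hU, hxU, hUle⟩ := exists_isAffineOpen_mem_and_subset hxU₀
  obtain ⟨-, hsk⟩ := AdmLocal.spec I h p hp hI hU
  let π := (Levels.proj 𝔛 h n U).hom
  let Un : (𝔛.X n).affineOpens := ⟨_, OshBasic.isAffineOpen_lvU 𝔛 h n hU⟩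
  let 𝔞 : _root_.Ideal (Levels.A 𝔛 h U) := (𝒜.ideal Un).comap π
  have hker : I.map (AdmLocal.const I h p U) ^ (n + 1) ≤ 𝔞 := by
    rw [← (hsk n).2]
    exact fun a ha => (congrArg (· ∈ 𝒜.ideal Un) (show π a = 0 from ha)).mpr (Submodule.zero_mem _)
  have hmem : ∀ a ∈ 𝔞, a ∈ J.sect U := fun a ha => by
    rw [hJU U hUle]
    exact fun y hy => ⟨Un, le_rfl, hy, by
      rw [show (homOfLE (le_refl Un.1)).op = 𝟙 _ from Subsingleton.elim _ _, CategoryTheory.Functor.map_id]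
      exact ha⟩
  refine ⟨U, n + 1, 𝔞, hxU, hU, ?_, hker, hmem, fun V hV s hs y hy => ?_⟩
  · obtain ⟨S, hS⟩ := hfg Un
    obtain ⟨T, hT⟩ := (hI.map (AdmLocal.const I h p U)).pow (n := n + 1)
    classical
    choose lift hlift using (hsk n).1
    refine ⟨S.image lift ∪ T, le_antisymm ?_ fun a ha => ?_⟩
    · rw [Finset.coe_union, _root_.Ideal.span_union, sup_le_iff]
      refine ⟨_root_.Ideal.span_le.2 ?_, hT.le.trans hker⟩
      rw [Finset.coe_image]
      rintro _ ⟨b, hb, rfl⟩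
      show π (lift b) ∈ 𝒜.ideal Un
      rw [show π (lift b) = b from hlift b, ← hS]
      exact Submodule.subset_span hb
    · have h1 : π a ∈ (_root_.Ideal.span ((S.image lift : Finset _) : Set (Levels.A 𝔛 h U))).map π := by
        rw [_root_.Ideal.map_span, Finset.coe_image, Set.image_image]
        have : (fun b => π (lift b)) '' (S : Set _) = (S : Set _) := by
          simp only [show ∀ b, π (lift b) = b from hlift, Set.image_id']
        rw [this]
        exact hS.symm ▸ ha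
      obtain ⟨b, hb, hab⟩ := (_root_.Ideal.mem_map_iff_of_surjective π (hsk n).1).1 h1
      have h2 : a - b ∈ _root_.Ideal.span (T : Set (Levels.A 𝔛 h U)) := by
        rw [show _root_.Ideal.span (T : Set (Levels.A 𝔛 h U)) = _ from hT, ← (hsk n).2]
        exact (RingHom.mem_ker).2 (by rw [map_sub]; exact sub_eq_zero.2 hab.symm)
      rw [Finset.coe_union, _root_.Ideal.span_union, ← sub_add_cancel a b]
      exact Submodule.add_mem _ (Submodule.mem_sup_right h2) (Submodule.mem_sup_left hb)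
  · rw [hJU V (hV.trans hUle)] at hs
    have hy' : (𝔛.gInv h n) (((𝔛.toX n).base y)) = y := ConcreteCategory.congr_hom (𝔛.toX_base_gInv h n) y
    have hyn : (𝔛.toX n).base y ∈ 𝔛.lvU h n V := by
      show 𝔛.gInv h n _ ∈ V
      rw [hy']; exact hy
    obtain ⟨W', i', hyW', hW'⟩ := hs _ hyn
    obtain ⟨W, hW, hyW, hWle⟩ := exists_isAffineOpen_mem_and_subset
      (show y ∈ V ⊓ (𝔛.toX n) ⁻¹ᵁ W'.1 from ⟨hy, hyW'⟩)
    have e : W ≤ V := fun z hz => (hWle hz).1
    have eU : W ≤ U := e.trans hV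
    obtain ⟨-, hskW⟩ := AdmLocal.spec I h p hp hI hW
    let Wn : (𝔛.X n).affineOpens := ⟨_, OshBasic.isAffineOpen_lvU 𝔛 h n hW⟩
    have hWn : Wn.1 ≤ W'.1 := fun z hz => by
      obtain ⟨w, hw, rfl⟩ := Unit.exists_preimage_toX h n hz
      exact (hWle ((Unit.mem_lvU_zero h w).1 hw)).2
    have h1 : Levels.proj 𝔛 h n W (res h e s) ∈ 𝒜.ideal Wn := by
      rw [Unit.proj_res h n e s]
      have := (le_of_eq (𝒜.map_ideal (U := Wn) (V := W') hWn))
        (_root_.Ideal.mem_map_of_mem ((𝔛.X n).presheaf.map (homOfLE hWn).op).hom hW')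
      refine (congrArg (· ∈ 𝒜.ideal Wn) ?_).mp this
      exact FBlow.sch_map_comp_apply i' hWn _
    have h2 : 𝒜.ideal Wn = (𝔞.map (res h eU)).map (Levels.proj 𝔛 h n W).hom := by
      have e1 : (Levels.proj 𝔛 h n W).hom.comp (res h eU) =
          ((𝔛.X n).presheaf.map (homOfLE (Sigma.lvU_mono h n eU)).op).hom.comp π :=
        RingHom.ext fun a => Unit.proj_res h n eU a
      rw [_root_.Ideal.map_map, e1, ← _root_.Ideal.map_map,
        _root_.Ideal.map_comap_of_surjective π (hsk n).1]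
      exact (𝒜.map_ideal (U := Wn) (V := Un) (Sigma.lvU_mono h n eU)).symm
    rw [h2] at h1
    obtain ⟨z, hz, hzs⟩ := (_root_.Ideal.mem_map_iff_of_surjective _ (hskW n).1).1 h1
    refine ⟨W, e, eU, hyW, ?_⟩
    have h3 : res h e s - z ∈ 𝔞.map (res h eU) := by
      have h4 : res h e s - z ∈ I.map (AdmLocal.const I h p W) ^ (n + 1) := by
        rw [← (hskW n).2, RingHom.mem_ker, map_sub]
        exact sub_eq_zero.2 hzs.symm
      rw [show AdmLocal.const I h p W = (res h eU).comp (AdmLocal.const I h p U) from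
        RingHom.ext fun a => (AdmLocal.const_res I h p eU a).symm, ← _root_.Ideal.map_map,
        ← _root_.Ideal.map_pow] at h4
      exact _root_.Ideal.map_mono hker h4
    simpa using add_mem h3 hz

end Groth.Agent.Lib.FBlowAff.CohLocal
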