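import Mathlib.RingTheory.Flat.Basic
import Mathlib.RingTheory.TensorProduct.Basic
import Mathlib.RingTheory.TensorProduct.Quotient

/-!
# Bounded colon ideals survive flat base change (helper5)
-/

set_option autoImplicit false

universe u

open TensorProduct

namespace Groth.Agent.Lib.FBlowAff.ColonBase

variable {A : Type u} [CommRing A] {B : Type u} [CommRing B] [Algebra A B] {C : Type u} [CommRing C]
  [Algebra A C] [Module.Flat A C]

theorem step {s : ℕ} (g : Fin s → B) (K L : Ideal B)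
    (hKL : ∀ b, (∀ j, g j * b ∈ K) → b ∈ L) (x : B ⊗[A] C)
    (hx : ∀ j, (g j ⊗ₜ[A] (1 : C)) * x ∈ K.map (Algebra.TensorProduct.includeLeft (R := A) (S := A) (A := B) (B := C))) :
    x ∈ L.map (Algebra.TensorProduct.includeLeft (R := A) (S := A) (A := B) (B := C)) := by
  classical
  let q : B →ₗ[A] B ⧸ K := (Ideal.Quotient.mkₐ A K).toLinearMap
  let T : B →ₗ[A] (Fin s → B ⧸ K) := LinearMap.pi fun j => q.comp (LinearMap.mulLeft A (g j))
  let Φ := Algebra.TensorProduct.map (Ideal.Quotient.mkₐ A K) (AlgHom.id A C)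
  have hΦ : ∀ y ∈ K.map (Algebra.TensorProduct.includeLeft (R := A) (S := A) (A := B) (B := C)), Φ y = 0 := by
    intro y hy
    refine (show K.map (Algebra.TensorProduct.includeLeft (R := A) (S := A) (A := B) (B := C)) ≤
      RingHom.ker Φ.toRingHom from Ideal.map_le_iff_le_comap.2 fun k hk => ?_) hy
    show Φ (k ⊗ₜ 1) = 0
    rw [Algebra.TensorProduct.map_tmul, Ideal.Quotient.mkₐ_eq_mk, Ideal.Quotient.eq_zero_iff_mem.2 hk, zero_tmul]
  have hcomp : ∀ (j : Fin s) (y : B ⊗[A] C), LinearMap.rTensor C (LinearMap.proj j ∘ₗ T) y =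
      Φ ((g j ⊗ₜ[A] (1 : C)) * y) := by
    intro j y
    induction y with
    | zero => simp
    | tmul b c =>
      rw [LinearMap.rTensor_tmul, Algebra.TensorProduct.tmul_mul_tmul, one_mul, Algebra.TensorProduct.map_tmul]
      rfl
    | add a b ha hb => rw [map_add, mul_add, map_add, ha, hb]
  have hT : LinearMap.rTensor C T x = 0 := by
    have hid : ∀ z : (Fin s → B ⧸ K) ⊗[A] C, z = ∑ j, LinearMap.rTensor C
        (LinearMap.single A (fun _ : Fin s => B ⧸ K) j ∘ₗ LinearMap.proj j) z := by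
      intro z
      induction z with
      | zero => simp
      | tmul m c =>
        simp only [LinearMap.rTensor_tmul, LinearMap.comp_apply, LinearMap.proj_apply]
        rw [← sum_tmul]
        congr 1
        exact (Finset.univ_sum_single m).symm
      | add a b ha hb => conv_lhs => rw [ha, hb]
                         simp only [map_add, Finset.sum_add_distrib]
    rw [hid (LinearMap.rTensor C T x)]
    refine Finset.sum_eq_zero fun j _ => ?_
    rw [← LinearMap.rTensor_comp_apply, LinearMap.comp_assoc, LinearMap.rTensor_comp_apply, hcomp, hΦ _ (hx j),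
      map_zero]
  obtain ⟨w, rfl⟩ := ((Module.Flat.rTensor_exact C (LinearMap.exact_subtype_ker_map T)) x).1 hT
  clear hT hx
  induction w with
  | zero => simp
  | tmul b c =>
    rw [LinearMap.rTensor_tmul, show (LinearMap.ker T).subtype b ⊗ₜ[A] c =
      Algebra.TensorProduct.includeLeft (R := A) (S := A) (A := B) (B := C) b.1 * ((1 : B) ⊗ₜ[A] c) by
        simp]
    refine Ideal.mul_mem_right _ _ (Ideal.mem_map_of_mem _ (hKL _ fun j => ?_))
    exact Ideal.Quotient.eq_zero_iff_mem.1 (congrFun b.2 j)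
  | add a b ha hb => rw [map_add]; exact add_mem ha hb

/-- The colon bound after a flat base change. -/
theorem colon_shift {R : Type u} [CommRing R] (I : Ideal R) (hI : I.FG) (ρ : R →+* B) {e : ℕ}
    (hB : ∀ (N : ℕ) (b : B), (∀ c ∈ I, ρ c * b ∈ I.map ρ ^ (N + e)) → b ∈ I.map ρ ^ N)
    (ρ' : R →+* B ⊗[A] C)
    (hρ' : ρ' = (Algebra.TensorProduct.includeLeft (R := A) (S := A) (A := B) (B := C)).toRingHom.comp ρ)
    (N : ℕ) (x : B ⊗[A] C) (hx : ∀ c ∈ I, ρ' c * x ∈ I.map ρ' ^ (N + e)) : x ∈ I.map ρ' ^ N := by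
  subst hρ'
  obtain ⟨s, g, hg⟩ := Submodule.fg_iff_exists_fin_generating_family.1 hI
  rw [← Ideal.map_map, ← Ideal.map_pow] at hx ⊢
  refine step (fun j => ρ (g j)) (I.map ρ ^ (N + e)) (I.map ρ ^ N) (fun b hb => hB N b fun c hc => ?_) x
    fun j => hx (g j) (hg ▸ Submodule.subset_span ⟨j, rfl⟩)
  rw [← hg] at hc
  obtain ⟨d, rfl⟩ := (Submodule.mem_span_range_iff_exists_fun R).1 hc
  rw [map_sum, Finset.sum_mul]
  refine Submodule.sum_mem _ fun j _ => ?_
  rw [smul_eq_mul, map_mul, mul_assoc]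
  exact Ideal.mul_mem_left _ _ (hb j)

end Groth.Agent.Lib.FBlowAff.ColonBase
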