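import Groth.Agent.Lib.FBlowAff.Sigma
import Groth.Agent.Lib.FBlowAff.Chart
import Groth.Agent.Lib.Ideal.EffCartier

/-!
# The centre is invertible on the completion of a blowing-up (helper5)
-/

set_option autoImplicit false
set_option linter.style.haveILetI false

universe u

open CategoryTheory CategoryTheory.Limits TopologicalSpace Opposite AlgebraicGeometry
open Groth.Agent.H30

namespace Groth.Agent.Lib.FBlowAff.CompletionInv

/-- A section which is locally a multiple of a regular section on an open is a multiple. -/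
theorem exists_mul_of_local_on {T : TopCat.{u}} {O : Sheaf (Opens.grothendieckTopology T) CommRingCat.{u}}
    {U : Opens T} (g : O.obj.obj (op U))
    (hg : ∀ (V : Opens T) (e : V ≤ U) (t : O.obj.obj (op V)), t * O.obj.map (homOfLE e).op g = 0 → t = 0)
    (s : O.obj.obj (op U))
    (h : ∀ x ∈ U, ∃ (V : Opens T) (e : V ≤ U) (t : O.obj.obj (op V)),
      x ∈ V ∧ O.obj.map (homOfLE e).op s = t * O.obj.map (homOfLE e).op g) :
    ∃ t : O.obj.obj (op U), s = t * g := by
  choose V i t hxV ht using h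
  let W : U → Opens T := fun x => V x.1 x.2
  let O' : TopCat.Sheaf CommRingCat.{u} T := O
  have hcompat : TopCat.Presheaf.IsCompatible O'.1 W fun x => t x.1 x.2 := fun a b => by
    refine sub_eq_zero.1 (hg _ (inf_le_left.trans (i a.1 a.2)) _ ?_)
    rw [sub_mul, sub_eq_zero]
    show O.obj.map (homOfLE (inf_le_left : W a ⊓ W b ≤ W a)).op (t a.1 a.2) *
        O.obj.map (homOfLE ((inf_le_left : W a ⊓ W b ≤ W a).trans (i a.1 a.2))).op g =
      O.obj.map (homOfLE (inf_le_right : W a ⊓ W b ≤ W b)).op (t b.1 b.2) *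
        O.obj.map (homOfLE ((inf_le_left : W a ⊓ W b ≤ W a).trans (i a.1 a.2))).op g
    conv_lhs => rw [← FBlow.IdealSh.map_comp_apply (i a.1 a.2) inf_le_left g, ← map_mul, ← ht,
      FBlow.IdealSh.map_comp_apply]
    conv_rhs => rw [← FBlow.IdealSh.map_comp_apply (i b.1 b.2) inf_le_right g, ← map_mul, ← ht,
      FBlow.IdealSh.map_comp_apply]
  obtain ⟨s', hs', -⟩ := O'.existsUnique_gluing' W U (fun x => homOfLE (i x.1 x.2))
    (fun x hx => Opens.mem_iSup.2 ⟨⟨x, hx⟩, hxV x hx⟩) _ hcompat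
  refine ⟨s', TopCat.Sheaf.eq_of_locally_eq' O' W U (fun x => homOfLE (i x.1 x.2))
    (fun x hx => Opens.mem_iSup.2 ⟨⟨x, hx⟩, hxV x hx⟩) s (s' * g) fun x => ?_⟩
  show O.obj.map (homOfLE (i x.1 x.2)).op s = O.obj.map (homOfLE (i x.1 x.2)).op (s' * g)
  rw [map_mul, ht]
  exact congrArg (· * _) (hs' x).symm

variable {P : Scheme.{u}} (K : P.IdealSheafData) (hP : (FSch.completionAlong P K).IsFormal)

theorem proj_res_θ (n : ℕ) {W D : P.Opens} (hDW : D ≤ W) {V : ((FSch.completionAlong P K).X 0).Opens}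
    (e : V ≤ FSch.completionToX P K 0 ⁻¹ᵁ W) (eD : V ≤ FSch.completionToX P K 0 ⁻¹ᵁ D) (w : Γ(P, W)) :
    Levels.proj (FSch.completionAlong P K) hP n V
        (Sigma.θ hP (FSch.completionToX P K) (FSch.completionToX_comm P K) e w) =
      (FSch.completionToX P K n).appLE D _
        (Sigma.lvU_le_preimage hP (FSch.completionToX P K) n eD (FSch.completionToX_comm P K))
        (P.presheaf.map (homOfLE hDW).op w) := by
  rw [← ConcreteCategory.comp_apply, Sigma.proj_θ, ← ConcreteCategory.comp_apply, Scheme.Hom.map_appLE]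

/-- A function regular on an affine open, with a power of the ideal inside its multiples, is regular
on the completion. -/
theorem regular_θ {W : P.affineOpens} (w : Γ(P, W.1)) (hw : w ∈ nonZeroDivisors Γ(P, W.1)) {k : ℕ}
    (hk : K.ideal W ^ k ≤ _root_.Ideal.span {w})
    (V : ((FSch.completionAlong P K).X 0).Opens) (e : V ≤ FSch.completionToX P K 0 ⁻¹ᵁ W.1)
    (t : Levels.A (FSch.completionAlong P K) hP V)
    (ht : t * Sigma.θ hP (FSch.completionToX P K) (FSch.completionToX_comm P K) e w = 0) : t = 0 := by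
  refine Levels.ext_of_proj t fun n => ?_
  have hp : ∀ n, IsClosedImmersion (FSch.completionToX P K n) := fun n =>
    IdealLemmas.isClosedImmersion_completionToX P K n
  have hcov : ∀ x ∈ V, ∃ f : Γ(P, W.1), x ∈ FSch.completionToX P K 0 ⁻¹ᵁ P.basicOpen f ∧
      FSch.completionToX P K 0 ⁻¹ᵁ P.basicOpen f ≤ V := fun x hx => by
    have := hp 0
    obtain ⟨O, hO, hOV⟩ := (FSch.completionToX P K 0).isClosedEmbedding.isEmbedding.isInducing.isOpen_iff.1 V.2
    obtain ⟨f, hfO, hxf⟩ := W.2.exists_basicOpen_le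
      (V := (⟨O, hO⟩ : P.Opens))
      ⟨(FSch.completionToX P K 0).base x, show (FSch.completionToX P K 0).base x ∈ O from
        (Set.ext_iff.1 hOV x).2 hx⟩ (e hx)
    exact ⟨f, hxf, fun y hy => (Set.ext_iff.1 hOV y).1 (hfO hy)⟩
  choose! f hxf hfV using hcov
  let V₁ : V → ((FSch.completionAlong P K).X 0).Opens := fun x =>
    FSch.completionToX P K 0 ⁻¹ᵁ P.basicOpen (f x.1)
  refine TopCat.Sheaf.eq_of_locally_eq' ((FSch.completionAlong P K).levelObj hP n) V₁ V
    (fun x => homOfLE (hfV x.1 x.2)) (fun x hx => Opens.mem_iSup.2 ⟨⟨x, hx⟩, hxf x hx⟩) _ _ fun x => ?_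
  refine Eq.trans ?_ (map_zero _).symm
  refine ((ConcreteCategory.congr_hom (((FSch.completionAlong P K).OshProj hP n).hom.naturality
    (homOfLE (hfV x.1 x.2)).op) t).symm).trans ?_
  show Levels.proj (FSch.completionAlong P K) hP n (V₁ x)
    (((FSch.completionAlong P K).Osh hP).obj.map (homOfLE (hfV x.1 x.2)).op t) = 0
  let D : P.affineOpens := ⟨P.basicOpen (f x.1), W.2.basicOpen (f x.1)⟩
  have hDW : D.1 ≤ W.1 := P.basicOpen_le _
  have ht' := congrArg (((FSch.completionAlong P K).Osh hP).obj.map (homOfLE (hfV x.1 x.2)).op) ht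
  rw [map_mul, map_zero] at ht'
  have hθ : ((FSch.completionAlong P K).Osh hP).obj.map (homOfLE (hfV x.1 x.2)).op
      (Sigma.θ hP (FSch.completionToX P K) (FSch.completionToX_comm P K) e w) =
      Sigma.θ hP (FSch.completionToX P K) (FSch.completionToX_comm P K) ((hfV x.1 x.2).trans e) w :=
    FBlow.IdealSh.map_comp_apply e (hfV x.1 x.2) _
  rw [hθ] at ht'
  generalize ((FSch.completionAlong P K).Osh hP).obj.map (homOfLE (hfV x.1 x.2)).op t = s at ht' ⊢
  -- the level `n + k`
  have := hp (n + k)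
  have hlv : ∀ j, (FSch.completionToX P K j) ⁻¹ᵁ D.1 = (FSch.completionAlong P K).lvU hP j (V₁ x) := fun j =>
    FSch.lvU_p (FSch.completionAlong P K) hP _ (FSch.completionToX_comm P K) j D.1
  have hzero : ∀ j (y : Γ(P, D.1)), (FSch.completionToX P K j).appLE D.1 _ (hlv j).ge y = 0 ↔
      y ∈ K.ideal D ^ (j + 1) := fun j y => by
    have := hp j
    rw [← Pi.pow_apply, ← Scheme.IdealSheafData.ideal_pow, ← IdealLemmas.ker_completionToX P K j,
      Scheme.Hom.ker_apply, ← Levels.ker_appLE_eq (FSch.completionToX P K j) D.1 _ (hlv j).ge (hlv j).le]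
    exact Iff.rfl
  obtain ⟨y, hy⟩ := Spf.surjective_appLE (FSch.completionToX P K (n + k)) D.2 _ (hlv (n + k)).ge
    (hlv (n + k)).le (Levels.proj (FSch.completionAlong P K) hP (n + k) (V₁ x) s)
  have h0 := congrArg (Levels.proj (FSch.completionAlong P K) hP (n + k) (V₁ x)) ht'
  rw [map_mul, map_zero, proj_res_θ K hP (n + k) hDW _ (le_refl (V₁ x)), ← hy] at h0
  erw [← map_mul, hzero] at h0
  have hkD : K.ideal D ^ k ≤ _root_.Ideal.span {P.presheaf.map (homOfLE hDW).op w} := by
    rw [← K.map_ideal (U := D) (V := W) hDW, ← _root_.Ideal.map_pow]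
    refine (_root_.Ideal.map_mono hk).trans ?_
    rw [_root_.Ideal.map_span, Set.image_singleton]
    exact le_rfl
  have hnzd := Groth.Agent.Lib.Ideal.EffCartier.res_mem_nonZeroDivisors W.2 hDW hw
  rw [mul_comm, show n + k + 1 = n + 1 + k by omega] at h0
  have hy' := Chart.shift_of (K.ideal D) (fun z hz => (mem_nonZeroDivisors_iff.1 hnzd).2 z hz) hkD _ _ h0
  -- descend to the level `n`
  have hd := Spf.proj_eq_zero_of_add hP (n := n) (e := k)
    (s - SchIdeal.sch hP (FSch.completionToX P K) (FSch.completionToX_comm P K) D.1 y)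
    (by rw [map_sub, SchIdeal.proj_sch, sub_eq_zero]; exact hy.symm)
  rw [map_sub, SchIdeal.proj_sch, sub_eq_zero] at hd
  exact hd.trans ((hzero n y).2 hy')

/-- The centre generates an invertible ideal on the completion of the blowing-up. -/
theorem isInvertible {A : Type u} [CommRing A] {J 𝔞 : _root_.Ideal A} {k : ℕ} (hk : J ^ k ≤ 𝔞)
    (q : P ⟶ Spec (CommRingCat.of A)) (hK : K = (FSch.idealSpec A J).comap q)
    (hq : BlowUp.IsEffCartierIdeal ((FSch.idealSpec A 𝔞).comap q))
    (q' : ∀ n, (FSch.completionAlong P K).X n ⟶ Spec (CommRingCat.of A))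
    (hq'c : ∀ n, (FSch.completionAlong P K).ι n ≫ q' (n + 1) = q' n)
    (hq' : ∀ n, FSch.completionToX P K n ≫ q = q' n) :
    (Ideal.gens (SchIdeal.φq hP q' hq'c '' (𝔞 : Set A))).IsInvertible := by
  intro x
  obtain ⟨W, hxW, -, w, hw, hideal⟩ := Groth.Agent.Lib.Ideal.EffCartier.exists_gen hq
    ((FSch.completionToX P K 0).base x) (W := ⊤) trivial
  let α : A →+* Γ(P, W.1) :=
    ((Scheme.ΓSpecIso (CommRingCat.of A)).inv ≫ q.appLE ⊤ W.1 le_top).hom
  have hcomap : ∀ I : _root_.Ideal A, ((FSch.idealSpec A I).comap q).ideal W = I.map α := fun I => by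
    rw [Groth.Agent.Lib.Ideal.Comap.ideal_comap q _ ⟨⊤, isAffineOpen_top _⟩ W le_top,
      IdealLemmas.idealSpec_ideal_top, _root_.Ideal.map_map]
    rfl
  rw [hcomap] at hideal
  have hKk : K.ideal W ^ k ≤ _root_.Ideal.span {w} := by
    rw [hK, hcomap, ← _root_.Ideal.map_pow, ← hideal]
    exact _root_.Ideal.map_mono hk
  let U := FSch.completionToX P K 0 ⁻¹ᵁ W.1
  let w' := Sigma.θ hP (FSch.completionToX P K) (FSch.completionToX_comm P K) (le_refl U) w
  have hθα : ∀ a, Sigma.θ hP (FSch.completionToX P K) (FSch.completionToX_comm P K) (le_refl U) (α a) =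
      Ideal.r U (SchIdeal.φq hP q' hq'c a) := fun a =>
    Sigma.θ_appLE hP q' hq'c _ (FSch.completionToX_comm P K) q hq' (le_refl U) a
  have hmap : 𝔞.map ((Ideal.r U).comp (SchIdeal.φq hP q' hq'c)) = _root_.Ideal.span {w'} := by
    rw [show (Ideal.r U).comp (SchIdeal.φq hP q' hq'c) =
      (Sigma.θ hP (FSch.completionToX P K) (FSch.completionToX_comm P K) (le_refl U)).hom.comp α from
        RingHom.ext fun a => (hθα a).symm, ← _root_.Ideal.map_map, hideal, _root_.Ideal.map_span,
      Set.image_singleton]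
  have hmem : w' ∈ (Ideal.gens (SchIdeal.φq hP q' hq'c '' (𝔞 : Set A))).sect U := by
    have : 𝔞.map ((Ideal.r U).comp (SchIdeal.φq hP q' hq'c)) ≤
        (Ideal.gens (SchIdeal.φq hP q' hq'c '' (𝔞 : Set A))).sect U :=
      _root_.Ideal.map_le_iff_le_comap.2 fun a ha => Ideal.r_mem_gens (Set.mem_image_of_mem _ ha) U
    exact this (hmap ▸ _root_.Ideal.mem_span_singleton_self _)
  have hreg : ∀ (V : ((FSch.completionAlong P K).X 0).Opens) (i : V ≤ U)
      (t : Levels.A (FSch.completionAlong P K) hP V),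
      t * ((FSch.completionAlong P K).Osh hP).obj.map (homOfLE i).op w' = 0 → t = 0 := fun V i t ht => by
    refine regular_θ K hP w hw hKk V i t ?_
    have e : ((FSch.completionAlong P K).Osh hP).obj.map (homOfLE i).op w' =
        Sigma.θ hP (FSch.completionToX P K) (FSch.completionToX_comm P K) i w :=
      FBlow.IdealSh.map_comp_apply (le_refl U) i _
    rwa [← e]
  refine ⟨U, hxW, w', hmem, fun V i => ⟨hreg V i, fun s hs => ?_⟩⟩
  refine exists_mul_of_local_on _ (fun V' e t ht => hreg V' (e.trans i) t ?_) s fun y hy => ?_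
  · rwa [FBlow.IdealSh.map_comp_apply] at ht
  · obtain ⟨V', e, hyV', hV'⟩ := Ideal.exists_span_of_mem hs hy
    have hle : _root_.Ideal.span (Ideal.r V' '' (SchIdeal.φq hP q' hq'c '' (𝔞 : Set A))) ≤
        _root_.Ideal.span {((FSch.completionAlong P K).Osh hP).obj.map (homOfLE (e.trans i)).op w'} := by
      rw [_root_.Ideal.span_le]
      rintro _ ⟨_, ⟨a, ha, rfl⟩, rfl⟩
      have h1 : Ideal.r U (SchIdeal.φq hP q' hq'c a) ∈ _root_.Ideal.span {w'} :=
        hmap ▸ _root_.Ideal.mem_map_of_mem ((Ideal.r U).comp (SchIdeal.φq hP q' hq'c)) ha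
      obtain ⟨d, hd⟩ := _root_.Ideal.mem_span_singleton'.1 h1
      refine _root_.Ideal.mem_span_singleton'.2
        ⟨((FSch.completionAlong P K).Osh hP).obj.map (homOfLE (e.trans i)).op d, ?_⟩
      rw [← map_mul, hd, Ideal.res_r]
    obtain ⟨d, hd⟩ := _root_.Ideal.mem_span_singleton'.1 (hle hV')
    exact ⟨V', e, d, hyV', by rw [FBlow.IdealSh.map_comp_apply]; exact hd.symm⟩

end Groth.Agent.Lib.FBlowAff.CompletionInv
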