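import Groth.Agent.Lib.FBlowAff.Good
import Groth.Agent.Lib.FBlowAff.CompletionInv

/-!
# Products of ideal sheaves of a formal system (helper5)
-/

set_option autoImplicit false
set_option linter.style.haveILetI false

universe u

open CategoryTheory CategoryTheory.Limits TopologicalSpace Opposite AlgebraicGeometry
open Groth.Agent.H30

namespace Groth.Agent.Lib.FBlowAff.MulInv

section Map

variable {𝔛 𝔜 : FSch.Sys.{u}} (hX : 𝔛.IsFormal) (hY : 𝔜.IsFormal) (g : 𝔜 ⟶ 𝔛)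
  (J K : FBlow.IdealSh (𝔛.Osh hX))

theorem mem_mul {𝔚 : FSch.Sys.{u}} {hW : 𝔚.IsFormal} {J K : FBlow.IdealSh (𝔚.Osh hW)} {U : (𝔚.X 0).Opens}
    {a b : Levels.A 𝔚 hW U} (ha : a ∈ J.sect U) (hb : b ∈ K.sect U) :
    a * b ∈ (FBlow.IdealSh.mul J K).sect U :=
  FBlow.IdealSh.subset_gen _ U ⟨a, ha, b, hb, rfl⟩

theorem idealMap_mul : FBlow.idealMap g hY hX (FBlow.IdealSh.mul J K) =
    FBlow.IdealSh.mul (FBlow.idealMap g hY hX J) (FBlow.idealMap g hY hX K) := by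
  refine Ideal.ext_of_le (FBlow.IdealSh.map_le fun W a ha V j => ?_) (FBlow.IdealSh.gen_le fun W => ?_)
  · refine FBlow.IdealSh.mem_of_local _ fun y hy => ?_
    obtain ⟨U', i, hyU', hU'⟩ := ha (((g : FSch.Hom 𝔜 𝔛).app 0).base y) (j hy)
    refine ⟨V ⊓ ((g : FSch.Hom 𝔜 𝔛).app 0) ⁻¹ᵁ U', inf_le_left, ⟨hy, hyU'⟩, ?_⟩
    let σ : Levels.A 𝔛 hX U' →+* Levels.A 𝔜 hY (((g : FSch.Hom 𝔜 𝔛).app 0) ⁻¹ᵁ U') :=
      ((FSch.Hom.sharp g hY hX).hom.app (op U')).hom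
    have h1 : σ ((𝔛.Osh hX).obj.map (homOfLE i).op a) ∈
        (FBlow.IdealSh.mul (FBlow.idealMap g hY hX J) (FBlow.idealMap g hY hX K)).sect
          (((g : FSch.Hom 𝔜 𝔛).app 0) ⁻¹ᵁ U') := by
      refine (show _root_.Ideal.span _ ≤ _root_.Ideal.comap σ
        ((FBlow.IdealSh.mul (FBlow.idealMap g hY hX J) (FBlow.idealMap g hY hX K)).sect _) from ?_) hU'
      rw [_root_.Ideal.span_le]
      rintro _ ⟨W', j', _, ⟨a', ha', b', hb', rfl⟩, rfl⟩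
      rw [SetLike.mem_coe, _root_.Ideal.mem_comap, map_mul, map_mul]
      refine mem_mul ?_ ?_
      · exact (congrArg (· ∈ _) (SchIdeal.res_sharp hX hY g j' a')).mpr
          (FBlow.IdealSh.image_mem_map ((g : FSch.Hom 𝔜 𝔛).app 0).base (FSch.Hom.sharp g hY hX) J ha'
            (Scheme.Hom.preimage_mono _ j'))
      · exact (congrArg (· ∈ _) (SchIdeal.res_sharp hX hY g j' b')).mpr
          (FBlow.IdealSh.image_mem_map ((g : FSch.Hom 𝔜 𝔛).app 0).base (FSch.Hom.sharp g hY hX) K hb'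
            (Scheme.Hom.preimage_mono _ j'))
    have h2 := (FBlow.IdealSh.mul (FBlow.idealMap g hY hX J) (FBlow.idealMap g hY hX K)).map_mem
      (inf_le_right : V ⊓ ((g : FSch.Hom 𝔜 𝔛).app 0) ⁻¹ᵁ U' ≤ _) h1
    refine (congrArg (· ∈ _) ?_).mpr h2
    rw [FBlow.IdealSh.map_comp_apply]
    refine Eq.trans ?_ (congrArg _ (SchIdeal.res_sharp hX hY g i a)).symm
    exact (FBlow.IdealSh.map_comp_apply (Scheme.Hom.preimage_mono _ i) inf_le_right _).symm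
  · rintro _ ⟨a, ha, b, hb, rfl⟩
    refine FBlow.IdealSh.mem_of_local _ fun y hy => ?_
    obtain ⟨V₁, e₁, hy₁, h₁⟩ := ha y hy
    obtain ⟨V₂, e₂, hy₂, h₂⟩ := hb y hy
    refine ⟨V₁ ⊓ V₂, inf_le_left.trans e₁, ⟨hy₁, hy₂⟩, ?_⟩
    have hle : ∀ (L : FBlow.IdealSh (𝔛.Osh hX)) (V₀ : (𝔜.X 0).Opens) (e₀ : V₁ ⊓ V₂ ≤ V₀) {t : Levels.A 𝔜 hY V₀},
        t ∈ _root_.Ideal.span (FBlow.IdealSh.seed (fun V => {z | ∃ (U : (𝔛.X 0).Opens)
          (j : V ≤ ((g : FSch.Hom 𝔜 𝔛).app 0) ⁻¹ᵁ U), ∃ s ∈ L.sect U,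
            z = (𝔜.Osh hY).obj.map (homOfLE j).op ((FSch.Hom.sharp g hY hX).hom.app (op U) s)}) V₀) →
        (𝔜.Osh hY).obj.map (homOfLE e₀).op t ∈ _root_.Ideal.span
          {z | ∃ (U : (𝔛.X 0).Opens) (j : V₁ ⊓ V₂ ≤ ((g : FSch.Hom 𝔜 𝔛).app 0) ⁻¹ᵁ U),
            ∃ s ∈ L.sect U, z = (𝔜.Osh hY).obj.map (homOfLE j).op ((FSch.Hom.sharp g hY hX).hom.app (op U) s)} := by
      intro L V₀ e₀ t ht
      refine (_root_.Ideal.span_le (I := _root_.Ideal.comap ((𝔜.Osh hY).obj.map (homOfLE e₀).op).hom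
        (_root_.Ideal.span {z | ∃ (U : (𝔛.X 0).Opens) (j : V₁ ⊓ V₂ ≤ ((g : FSch.Hom 𝔜 𝔛).app 0) ⁻¹ᵁ U),
            ∃ s ∈ L.sect U, z = (𝔜.Osh hY).obj.map (homOfLE j).op ((FSch.Hom.sharp g hY hX).hom.app (op U) s)}))).2 ?_ ht
      rintro _ ⟨W', j', _, ⟨U, j'', s, hs, rfl⟩, rfl⟩
      refine _root_.Ideal.subset_span ⟨U, e₀.trans (j'.trans j''), s, hs, ?_⟩
      rw [FBlow.IdealSh.map_comp_apply]
      exact FBlow.IdealSh.map_comp_apply j'' (e₀.trans j') _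
    rw [map_mul, ← FBlow.IdealSh.map_comp_apply e₁ inf_le_left, ← FBlow.IdealSh.map_comp_apply e₁ inf_le_left,
      FBlow.IdealSh.map_comp_apply e₁ inf_le_left b, ← FBlow.IdealSh.map_comp_apply e₂ inf_le_right b]
    refine (show _ ≤ (FBlow.idealMap g hY hX (FBlow.IdealSh.mul J K)).sect _ from ?_)
      (_root_.Ideal.mul_mem_mul (hle J V₁ inf_le_left h₁) (hle K V₂ inf_le_right h₂))
    rw [_root_.Ideal.span_mul_span', _root_.Ideal.span_le]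
    rintro _ ⟨_, ⟨U₁, j₁, s₁, hs₁, rfl⟩, _, ⟨U₂, j₂, s₂, hs₂, rfl⟩, rfl⟩
    have hs := mem_mul (J.map_mem (inf_le_left : U₁ ⊓ U₂ ≤ U₁) hs₁) (K.map_mem (inf_le_right : U₁ ⊓ U₂ ≤ U₂) hs₂)
    refine (congrArg (· ∈ _) ?_).mp (FBlow.IdealSh.image_mem_map ((g : FSch.Hom 𝔜 𝔛).app 0).base
      (FSch.Hom.sharp g hY hX) (FBlow.IdealSh.mul J K) hs (V := V₁ ⊓ V₂) (le_inf j₁ j₂))
    erw [map_mul, map_mul]
    congr 1
    · refine (congrArg _ (SchIdeal.res_sharp hX hY g inf_le_left s₁)).trans ?_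
      exact FBlow.IdealSh.map_comp_apply (Scheme.Hom.preimage_mono _ inf_le_left) (le_inf j₁ j₂) _
    · refine (congrArg _ (SchIdeal.res_sharp hX hY g inf_le_right s₂)).trans ?_
      exact FBlow.IdealSh.map_comp_apply (Scheme.Hom.preimage_mono _ inf_le_right) (le_inf j₁ j₂) _

end Map

section Inv

variable {𝔛 : FSch.Sys.{u}} {h : 𝔛.IsFormal} {J K : FBlow.IdealSh (𝔛.Osh h)}

theorem isInvertible_mul (hJ : J.IsInvertible) (hK : K.IsInvertible) :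
    (FBlow.IdealSh.mul J K).IsInvertible := by
  intro x
  obtain ⟨U₁, hx₁, a, ha, hU₁⟩ := hJ x
  obtain ⟨U₂, hx₂, b, hb, hU₂⟩ := hK x
  let a' := (𝔛.Osh h).obj.map (homOfLE (inf_le_left : U₁ ⊓ U₂ ≤ U₁)).op a
  let b' := (𝔛.Osh h).obj.map (homOfLE (inf_le_right : U₁ ⊓ U₂ ≤ U₂)).op b
  have hreg : ∀ (V : (𝔛.X 0).Opens) (i : V ≤ U₁ ⊓ U₂) (t : Levels.A 𝔛 h V),
      t * (𝔛.Osh h).obj.map (homOfLE i).op (a' * b') = 0 → t = 0 := fun V i t ht => by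
    rw [map_mul, ← mul_assoc, FBlow.IdealSh.map_comp_apply, FBlow.IdealSh.map_comp_apply] at ht
    exact (hU₁ V (i.trans inf_le_left)).1 t ((hU₂ V (i.trans inf_le_right)).1 _ ht)
  refine ⟨U₁ ⊓ U₂, ⟨hx₁, hx₂⟩, a' * b',
    mem_mul (J.map_mem inf_le_left ha) (K.map_mem inf_le_right hb), fun V i => ⟨hreg V i, fun s hs => ?_⟩⟩
  refine CompletionInv.exists_mul_of_local_on _ (fun V' e t ht => hreg V' (e.trans i) t ?_) s fun y hy => ?_
  · rwa [FBlow.IdealSh.map_comp_apply] at ht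
  · obtain ⟨V', e, hyV', hV'⟩ := hs y hy
    have hle : (𝔛.Osh h).obj.map (homOfLE e).op s ∈ _root_.Ideal.span
        {(𝔛.Osh h).obj.map (homOfLE (e.trans i)).op (a' * b')} := by
      refine (_root_.Ideal.span_le.2 ?_) hV'
      rintro _ ⟨T, j, _, ⟨c, hc, d, hd, rfl⟩, rfl⟩
      obtain ⟨c', hc'⟩ := (hU₁ V' ((e.trans i).trans inf_le_left)).2 _ (J.map_mem j hc)
      obtain ⟨d', hd'⟩ := (hU₂ V' ((e.trans i).trans inf_le_right)).2 _ (K.map_mem j hd)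
      refine _root_.Ideal.mem_span_singleton'.2 ⟨c' * d', ?_⟩
      rw [map_mul, map_mul, hc', hd', FBlow.IdealSh.map_comp_apply, FBlow.IdealSh.map_comp_apply]
      ring
    obtain ⟨d, hd⟩ := _root_.Ideal.mem_span_singleton'.1 hle
    exact ⟨V', e, d, hyV', by rw [FBlow.IdealSh.map_comp_apply]; exact hd.symm⟩

theorem isInvertible_of_mul (hJK : (FBlow.IdealSh.mul J K).IsInvertible) :
    J.IsInvertible ∧ K.IsInvertible := by
  classical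
  have key : ∀ x : 𝔛.X 0, ∃ W : (𝔛.X 0).Opens, x ∈ W ∧ ∃ a ∈ J.sect W, ∃ b ∈ K.sect W,
      ∀ (V : (𝔛.X 0).Opens) (i : V ≤ W),
        (∀ t : Levels.A 𝔛 h V, t * ((𝔛.Osh h).obj.map (homOfLE i).op a * (𝔛.Osh h).obj.map (homOfLE i).op b) = 0 → t = 0) ∧
        ∀ s ∈ (FBlow.IdealSh.mul J K).sect V, ∃ t : Levels.A 𝔛 h V,
          s = t * ((𝔛.Osh h).obj.map (homOfLE i).op a * (𝔛.Osh h).obj.map (homOfLE i).op b) := by
    intro x
    obtain ⟨U, hxU, g, hg, hU⟩ := hJK x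
    obtain ⟨V, i, hxV, hV⟩ := hg x hxU
    obtain ⟨n, c, v, hv⟩ := Submodule.mem_span_set'.1 hV
    have hab : ∀ l : Fin n, ∃ a ∈ J.sect V, ∃ b ∈ K.sect V, (v l : Levels.A 𝔛 h V) = a * b := fun l => by
      obtain ⟨T, j, _, ⟨a, ha, b, hb, rfl⟩, hvl⟩ := (v l).2
      exact ⟨_, J.map_mem j ha, _, K.map_mem j hb, hvl.trans (map_mul _ _ _)⟩
    choose a ha b hb hab using hab
    choose d hd using fun l => (hU V i).2 _ (mem_mul (ha l) (hb l))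
    have hsum : ∑ l, c l * d l = 1 := by
      refine sub_eq_zero.1 ((hU V i).1 _ ?_)
      rw [sub_mul, one_mul, sub_eq_zero, Finset.sum_mul]
      refine Eq.trans (Finset.sum_congr rfl fun l _ => ?_) hv
      rw [smul_eq_mul, hab l, hd l, mul_assoc]
    obtain ⟨l, hl⟩ := Unit.exists_mem_D h d c hsum hxV
    have e := Unit.D_le h (d l)
    refine ⟨Unit.D h (d l), hl, _, J.map_mem e (ha l), _, K.map_mem e (hb l), fun W j => ?_⟩
    have hu : IsUnit ((𝔛.Osh h).obj.map (homOfLE (j.trans e)).op (d l)) := by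
      rw [← FBlow.IdealSh.map_comp_apply e j]
      exact (Unit.isUnit_res_D h (d l)).map ((𝔛.Osh h).obj.map (homOfLE j).op).hom
    have heq : (𝔛.Osh h).obj.map (homOfLE j).op ((𝔛.Osh h).obj.map (homOfLE e).op (a l)) *
        (𝔛.Osh h).obj.map (homOfLE j).op ((𝔛.Osh h).obj.map (homOfLE e).op (b l)) =
        (𝔛.Osh h).obj.map (homOfLE (j.trans e)).op (d l) *
          (𝔛.Osh h).obj.map (homOfLE ((j.trans e).trans i)).op g := by
      rw [FBlow.IdealSh.map_comp_apply, FBlow.IdealSh.map_comp_apply, ← map_mul, hd, map_mul,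
        FBlow.IdealSh.map_comp_apply]
    refine ⟨fun t ht => ?_, fun s hs => ?_⟩
    · rw [heq, ← mul_assoc] at ht
      exact hu.mul_left_eq_zero.1 ((hU W ((j.trans e).trans i)).1 _ ht)
    · obtain ⟨t, ht⟩ := (hU W ((j.trans e).trans i)).2 s hs
      obtain ⟨w, hw⟩ := hu.exists_left_inv
      refine ⟨t * w, ?_⟩
      rw [heq, ht, mul_assoc t, ← mul_assoc w, hw, one_mul]
  constructor
  · intro x
    obtain ⟨W, hxW, a, ha, b, hb, hW⟩ := key x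
    refine ⟨W, hxW, a, ha, fun V i => ⟨fun t ht => (hW V i).1 t (by rw [← mul_assoc, ht, zero_mul]), fun s hs => ?_⟩⟩
    obtain ⟨t, ht⟩ := (hW V i).2 _ (mem_mul hs (K.map_mem i hb))
    refine ⟨t, sub_eq_zero.1 ((hW V i).1 _ ?_)⟩
    linear_combination (𝔛.Osh h).obj.map (homOfLE i).op a * ht
  · intro x
    obtain ⟨W, hxW, a, ha, b, hb, hW⟩ := key x
    refine ⟨W, hxW, b, hb, fun V i => ⟨fun t ht => (hW V i).1 t (by rw [mul_comm _ ((𝔛.Osh h).obj.map (homOfLE i).op b), ← mul_assoc, ht, zero_mul]), fun s hs => ?_⟩⟩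
    obtain ⟨t, ht⟩ := (hW V i).2 _ (mem_mul (J.map_mem i ha) hs)
    refine ⟨t, sub_eq_zero.1 ((hW V i).1 _ ?_)⟩
    linear_combination (𝔛.Osh h).obj.map (homOfLE i).op b * ht

end Inv

end Groth.Agent.Lib.FBlowAff.MulInv
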