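import Groth.Agent.Lib.FBlowAff.Restrict
import Groth.Agent.Lib.FBlowAff.CompletionInv

/-!
# Functoriality, restriction and transport of admissible formal blowing-ups (helper5)
-/

set_option autoImplicit false
set_option linter.style.haveILetI false

universe u

open CategoryTheory CategoryTheory.Limits TopologicalSpace Opposite AlgebraicGeometry
open Groth.Agent.H30

namespace Groth.Agent.Lib.FBlowAff.Transport

variable {𝔛 𝔜 ℨ : FSch.Sys.{u}} (hX : 𝔛.IsFormal) (hY : 𝔜.IsFormal) (hZ : ℨ.IsFormal)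

theorem sharp_comp (f : ℨ ⟶ 𝔜) (g : 𝔜 ⟶ 𝔛) (U : (𝔛.X 0).Opens) (a : Levels.A 𝔛 hX U) :
    (FSch.Hom.sharp (f ≫ g) hZ hX).hom.app (op U) a =
      (FSch.Hom.sharp f hZ hY).hom.app (op (((g : FSch.Hom 𝔜 𝔛).app 0) ⁻¹ᵁ U))
        ((FSch.Hom.sharp g hY hX).hom.app (op U) a) := by
  refine SchIdeal.ext_proj hZ (V := ((f : FSch.Hom ℨ 𝔜).app 0) ⁻¹ᵁ (((g : FSch.Hom 𝔜 𝔛).app 0) ⁻¹ᵁ U))
    ((FSch.Hom.sharp (f ≫ g) hZ hX).hom.app (op U) a) _ fun n => ?_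
  refine (SchIdeal.proj_sharp hX hZ (f ≫ g) n U a).trans ?_
  refine Eq.trans ?_ (SchIdeal.proj_sharp hY hZ f n (((g : FSch.Hom 𝔜 𝔛).app 0) ⁻¹ᵁ U)
    ((FSch.Hom.sharp g hY hX).hom.app (op U) a)).symm
  rw [SchIdeal.proj_sharp hX hY g n U a]
  exact (ConcreteCategory.congr_hom (FSch.appLE_comp_appLE_of_eq ((f : FSch.Hom ℨ 𝔜).app n)
    ((g : FSch.Hom 𝔜 𝔛).app n) _ (FSch.comp_app f g n).symm (𝔛.lvU hX n U) _ _
    (FSch.Hom.lvU_preimage g hY hX n U).ge (FSch.Hom.lvU_preimage f hZ hY n _).ge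
    (FSch.Hom.lvU_preimage (f ≫ g) hZ hX n U).ge) _).symm

theorem idealMap_comp (f : ℨ ⟶ 𝔜) (g : 𝔜 ⟶ 𝔛) (J : FBlow.IdealSh (𝔛.Osh hX)) :
    FBlow.idealMap f hZ hY (FBlow.idealMap g hY hX J) = FBlow.idealMap (f ≫ g) hZ hX J := by
  refine Ideal.ext_of_le (FBlow.IdealSh.map_le fun U a ha V j => ?_)
    (FBlow.IdealSh.map_le fun W a ha V j => ?_)
  · refine FBlow.IdealSh.mem_of_local _ fun y hy => ?_
    obtain ⟨U', i, hyU', hU'⟩ := ha (((f : FSch.Hom ℨ 𝔜).app 0).base y) (j hy)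
    refine ⟨V ⊓ ((f : FSch.Hom ℨ 𝔜).app 0) ⁻¹ᵁ U', inf_le_left, ⟨hy, hyU'⟩, ?_⟩
    have h1 : (FSch.Hom.sharp f hZ hY).hom.app (op U') ((𝔜.Osh hY).obj.map (homOfLE i).op a) ∈
        (FBlow.idealMap (f ≫ g) hZ hX J).sect (((f : FSch.Hom ℨ 𝔜).app 0) ⁻¹ᵁ U') := by
      refine (show Ideal.span _ ≤ Ideal.comap ((FSch.Hom.sharp f hZ hY).hom.app (op U')).hom
        ((FBlow.idealMap (f ≫ g) hZ hX J).sect _) from ?_) hU'
      rw [Ideal.span_le]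
      rintro _ ⟨W', j', _, ⟨W, j'', a', ha', rfl⟩, rfl⟩
      rw [SetLike.mem_coe, Ideal.mem_comap, FBlow.IdealSh.map_comp_apply]
      refine (congrArg (· ∈ _) ?_).mpr (FBlow.IdealSh.image_mem_map
        (((f ≫ g : _) : FSch.Hom ℨ 𝔛).app 0).base (FSch.Hom.sharp (f ≫ g) hZ hX) J ha'
        (V := ((f : FSch.Hom ℨ 𝔜).app 0) ⁻¹ᵁ U') (fun z hz => j'' (j' hz)))
      refine (SchIdeal.res_sharp hY hZ f (j'.trans j'') ((FSch.Hom.sharp g hY hX).hom.app (op W) a')).trans ?_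
      exact congrArg _ (sharp_comp hX hY hZ f g W a').symm
    have h2 := (FBlow.idealMap (f ≫ g) hZ hX J).map_mem
      (inf_le_right : V ⊓ ((f : FSch.Hom ℨ 𝔜).app 0) ⁻¹ᵁ U' ≤ _) h1
    refine (congrArg (· ∈ _) ?_).mpr h2
    rw [FBlow.IdealSh.map_comp_apply]
    refine Eq.trans ?_ (congrArg _ (SchIdeal.res_sharp hY hZ f i a)).symm
    exact (FBlow.IdealSh.map_comp_apply (Scheme.Hom.preimage_mono _ i) inf_le_right _).symm
  · have h1 : (FSch.Hom.sharp g hY hX).hom.app (op W) a ∈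
        (FBlow.idealMap g hY hX J).sect (((g : FSch.Hom 𝔜 𝔛).app 0) ⁻¹ᵁ W) := by
      have := FBlow.IdealSh.image_mem_map ((g : FSch.Hom 𝔜 𝔛).app 0).base (FSch.Hom.sharp g hY hX) J ha
        (V := ((g : FSch.Hom 𝔜 𝔛).app 0) ⁻¹ᵁ W) le_rfl
      rwa [FBlow.IdealSh.map_id_apply] at this
    have h2 := FBlow.IdealSh.image_mem_map ((f : FSch.Hom ℨ 𝔜).app 0).base (FSch.Hom.sharp f hZ hY)
      (FBlow.idealMap g hY hX J) h1 (V := V) j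
    rwa [← sharp_comp hX hY hZ f g W a] at h2

omit hX hY hZ in
theorem isAdicHom_comp {g : ℨ ⟶ 𝔜} {b : 𝔜 ⟶ 𝔛} (hg : FSch.IsAdicHom g)
    (hb : FSch.IsAdicHom b) : FSch.IsAdicHom (g ≫ b) :=
  fun n => (hg n).paste_vert (hb n)

omit hX hY hZ in
theorem isAdicHom_of_isIso (e : 𝔜 ≅ 𝔛) : FSch.IsAdicHom e.hom := fun n => by
  have hi : ∀ m, IsIso ((e.hom : FSch.Hom 𝔜 𝔛).app m) := fun m =>
    ⟨(e.inv : FSch.Hom 𝔛 𝔜).app m, congrArg (fun φ : 𝔜 ⟶ 𝔜 => (φ : FSch.Hom 𝔜 𝔜).app m) e.hom_inv_id,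
      congrArg (fun φ : 𝔛 ⟶ 𝔛 => (φ : FSch.Hom 𝔛 𝔛).app m) e.inv_hom_id⟩
  have := hi n
  have := hi (n + 1)
  exact IsPullback.of_vert_isIso ⟨((e.hom : FSch.Hom 𝔜 𝔛).comm n).symm⟩

section Open

variable (U : (𝔛.X 0).Opens)

omit hY in
/-- A morphism landing in an open factors through it. -/
theorem exists_factor_restrict (u : 𝔜 ⟶ 𝔛) (hY : 𝔜.IsFormal)
    (hmem : ∀ z, ((u : FSch.Hom 𝔜 𝔛).app 0).base z ∈ U) :
    ∃ v : 𝔜 ⟶ 𝔛.restrictOpen hX U, v ≫ 𝔛.restrictOpenι hX U = u := by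
  have hrange : ∀ n, Set.range ((u : FSch.Hom 𝔜 𝔛).app n).base ⊆ (𝔛.lvU hX n U : Set (𝔛.X n)) := by
    rintro n _ ⟨z, rfl⟩
    have hz : z ∈ ((u : FSch.Hom 𝔜 𝔛).app n) ⁻¹ᵁ 𝔛.lvU hX n U := by
      rw [FSch.Hom.lvU_preimage u hY hX n U]
      exact hmem _
    exact hz
  let v0 : ∀ n, 𝔜.X n ⟶ (𝔛.lvU hX n U).toScheme := fun n =>
    IsOpenImmersion.lift (𝔛.lvU hX n U).ι ((u : FSch.Hom 𝔜 𝔛).app n)
      (by rw [Scheme.Opens.range_ι]; exact hrange n)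
  have hv0 : ∀ n, v0 n ≫ (𝔛.lvU hX n U).ι = (u : FSch.Hom 𝔜 𝔛).app n := fun n =>
    IsOpenImmersion.lift_fac _ _ _
  refine ⟨⟨v0, fun n => ?_⟩, FSch.Hom.ext (funext fun n => hv0 n)⟩
  refine (cancel_mono (𝔛.lvU hX (n + 1) U).ι).1 ?_
  show (v0 n ≫ (𝔛.ι n).resLE (𝔛.lvU hX (n + 1) U) (𝔛.lvU hX n U) (𝔛.lvU_le hX n U)) ≫ _ =
    (𝔜.ι n ≫ v0 (n + 1)) ≫ _
  rw [Category.assoc, Category.assoc, Scheme.Hom.resLE_comp_ι, ← Category.assoc, hv0, hv0]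
  exact (u : FSch.Hom 𝔜 𝔛).comm n

omit hY in
theorem ι_mono {k k' : 𝔜 ⟶ 𝔛.restrictOpen hX U}
    (h : k ≫ 𝔛.restrictOpenι hX U = k' ≫ 𝔛.restrictOpenι hX U) : k = k' :=
  FSch.Hom.ext (funext fun n => (cancel_mono (𝔛.lvU hX n U).ι).1
    (congrArg (fun φ : 𝔜 ⟶ 𝔛 => (φ : FSch.Hom 𝔜 𝔛).app n) h))

theorem ι_mem (z : (𝔛.restrictOpen hX U).X 0) :
    ((𝔛.restrictOpenι hX U : FSch.Hom _ 𝔛).app 0).base z ∈ U :=
  (Unit.mem_lvU_zero hX _).1 z.2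

/-- Invertibility passes to an open. -/
theorem isInvertible_restrict {K : FBlow.IdealSh (𝔛.Osh hX)} (hK : K.IsInvertible) :
    (FBlow.idealMap (𝔛.restrictOpenι hX U) (Restrict.isFormal 𝔛 hX U) hX K).IsInvertible := by
  intro x
  let j := 𝔛.restrictOpenι hX U
  obtain ⟨W, hxW, g, hg, hW⟩ := hK (((j : FSch.Hom _ 𝔛).app 0).base x)
  let W₀ := W ⊓ U
  let g₀ := (𝔛.Osh hX).obj.map (homOfLE (inf_le_left : W₀ ≤ W)).op g
  have hreg : ∀ (V : ((𝔛.restrictOpen hX U).X 0).Opens) (e : V ≤ ((j : FSch.Hom _ 𝔛).app 0) ⁻¹ᵁ W₀)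
      (t : Levels.A (𝔛.restrictOpen hX U) (Restrict.isFormal 𝔛 hX U) V),
      t * ((𝔛.restrictOpen hX U).Osh (Restrict.isFormal 𝔛 hX U)).obj.map (homOfLE e).op
        ((FSch.Hom.sharp j (Restrict.isFormal 𝔛 hX U) hX).hom.app (op W₀) g₀) = 0 → t = 0 := by
    intro V e t ht
    obtain ⟨V', hV', rfl⟩ := Restrict.exists_eq_preimage 𝔛 hX U V
    obtain ⟨t', rfl⟩ := (Restrict.bijective_sharp 𝔛 hX U hV').2 t
    have hle : V' ≤ W₀ := fun y hy => by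
      refine (?_ : y ∈ W₀)
      let z : (𝔛.restrictOpen hX U).X 0 := ⟨y, (Unit.mem_lvU_zero hX y).2 (hV' hy)⟩
      exact e (show z ∈ ((j : FSch.Hom _ 𝔛).app 0) ⁻¹ᵁ V' from hy)
    rw [← SchIdeal.res_sharp hX (Restrict.isFormal 𝔛 hX U) j hle g₀] at ht
    have h1 := (Restrict.bijective_sharp 𝔛 hX U hV').1
      (((map_mul ((FSch.Hom.sharp j (Restrict.isFormal 𝔛 hX U) hX).hom.app (op V')).hom t'
        ((𝔛.Osh hX).obj.map (homOfLE hle).op g₀)).trans ht).trans (map_zero _).symm)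
    rw [show (𝔛.Osh hX).obj.map (homOfLE hle).op g₀ = (𝔛.Osh hX).obj.map (homOfLE (hle.trans inf_le_left)).op g from
      FBlow.IdealSh.map_comp_apply inf_le_left hle g] at h1
    rw [(hW V' (hle.trans inf_le_left)).1 t' h1]
    exact map_zero _
  refine ⟨((j : FSch.Hom _ 𝔛).app 0) ⁻¹ᵁ W₀, ⟨hxW, ι_mem hX U x⟩,
    (FSch.Hom.sharp j (Restrict.isFormal 𝔛 hX U) hX).hom.app (op W₀) g₀, ?_, fun V i => ⟨hreg V i, fun s hs => ?_⟩⟩
  · have := FBlow.IdealSh.image_mem_map ((j : FSch.Hom _ 𝔛).app 0).base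
      (FSch.Hom.sharp j (Restrict.isFormal 𝔛 hX U) hX) K (K.map_mem (inf_le_left : W₀ ≤ W) hg)
      (V := ((j : FSch.Hom _ 𝔛).app 0) ⁻¹ᵁ W₀) le_rfl
    rwa [FBlow.IdealSh.map_id_apply] at this
  · refine CompletionInv.exists_mul_of_local_on _ (fun V' e t ht => hreg V' (e.trans i) t ?_) s fun y hy => ?_
    · rwa [FBlow.IdealSh.map_comp_apply] at ht
    · obtain ⟨V', e, hyV', hV'⟩ := hs y hy
      have hle : ((𝔛.restrictOpen hX U).Osh (Restrict.isFormal 𝔛 hX U)).obj.map (homOfLE e).op s ∈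
          _root_.Ideal.span {((𝔛.restrictOpen hX U).Osh (Restrict.isFormal 𝔛 hX U)).obj.map (homOfLE (e.trans i)).op
            ((FSch.Hom.sharp j (Restrict.isFormal 𝔛 hX U) hX).hom.app (op W₀) g₀)} := by
        refine (_root_.Ideal.span_le.2 ?_) hV'
        rintro _ ⟨T', j', _, ⟨T, j'', a, ha, rfl⟩, rfl⟩
        obtain ⟨T₀, hT₀U, rfl⟩ := Restrict.exists_eq_preimage 𝔛 hX U V'
        have hT : T₀ ≤ T ⊓ W₀ := fun y hy => by
          let z : (𝔛.restrictOpen hX U).X 0 := ⟨y, (Unit.mem_lvU_zero hX y).2 (hT₀U hy)⟩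
          exact ⟨j'' (j' (show z ∈ ((j : FSch.Hom _ 𝔛).app 0) ⁻¹ᵁ T₀ from hy)),
            (e.trans i) (show z ∈ ((j : FSch.Hom _ 𝔛).app 0) ⁻¹ᵁ T₀ from hy)⟩
        obtain ⟨d, hd⟩ := (hW T₀ ((hT.trans inf_le_right).trans inf_le_left)).2 _
          (K.map_mem (hT.trans inf_le_left) ha)
        refine _root_.Ideal.mem_span_singleton'.2
          ⟨(FSch.Hom.sharp j (Restrict.isFormal 𝔛 hX U) hX).hom.app (op T₀) d, ?_⟩
        rw [← SchIdeal.res_sharp hX (Restrict.isFormal 𝔛 hX U) j (hT.trans inf_le_right) g₀]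
        refine (map_mul ((FSch.Hom.sharp j (Restrict.isFormal 𝔛 hX U) hX).hom.app (op T₀)).hom _ _).symm.trans ?_
        rw [show (𝔛.Osh hX).obj.map (homOfLE (hT.trans inf_le_right)).op g₀ =
          (𝔛.Osh hX).obj.map (homOfLE ((hT.trans inf_le_right).trans inf_le_left)).op g from
            FBlow.IdealSh.map_comp_apply inf_le_left (hT.trans inf_le_right) g, ← hd]
        refine (SchIdeal.res_sharp hX (Restrict.isFormal 𝔛 hX U) j (hT.trans inf_le_left) a).trans ?_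
        exact (FBlow.IdealSh.map_comp_apply j'' j' _).symm
      obtain ⟨d, hd⟩ := _root_.Ideal.mem_span_singleton'.1 hle
      exact ⟨V', e, d, hyV', by rw [FBlow.IdealSh.map_comp_apply]; exact hd.symm⟩

/-- Admissible formal blowing-ups restrict to opens. -/
theorem isAdmBlowUp_restrict {𝔛' : FSch.Sys.{u}} (h' : 𝔛'.IsFormal) (b : 𝔛' ⟶ 𝔛)
    {J : FBlow.IdealSh (𝔛.Osh hX)} (hb : FBlow.IsAdmBlowUp b h' hX J) :
    FBlow.IsAdmBlowUp (FSch.Hom.restrictOpen b h' hX U)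
      (Restrict.isFormal 𝔛' h' (((b : FSch.Hom 𝔛' 𝔛).app 0) ⁻¹ᵁ U)) (Restrict.isFormal 𝔛 hX U)
      (FBlow.idealMap (𝔛.restrictOpenι hX U) (Restrict.isFormal 𝔛 hX U) hX J) := by
  obtain ⟨hadic, hinv, huniv⟩ := hb
  let U' := ((b : FSch.Hom 𝔛' 𝔛).app 0) ⁻¹ᵁ U
  refine ⟨fun n => ?_, ?_, fun 𝔜 hY g hg hgJ => ?_⟩
  · refine Scheme.Hom.isPullback_resLE (hadic n) (𝔛.lvU_le hX n U)
      (FSch.Hom.lvU_preimage b h' hX (n + 1) U).ge ?_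
    rw [𝔛'.lvU_succ h' n, FSch.Hom.lvU_preimage b h' hX n U, inf_idem]
  · rw [idealMap_comp hX _ _ (FSch.Hom.restrictOpen b h' hX U) (𝔛.restrictOpenι hX U) J,
      FSch.Hom.restrictOpen_ι b h' hX U, ← idealMap_comp hX h' _ (𝔛'.restrictOpenι h' U') b J]
    exact isInvertible_restrict h' U' hinv
  · rw [idealMap_comp hX _ _ g (𝔛.restrictOpenι hX U) J] at hgJ
    obtain ⟨k, hk, huk⟩ := huniv 𝔜 hY (g ≫ 𝔛.restrictOpenι hX U)
      (isAdicHom_comp hg (Restrict.isAdicHom_ι 𝔛 hX U)) hgJ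
    obtain ⟨v, hv⟩ := exists_factor_restrict h' U' k hY fun z => by
      have e := congrArg (fun φ : 𝔜 ⟶ 𝔛 => (φ : FSch.Hom 𝔜 𝔛).app 0) hk
      have e' := congrArg (fun φ => φ.base z) e
      show ((b : FSch.Hom 𝔛' 𝔛).app 0).base _ ∈ U
      exact (show ((b : FSch.Hom 𝔛' 𝔛).app 0).base (((k : FSch.Hom 𝔜 𝔛').app 0).base z) = _ from e').symm ▸
        ι_mem hX U _
    refine ⟨v, ι_mono hX U ?_, fun v' hv' => ι_mono h' U' ?_⟩
    · rw [Category.assoc, FSch.Hom.restrictOpen_ι, ← Category.assoc, hv, hk]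
    · rw [hv]
      refine huk _ ?_
      show (v' ≫ 𝔛'.restrictOpenι h' U') ≫ b = g ≫ 𝔛.restrictOpenι hX U
      rw [Category.assoc, ← FSch.Hom.restrictOpen_ι b h' hX U, ← Category.assoc, hv']

end Open

/-- Transport along an isomorphism of the base. -/
theorem isAdmBlowUp_comp_iso {𝔛' : FSch.Sys.{u}} (h' : 𝔛'.IsFormal) (b : 𝔛' ⟶ 𝔜)
    (J : FBlow.IdealSh (𝔜.Osh hY)) (hb : FBlow.IsAdmBlowUp b h' hY J) (e : 𝔜 ≅ 𝔛)
    (J₂ : FBlow.IdealSh (𝔛.Osh hX)) (hJ : FBlow.idealMap e.hom hY hX J₂ = J) :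
    FBlow.IsAdmBlowUp (b ≫ e.hom) h' hX J₂ := by
  subst hJ
  obtain ⟨hadic, hinv, huniv⟩ := hb
  refine ⟨isAdicHom_comp hadic (isAdicHom_of_isIso e), ?_, fun W hW g hg hgJ => ?_⟩
  · rwa [← idealMap_comp hX hY h' b e.hom J₂]
  · obtain ⟨k, hk, huk⟩ := huniv W hW (g ≫ e.inv) (isAdicHom_comp hg (isAdicHom_of_isIso e.symm)) (by
      rw [idealMap_comp hX hY hW, Category.assoc, e.inv_hom_id, Category.comp_id]; exact hgJ)
    refine ⟨k, ?_, fun k' hk' => huk k' ?_⟩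
    · show k ≫ b ≫ e.hom = g
      rw [← Category.assoc, hk, Category.assoc, e.inv_hom_id, Category.comp_id]
    · show k' ≫ b = g ≫ e.inv
      rw [← hk', Category.assoc, Category.assoc, e.hom_inv_id, Category.comp_id]

end Groth.Agent.Lib.FBlowAff.Transport
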