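import Groth.Agent.Lib.FBlowAff.BlowProps
import Groth.Agent.Lib.FBlowAff.MulInv
import Groth.Agent.Lib.FBlowAff.Transport

/-!
# Composites of admissible formal blowing-ups (helper5)
-/

set_option autoImplicit false
set_option linter.style.haveILetI false

universe u

open CategoryTheory CategoryTheory.Limits TopologicalSpace Opposite AlgebraicGeometry
open Groth.Agent.H30

namespace Groth.Agent.Lib.FBlowAff.Compose

/-- Cancellation for adic morphisms. -/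
theorem isAdicHom_of_comp {𝔛 𝔜 ℨ : FSch.Sys.{u}} {k : ℨ ⟶ 𝔜} {b : 𝔜 ⟶ 𝔛}
    (hkb : FSch.IsAdicHom (k ≫ b)) (hb : FSch.IsAdicHom b) : FSch.IsAdicHom k := fun n =>
  IsPullback.of_bot (hkb n) ((k : FSch.Hom ℨ 𝔜).comm n).symm (hb n)

variable {R : Type u} [CommRing R] (I : _root_.Ideal R)

/-- Constants of a composite. -/
theorem const_comp {𝔛 𝔜 : FSch.Sys.{u}} (hX : 𝔛.IsFormal) (hY : 𝔜.IsFormal) (g : 𝔜 ⟶ 𝔛)
    (p : 𝔛 ⟶ FSch.spf R I) (U : (𝔛.X 0).Opens) {V : (𝔜.X 0).Opens}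
    (i : V ≤ ((g : FSch.Hom 𝔜 𝔛).app 0) ⁻¹ᵁ U) (a : R) :
    AdmLocal.const I hY (g ≫ p) V a = (𝔜.Osh hY).obj.map (homOfLE i).op
      ((FSch.Hom.sharp g hY hX).hom.app (op U) (AdmLocal.const I hX p U a)) := by
  show Ideal.r V (Spf.ψOf hY I (g ≫ p) a) = _
  rw [Main.ψOf_comp I hY hX g p a]
  refine Eq.trans ?_ (congrArg _ (SchIdeal.res_sharp hX hY g (le_top : U ≤ ⊤) (Spf.ψOf hX I p a)).symm)
  exact (FBlow.IdealSh.map_comp_apply (Scheme.Hom.preimage_mono _ (le_top : U ≤ ⊤)) i _).symm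

theorem res_sharp_res {𝔛 𝔜 : FSch.Sys.{u}} (hX : 𝔛.IsFormal) (hY : 𝔜.IsFormal) (g : 𝔜 ⟶ 𝔛)
    {U W : (𝔛.X 0).Opens} {V V' : (𝔜.X 0).Opens} (d : U ≤ W) (j : V' ≤ ((g : FSch.Hom 𝔜 𝔛).app 0) ⁻¹ᵁ U)
    (j'' : V ≤ ((g : FSch.Hom 𝔜 𝔛).app 0) ⁻¹ᵁ W) (j' : V' ≤ V) (a : Levels.A 𝔛 hX W) :
    (𝔜.Osh hY).obj.map (homOfLE j).op ((FSch.Hom.sharp g hY hX).hom.app (op U)
        ((𝔛.Osh hX).obj.map (homOfLE d).op a)) =
      (𝔜.Osh hY).obj.map (homOfLE j').op ((𝔜.Osh hY).obj.map (homOfLE j'').op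
        ((FSch.Hom.sharp g hY hX).hom.app (op W) a)) := by
  rw [FBlow.IdealSh.map_comp_apply j'' j']
  refine (congrArg _ (SchIdeal.res_sharp hX hY g d a)).trans ?_
  exact FBlow.IdealSh.map_comp_apply (Scheme.Hom.preimage_mono _ d) j _

/-- The inverse image of a locally generated open ideal is locally generated. -/
theorem locGen_idealMap {𝔛 𝔜 : FSch.Sys.{u}} (hX : 𝔛.IsFormal) (hY : 𝔜.IsFormal) (g : 𝔜 ⟶ 𝔛)
    (p : 𝔛 ⟶ FSch.spf R I) (K : FBlow.IdealSh (𝔛.Osh hX)) (hK : CohLocal.LocGen hX I p K) :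
    CohLocal.LocGen hY I (g ≫ p) (FBlow.idealMap g hY hX K) := by
  intro y
  obtain ⟨U, k, 𝔞, hyU, hU, hfg, hle, hmem, hgen⟩ := hK (((g : FSch.Hom 𝔜 𝔛).app 0).base y)
  obtain ⟨U', hU', hyU', hUle⟩ :=
    exists_isAffineOpen_mem_and_subset (show y ∈ ((g : FSch.Hom 𝔜 𝔛).app 0) ⁻¹ᵁ U from hyU)
  let τ : Levels.A 𝔛 hX U →+* Levels.A 𝔜 hY U' :=
    (CohLocal.res hY (show U' ≤ ((g : FSch.Hom 𝔜 𝔛).app 0) ⁻¹ᵁ U from hUle)).comp
      ((FSch.Hom.sharp g hY hX).hom.app (op U)).hom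
  refine ⟨U', k, 𝔞.map τ, hyU', hU', hfg.map τ, ?_, fun a ha => ?_, fun V hV s hs z hz => ?_⟩
  · rw [show AdmLocal.const I hY (g ≫ p) U' = τ.comp (AdmLocal.const I hX p U) from
      RingHom.ext fun a => const_comp I hX hY g p U hUle a, ← _root_.Ideal.map_map, ← _root_.Ideal.map_pow]
    exact _root_.Ideal.map_mono hle
  · refine (show 𝔞.map τ ≤ (FBlow.idealMap g hY hX K).sect U' from _root_.Ideal.map_le_iff_le_comap.2 ?_) ha
    exact fun c hc => FBlow.IdealSh.image_mem_map _ _ K (hmem c hc) (V := U') hUle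
  · obtain ⟨V₁, e₁, hz₁, h₁⟩ := hs z hz
    have hV₁ : V₁ ≤ U' := e₁.trans hV
    let P : Levels.A 𝔜 hY V₁ → Prop := fun t => ∃ (W : (𝔜.X 0).Opens) (e : W ≤ V₁), z ∈ W ∧
      CohLocal.res hY e t ∈ (𝔞.map τ).map (CohLocal.res hY (e.trans hV₁))
    have hres : ∀ {A B C : (𝔜.X 0).Opens} (i : B ≤ A) (j : C ≤ B) (t : Levels.A 𝔜 hY A)
        (𝔟 : _root_.Ideal (Levels.A 𝔜 hY U')) (eB : B ≤ U'),
        CohLocal.res hY i t ∈ 𝔟.map (CohLocal.res hY eB) →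
        CohLocal.res hY (j.trans i) t ∈ 𝔟.map (CohLocal.res hY (j.trans eB)) := by
      intro A B C i j t 𝔟 eB ht
      have := _root_.Ideal.mem_map_of_mem (CohLocal.res hY j) ht
      rw [_root_.Ideal.map_map, show (CohLocal.res hY j).comp (CohLocal.res hY eB) = CohLocal.res hY (j.trans eB) from
        RingHom.ext fun a => FBlow.IdealSh.map_comp_apply eB j a] at this
      refine (congrArg (· ∈ _) ?_).mp this
      exact FBlow.IdealSh.map_comp_apply i j t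
    have hP : P ((𝔜.Osh hY).obj.map (homOfLE e₁).op s) := by
      refine Submodule.span_induction (p := fun t _ => P t) ?_ ⟨V₁, le_rfl, hz₁, by rw [map_zero]; exact zero_mem _⟩
        ?_ ?_ h₁
      · rintro _ ⟨W', j', _, ⟨W₀, j'', a, ha, rfl⟩, rfl⟩
        have hzU : ((g : FSch.Hom 𝔜 𝔛).app 0).base z ∈ W₀ ⊓ U :=
          ⟨j'' (j' hz₁), hUle (hV₁ hz₁)⟩
        obtain ⟨W₁, d, d', hzW₁, hW₁⟩ :=
          hgen (W₀ ⊓ U) inf_le_right _ (K.map_mem inf_le_left ha) _ hzU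
        let W := V₁ ⊓ ((g : FSch.Hom 𝔜 𝔛).app 0) ⁻¹ᵁ W₁
        refine ⟨W, inf_le_left, ⟨hz₁, hzW₁⟩, ?_⟩
        let σ : Levels.A 𝔛 hX W₁ →+* Levels.A 𝔜 hY W :=
          (CohLocal.res hY (inf_le_right : W ≤ ((g : FSch.Hom 𝔜 𝔛).app 0) ⁻¹ᵁ W₁)).comp
            ((FSch.Hom.sharp g hY hX).hom.app (op W₁)).hom
        have h2 := _root_.Ideal.mem_map_of_mem σ hW₁
        rw [_root_.Ideal.map_map, show σ.comp (CohLocal.res hX d') =
          (CohLocal.res hY ((inf_le_left : W ≤ V₁).trans hV₁)).comp τ from RingHom.ext fun c => by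
            show (𝔜.Osh hY).obj.map (homOfLE _).op ((FSch.Hom.sharp g hY hX).hom.app (op W₁)
              ((𝔛.Osh hX).obj.map (homOfLE d').op c)) = (𝔜.Osh hY).obj.map (homOfLE _).op
              ((𝔜.Osh hY).obj.map (homOfLE hUle).op ((FSch.Hom.sharp g hY hX).hom.app (op U) c))
            refine (congrArg _ (SchIdeal.res_sharp hX hY g d' c)).trans ?_
            exact (FBlow.IdealSh.map_comp_apply (Scheme.Hom.preimage_mono _ d') inf_le_right _).trans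
              (FBlow.IdealSh.map_comp_apply hUle ((inf_le_left : W ≤ V₁).trans hV₁) _).symm,
          ← _root_.Ideal.map_map] at h2
        refine (congrArg (· ∈ _) ?_).mp h2
        show (𝔜.Osh hY).obj.map (homOfLE _).op ((FSch.Hom.sharp g hY hX).hom.app (op W₁)
              ((𝔛.Osh hX).obj.map (homOfLE d).op ((𝔛.Osh hX).obj.map (homOfLE inf_le_left).op a))) =
            (𝔜.Osh hY).obj.map (homOfLE _).op ((𝔜.Osh hY).obj.map (homOfLE j').op ((𝔜.Osh hY).obj.map (homOfLE j'').op ((FSch.Hom.sharp g hY hX).hom.app (op W₀) a)))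
        rw [FBlow.IdealSh.map_comp_apply inf_le_left d a]
        refine (congrArg _ (SchIdeal.res_sharp hX hY g (d.trans inf_le_left) a)).trans ?_
        refine (FBlow.IdealSh.map_comp_apply (Scheme.Hom.preimage_mono _ (d.trans inf_le_left)) inf_le_right _).trans ?_
        exact ((FBlow.IdealSh.map_comp_apply j' inf_le_left _).trans
          (FBlow.IdealSh.map_comp_apply j'' (inf_le_left.trans j') _)).symm
      · rintro t t' _ _ ⟨W, e, hzW, hW⟩ ⟨W', e', hzW', hW'⟩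
        refine ⟨W ⊓ W', inf_le_left.trans e, ⟨hzW, hzW'⟩, ?_⟩
        rw [map_add]
        exact add_mem (hres e inf_le_left t _ _ hW) (hres e' inf_le_right t' _ _ hW')
      · rintro c t _ ⟨W, e, hzW, hW⟩
        refine ⟨W, e, hzW, ?_⟩
        rw [smul_eq_mul, map_mul]
        exact _root_.Ideal.mul_mem_left _ _ hW
    obtain ⟨W, e, hzW, hW⟩ := hP
    refine ⟨W, e.trans e₁, (e.trans hV₁), hzW, ?_⟩
    refine (congrArg (· ∈ _) ?_).mp hW
    exact FBlow.IdealSh.map_comp_apply e₁ e s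

variable (hI : I.FG)

include hI in
/-- Without torsion: nothing is killed by a power of the ideal of definition. -/
theorem eq_zero_of_pow {𝔜 : FSch.Sys.{u}} (hY : 𝔜.IsFormal) (q : 𝔜 ⟶ FSch.spf R I) (hq : FSch.IsAdicHom q)
    (htf : BlowProps.TF 𝔜 hY) (k : ℕ) (V : (𝔜.X 0).Opens) (t : Levels.A 𝔜 hY V)
    (ht : ∀ a ∈ I ^ k, AdmLocal.const I hY q V a * t = 0) : t = 0 := by
  induction k generalizing t with
  | zero =>
    have := ht 1 (by rw [pow_zero, _root_.Ideal.one_eq_top]; trivial)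
    rwa [map_one, one_mul] at this
  | succ k ih =>
    refine ih t fun b hb => ?_
    refine (Submodule.mem_bot _).1 ((FBlow.IdealSh.bot (𝔜.Osh hY)).mem_of_local fun y hy => ?_)
    obtain ⟨W, hW, hyW, hWle'⟩ := exists_isAffineOpen_mem_and_subset hy
    have hWle : W ≤ V := hWle'
    refine ⟨W, hWle, hyW, (Submodule.mem_bot _).2 ?_⟩
    obtain ⟨-, hsk⟩ := AdmLocal.spec I hY q hq hI hW
    refine htf W _ fun a ha => ?_
    have ha' : a ∈ I.map (AdmLocal.const I hY q W) := by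
      rw [← pow_one (I.map (AdmLocal.const I hY q W)), ← (hsk 0).2]
      exact ha
    refine Submodule.span_induction (p := fun a _ => a *
      (𝔜.Osh hY).obj.map (homOfLE hWle).op (AdmLocal.const I hY q V b * t) = 0) ?_ (zero_mul _)
      (fun u v _ _ hu hv => by rw [add_mul, hu, hv, add_zero])
      (fun c u _ hu => by rw [smul_eq_mul, mul_assoc, hu, mul_zero]) ha'
    rintro _ ⟨i, hi, rfl⟩
    rw [← AdmLocal.const_res I hY q hWle i, ← map_mul, ← mul_assoc, ← map_mul,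
      ht (i * b) (by rw [pow_succ']; exact _root_.Ideal.mul_mem_mul hi hb), map_zero]

include hI in
/-- An invertible ideal containing a power of the ideal of definition stays invertible. -/
theorem isInvertible_idealMap {𝔛 𝔜 : FSch.Sys.{u}} (hX : 𝔛.IsFormal) (hY : 𝔜.IsFormal) (g : 𝔜 ⟶ 𝔛)
    (p : 𝔛 ⟶ FSch.spf R I) (hp : FSch.IsAdicHom (g ≫ p)) (htf : BlowProps.TF 𝔜 hY)
    (L : FBlow.IdealSh (𝔛.Osh hX)) (hL : L.IsInvertible)
    (hopen : ∀ x : 𝔛.X 0, ∃ (V : (𝔛.X 0).Opens) (k : ℕ), x ∈ V ∧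
      ∀ a ∈ I ^ k, AdmLocal.const I hX p V a ∈ L.sect V) :
    (FBlow.idealMap g hY hX L).IsInvertible := by
  intro y
  obtain ⟨U₀, hy₀, c₀, hc₀, hU₀⟩ := hL (((g : FSch.Hom 𝔜 𝔛).app 0).base y)
  obtain ⟨V₀, k, hyV₀, hk⟩ := hopen (((g : FSch.Hom 𝔜 𝔛).app 0).base y)
  let U := U₀ ⊓ V₀
  let c := (𝔛.Osh hX).obj.map (homOfLE (inf_le_left : U ≤ U₀)).op c₀
  let P := ((g : FSch.Hom 𝔜 𝔛).app 0) ⁻¹ᵁ U
  let c' : Levels.A 𝔜 hY P := (FSch.Hom.sharp g hY hX).hom.app (op U) c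
  have hc' : c' ∈ (FBlow.idealMap g hY hX L).sect P := by
    have := FBlow.IdealSh.image_mem_map ((g : FSch.Hom 𝔜 𝔛).app 0).base (FSch.Hom.sharp g hY hX) L
      (L.map_mem (inf_le_left : U ≤ U₀) hc₀) (V := P) le_rfl
    rwa [FBlow.IdealSh.map_id_apply] at this
  have hmul : ∀ (W : (𝔛.X 0).Opens), W ≤ U → ∀ a ∈ L.sect W, ∀ (V : (𝔜.X 0).Opens)
      (j : V ≤ ((g : FSch.Hom 𝔜 𝔛).app 0) ⁻¹ᵁ W) (i : V ≤ P), ∃ d : Levels.A 𝔜 hY V,
        (𝔜.Osh hY).obj.map (homOfLE j).op ((FSch.Hom.sharp g hY hX).hom.app (op W) a) =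
          d * (𝔜.Osh hY).obj.map (homOfLE i).op c' := by
    intro W hW a ha V j i
    obtain ⟨t, ht⟩ := (hU₀ W (hW.trans inf_le_left)).2 a ha
    refine ⟨(𝔜.Osh hY).obj.map (homOfLE j).op ((FSch.Hom.sharp g hY hX).hom.app (op W) t), ?_⟩
    rw [ht]
    erw [map_mul, map_mul]
    congr 1
    rw [← FBlow.IdealSh.map_comp_apply (inf_le_left : U ≤ U₀) hW c₀]
    refine (congrArg _ (SchIdeal.res_sharp hX hY g hW c)).trans ?_
    exact FBlow.IdealSh.map_comp_apply (Scheme.Hom.preimage_mono _ hW) j _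
  have hreg : ∀ (V : (𝔜.X 0).Opens) (i : V ≤ P) (t : Levels.A 𝔜 hY V),
      t * (𝔜.Osh hY).obj.map (homOfLE i).op c' = 0 → t = 0 := by
    intro V i t ht
    refine eq_zero_of_pow I hI hY (g ≫ p) hp htf k V t fun a ha => ?_
    obtain ⟨d, hd⟩ := hmul U le_rfl _ (L.map_mem (inf_le_right : U ≤ V₀) (hk a ha)) V i i
    rw [AdmLocal.const_res I hX p (inf_le_right : U ≤ V₀) a] at hd
    rw [const_comp I hX hY g p U i a, hd, mul_comm, ← mul_assoc, mul_comm t d, mul_assoc, ht, mul_zero]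
  refine ⟨P, ⟨hy₀, hyV₀⟩, c', hc', fun V i => ⟨hreg V i, fun s hs => ?_⟩⟩
  refine CompletionInv.exists_mul_of_local_on _ (fun V' e t ht => hreg V' (e.trans i) t ?_) s fun z hz => ?_
  · rwa [FBlow.IdealSh.map_comp_apply] at ht
  · obtain ⟨V', e, hzV', hV'⟩ := hs z hz
    have hle : (𝔜.Osh hY).obj.map (homOfLE e).op s ∈ _root_.Ideal.span
        {(𝔜.Osh hY).obj.map (homOfLE (e.trans i)).op c'} := by
      refine (_root_.Ideal.span_le.2 ?_) hV'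
      rintro _ ⟨W', j', _, ⟨W, j'', a, ha, rfl⟩, rfl⟩
      obtain ⟨d, hd⟩ := hmul (W ⊓ U) inf_le_right _ (L.map_mem inf_le_left ha) V'
        (le_inf (j'.trans j'') (e.trans i)) (e.trans i)
      exact _root_.Ideal.mem_span_singleton'.2
        ⟨d, hd.symm.trans (res_sharp_res hX hY g inf_le_left (le_inf (j'.trans j'') (e.trans i)) j'' j' a)⟩
    obtain ⟨d, hd⟩ := _root_.Ideal.mem_span_singleton'.1 hle
    exact ⟨V', e, d, hzV', by rw [FBlow.IdealSh.map_comp_apply]; exact hd.symm⟩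

/-- S13658. -/
theorem main (hR : AdicRing.IsBase R I) {𝔛 : FSch.Sys.{u}} (h : 𝔛.IsFormal) (p : 𝔛 ⟶ FSch.spf R I)
    (hp : FSch.IsAdicHom p) (hft : LocallyOfFiniteType ((p : FSch.Hom _ _).app 0)) (htf : BlowProps.TF 𝔛 h)
    (J K : FBlow.IdealSh (𝔛.Osh h)) (hJ : CohLocal.LocGen h I p J) (hK : CohLocal.LocGen h I p K)
    {𝔛' : FSch.Sys.{u}} (h' : 𝔛'.IsFormal) (b : 𝔛' ⟶ 𝔛) (hb : FBlow.IsAdmBlowUp b h' h J)
    {𝔛'' : FSch.Sys.{u}} (h'' : 𝔛''.IsFormal) (b' : 𝔛'' ⟶ 𝔛')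
    (hb' : FBlow.IsAdmBlowUp b' h'' h' (FBlow.idealMap b h' h K)) :
    FBlow.IsAdmBlowUp (b' ≫ b) h'' h (FBlow.IdealSh.mul J K) := by
  have hI := Groth.Agent.Lib.Adic.Base.isBase_fg hR
  obtain ⟨htf', hfp'⟩ := BlowProps.main hR h p hp hft htf J hJ h' b hb
  have := hfp' 0
  obtain ⟨htf'', -⟩ := BlowProps.main hR h' (b ≫ p) (Transport.isAdicHom_comp hb.1 hp) inferInstance htf'
    _ (locGen_idealMap I h h' b p K hK) h'' b' hb'
  refine ⟨Transport.isAdicHom_comp hb'.1 hb.1, ?_, fun 𝔜 h𝔜 g hg hinv => ?_⟩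
  · rw [MulInv.idealMap_mul, ← Transport.idealMap_comp h h' h'' b' b J, ← Transport.idealMap_comp h h' h'' b' b K]
    refine MulInv.isInvertible_mul ?_ hb'.2.1
    refine isInvertible_idealMap I hI h' h'' b' (b ≫ p)
      (Transport.isAdicHom_comp hb'.1 (Transport.isAdicHom_comp hb.1 hp)) htf'' _ hb.2.1 fun x => ?_
    obtain ⟨U, k, 𝔞, hxU, -, -, hle, hmem, -⟩ := hJ (((b : FSch.Hom 𝔛' 𝔛).app 0).base x)
    refine ⟨((b : FSch.Hom 𝔛' 𝔛).app 0) ⁻¹ᵁ U, k, hxU, fun a ha => ?_⟩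
    rw [const_comp I h h' b p U le_rfl a]
    refine FBlow.IdealSh.image_mem_map _ _ J (hmem _ (hle ?_)) le_rfl
    rw [← _root_.Ideal.map_pow]
    exact _root_.Ideal.mem_map_of_mem _ ha
  · rw [MulInv.idealMap_mul] at hinv
    obtain ⟨hgJ, hgK⟩ := MulInv.isInvertible_of_mul hinv
    obtain ⟨k₁, hk₁, huniq₁⟩ := hb.2.2 𝔜 h𝔜 g hg hgJ
    have hk₁adic : FSch.IsAdicHom k₁ := isAdicHom_of_comp (hk₁ ▸ hg) hb.1
    have hgK' : (FBlow.idealMap k₁ h𝔜 h' (FBlow.idealMap b h' h K)).IsInvertible := by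
      rw [Transport.idealMap_comp h h' h𝔜 k₁ b K, hk₁]
      exact hgK
    obtain ⟨k₂, hk₂, huniq₂⟩ := hb'.2.2 𝔜 h𝔜 k₁ hk₁adic hgK'
    refine ⟨k₂, show k₂ ≫ b' ≫ b = g by rw [← Category.assoc, hk₂, hk₁], fun k hk => huniq₂ k ?_⟩
    exact huniq₁ (k ≫ b') (show (k ≫ b') ≫ b = g by rw [Category.assoc, hk])

end Groth.Agent.Lib.FBlowAff.Compose
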