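import Groth.Agent.Lib.FBlowAff.FormalExtend
import Groth.Agent.Lib.FBlowAff.MulInv

/-!
# Locally finite products of coherent open ideals (helper5)
-/

set_option autoImplicit false
set_option linter.style.haveILetI false

universe u

open CategoryTheory CategoryTheory.Limits TopologicalSpace Opposite AlgebraicGeometry
open Groth.Agent.H30

namespace Groth.Agent.Lib.FBlowAff.FiniteProd

variable {𝔛 : FSch.Sys.{u}} (h : 𝔛.IsFormal)

theorem hgen_mono {J : FBlow.IdealSh (𝔛.Osh h)} {U U' : (𝔛.X 0).Opens} {𝔞 : _root_.Ideal (Levels.A 𝔛 h U)}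
    (hgen : CohLocal.HGen h J U 𝔞) (e : U' ≤ U) : CohLocal.HGen h J U' (𝔞.map (CohLocal.res h e)) := by
  refine ⟨fun a ha => (_root_.Ideal.map_le_iff_le_comap.2 fun c hc => J.map_mem e (hgen.1 c hc)) ha,
    fun V hV s hs y hy => ?_⟩
  obtain ⟨W, d, d', hyW, hW⟩ := hgen.2 V (hV.trans e) s hs y hy
  refine ⟨W, d, d.trans hV, hyW, ?_⟩
  rw [_root_.Ideal.map_map]
  rwa [show (CohLocal.res h (d.trans hV)).comp (CohLocal.res h e) = CohLocal.res h d' from
    RingHom.ext fun c => FBlow.IdealSh.map_comp_apply e (d.trans hV) c]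

variable {ι : Type u} (V : ι → (𝔛.X 0).Opens) (J : ι → FBlow.IdealSh (𝔛.Osh h))

/-- The product of the ideals with indices outside `E`. -/
noncomputable def prod (E : Set ι) : FBlow.IdealSh (𝔛.Osh h) :=
  FBlow.IdealSh.gen fun W => {t | ∃ (F : Finset ι) (a : ι → Levels.A 𝔛 h W),
    (∀ j ∈ F, j ∉ E) ∧ (∀ j, j ∉ E → j ∉ F → W ⊓ V j = ⊥) ∧ (∀ j ∈ F, a j ∈ (J j).sect W) ∧ t = ∏ j ∈ F, a j}

variable (htop : ∀ i (W : (𝔛.X 0).Opens), W ⊓ V i = ⊥ → (J i).sect W = ⊤)

include htop in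
theorem prod_eq_mul (i : ι) : prod h V J ∅ = FBlow.IdealSh.mul (J i) (prod h V J {i}) := by
  classical
  refine Ideal.ext_of_le (FBlow.IdealSh.gen_le fun W => ?_) (FBlow.IdealSh.gen_le fun W => ?_)
  · rintro _ ⟨F, a, -, hout, ha, rfl⟩
    by_cases hi : i ∈ F
    · rw [← Finset.mul_prod_erase F a hi]
      refine MulInv.mem_mul (ha i hi) (FBlow.IdealSh.subset_gen _ W ⟨F.erase i, a, fun j hj => ?_,
        fun j hjE hj => hout j (Set.notMem_empty j) fun hjF => hj (Finset.mem_erase.2 ⟨hjE, hjF⟩),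
        fun j hj => ha j (Finset.mem_of_mem_erase hj), rfl⟩)
      exact Finset.ne_of_mem_erase hj
    · rw [← one_mul (∏ j ∈ F, a j)]
      refine MulInv.mem_mul (by rw [htop i W (hout i (Set.notMem_empty i) hi)]; trivial)
        (FBlow.IdealSh.subset_gen _ W ⟨F, a, fun j hj e => hi (Set.mem_singleton_iff.1 e ▸ hj),
          fun j _ hj => hout j (Set.notMem_empty j) hj, ha, rfl⟩)
  · rintro _ ⟨c, hc, b, hb, rfl⟩
    refine (prod h V J ∅).mem_of_local fun y hy => ?_
    obtain ⟨V', e, hyV', hV'⟩ := hb y hy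
    refine ⟨V', e, hyV', ?_⟩
    rw [map_mul]
    have hc' := (J i).map_mem e hc
    refine Submodule.span_induction (p := fun t _ => (𝔛.Osh h).obj.map (homOfLE e).op c * t ∈ (prod h V J ∅).sect V')
      ?_ (by rw [mul_zero]; exact Submodule.zero_mem _) (fun u v _ _ hu hv => by rw [mul_add]; exact add_mem hu hv)
      (fun r u _ hu => by rw [smul_eq_mul, mul_left_comm]; exact _root_.Ideal.mul_mem_left _ _ hu) hV'
    rintro _ ⟨W', j', _, ⟨F, a, hF, hout, ha, rfl⟩, rfl⟩
    refine FBlow.IdealSh.subset_gen _ V' ⟨insert i F,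
      Function.update (fun l => (𝔛.Osh h).obj.map (homOfLE j').op (a l)) i ((𝔛.Osh h).obj.map (homOfLE e).op c),
      fun j _ => Set.notMem_empty j, fun j _ hj => ?_, fun j hj => ?_, ?_⟩
    · rw [Finset.mem_insert, not_or] at hj
      exact eq_bot_iff.2 ((inf_le_inf_right _ j').trans (hout j hj.1 hj.2).le)
    · by_cases hji : j = i
      · subst hji
        rw [Function.update_self]
        exact hc'
      · rw [Function.update_of_ne hji]
        exact (J j).map_mem j' (ha j ((Finset.mem_insert.1 hj).resolve_left hji))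
    · have hiF : i ∉ F := fun hi => hF i hi rfl
      rw [Finset.prod_insert hiF, Function.update_self, map_prod]
      congr 1
      exact Finset.prod_congr rfl fun j hj => by
        rw [Function.update_of_ne fun e : j = i => hiF (e ▸ hj)]

variable {R : Type u} [CommRing R] (I : _root_.Ideal R) (p : 𝔛 ⟶ FSch.spf R I)
  (hcov : (⨆ i, V i) = ⊤) (hfin : ∀ i, Set.Finite {j | V i ⊓ V j ≠ ⊥}) (hJ : ∀ i, CohLocal.LocGen h I p (J i))

include htop hcov hfin hJ in
theorem locGen_prod : CohLocal.LocGen h I p (prod h V J ∅) := by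
  classical
  intro x
  obtain ⟨i, hi⟩ := Opens.mem_iSup.1 (show x ∈ ⨆ i, V i by rw [hcov]; trivial)
  let F := (hfin i).toFinset
  choose U k 𝔞 hxU hU hfg hle hgen using fun j => hJ j x
  obtain ⟨U₀, hU₀, hxU₀, hle₀⟩ := exists_isAffineOpen_mem_and_subset
    (U := V i ⊓ F.inf U) (x := x) ⟨hi, (show x ∈ F.inf U from by
      induction F using Finset.induction_on with
      | empty => exact trivial
      | insert j s hj ih => rw [Finset.inf_insert]; exact ⟨hxU j, ih⟩)⟩
  have eU : ∀ j ∈ F, U₀ ≤ U j := fun j hj =>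
    (show U₀ ≤ V i ⊓ F.inf U from hle₀).trans (inf_le_right.trans (Finset.inf_le hj))
  let 𝔟 : ι → _root_.Ideal (Levels.A 𝔛 h U₀) := fun j =>
    if hj : j ∈ F then (𝔞 j).map (CohLocal.res h (eU j hj)) else ⊤
  have h𝔟 : ∀ j ∈ F, CohLocal.HGen h (J j) U₀ (𝔟 j) := fun j hj => by
    show CohLocal.HGen h (J j) U₀ (if hj : j ∈ F then _ else _)
    rw [dif_pos hj]
    exact hgen_mono h (hgen j) _
  refine ⟨U₀, ∑ j ∈ F, k j, ∏ j ∈ F, 𝔟 j, hxU₀, hU₀, ?_, ?_, ?_, fun V₀ hV₀ s hs y hy => ?_⟩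
  · refine Finset.prod_induction _ (fun K : _root_.Ideal (Levels.A 𝔛 h U₀) => K.FG)
      (fun a b ha hb => ha.mul hb) ⟨{1}, by simp⟩ fun j hj => ?_
    show (if hj : j ∈ F then _ else _ : _root_.Ideal (Levels.A 𝔛 h U₀)).FG
    rw [dif_pos hj]
    exact (hfg j).map _
  · rw [← Finset.prod_pow_eq_pow_sum]
    refine Finset.prod_le_prod' fun j hj => ?_
    show _ ≤ (if hj : j ∈ F then _ else _ : _root_.Ideal (Levels.A 𝔛 h U₀))
    rw [dif_pos hj, show AdmLocal.const I h p U₀ = (CohLocal.res h (eU j hj)).comp (AdmLocal.const I h p (U j)) from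
      RingHom.ext fun a => (AdmLocal.const_res I h p (eU j hj) a).symm, ← _root_.Ideal.map_map,
      ← _root_.Ideal.map_pow]
    exact _root_.Ideal.map_mono (hle j)
  · intro a ha
    suffices hsuf : ∀ G : Finset ι, G ⊆ F → ∀ t ∈ ∏ j ∈ G, 𝔟 j, ∀ c : ι → Levels.A 𝔛 h U₀,
        (∀ j ∈ F \ G, c j ∈ (J j).sect U₀) → t * ∏ j ∈ F \ G, c j ∈ (prod h V J ∅).sect U₀ by
      have := hsuf F subset_rfl a ha (fun _ => 1) (fun j hj => by simp at hj)
      simpa using this
    intro G
    induction G using Finset.induction_on with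
    | empty =>
      intro _ t _ c hc
      refine _root_.Ideal.mul_mem_left _ _ (FBlow.IdealSh.subset_gen _ U₀
        ⟨F, c, fun j _ => Set.notMem_empty j, fun j _ hj => ?_, fun j hj => hc j (by simpa using hj), by simp⟩)
      by_contra hne
      refine hj ((hfin i).mem_toFinset.2 fun e => hne (eq_bot_iff.2 ?_))
      exact (inf_le_inf_right _ ((show U₀ ≤ V i ⊓ F.inf U from hle₀).trans inf_le_left)).trans e.le
    | insert l G hl ih =>
      intro hG t ht c hc
      rw [Finset.prod_insert hl] at ht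
      refine Submodule.mul_induction_on ht (fun b hb u hu => ?_) (fun u v hu hv => by rw [add_mul]; exact add_mem hu hv)
      have hlF : l ∈ F := hG (Finset.mem_insert_self _ _)
      have hmem := ih ((Finset.subset_insert _ _).trans hG) u hu (Function.update c l b) fun j hj => by
        by_cases hjl : j = l
        · subst hjl
          rw [Function.update_self]
          exact (h𝔟 j hlF).1 b hb
        · rw [Function.update_of_ne hjl]
          exact hc j (by simp only [Finset.mem_sdiff, Finset.mem_insert] at hj ⊢; tauto)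
      refine (congrArg (· ∈ _) ?_).mp hmem
      have hlFG : l ∈ F \ G := Finset.mem_sdiff.2 ⟨hlF, hl⟩
      rw [← Finset.mul_prod_erase (F \ G) (Function.update c l b) hlFG, Function.update_self,
        show (F \ G).erase l = F \ insert l G by ext; simp only [Finset.mem_erase, Finset.mem_sdiff, Finset.mem_insert]; tauto,
        Finset.prod_congr rfl (fun j hj => Function.update_of_ne (fun e : j = l => (Finset.mem_sdiff.1 hj).2
          (e ▸ Finset.mem_insert_self _ _)) b c)]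
      ring
  · obtain ⟨V₁, e₁, hy₁, h₁⟩ := hs y hy
    let P : Levels.A 𝔛 h V₁ → Prop := fun t => ∃ (W : (𝔛.X 0).Opens) (e : W ≤ V₁), y ∈ W ∧
      CohLocal.res h e t ∈ (∏ j ∈ F, 𝔟 j).map (CohLocal.res h (e.trans (e₁.trans hV₀)))
    have hres : ∀ {A B : (𝔛.X 0).Opens} (e : A ≤ V₁) (d : B ≤ A) (t : Levels.A 𝔛 h V₁)
        (K : _root_.Ideal (Levels.A 𝔛 h U₀)),
        CohLocal.res h e t ∈ K.map (CohLocal.res h (e.trans (e₁.trans hV₀))) →
        CohLocal.res h (d.trans e) t ∈ K.map (CohLocal.res h ((d.trans e).trans (e₁.trans hV₀))) := by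
      intro A B e d t K ht
      have := _root_.Ideal.mem_map_of_mem (CohLocal.res h d) ht
      rw [_root_.Ideal.map_map, show (CohLocal.res h d).comp (CohLocal.res h (e.trans (e₁.trans hV₀))) =
        CohLocal.res h ((d.trans e).trans (e₁.trans hV₀)) from
          RingHom.ext fun a => FBlow.IdealSh.map_comp_apply (e.trans (e₁.trans hV₀)) d a] at this
      exact (congrArg (· ∈ _) (FBlow.IdealSh.map_comp_apply e d t)).mp this
    suffices hP : P ((𝔛.Osh h).obj.map (homOfLE e₁).op s) by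
      obtain ⟨W, e, hyW, hW⟩ := hP
      exact ⟨W, e.trans e₁, e.trans (e₁.trans hV₀), hyW, (congrArg (· ∈ _) (FBlow.IdealSh.map_comp_apply e₁ e s)).mp hW⟩
    refine Submodule.span_induction (p := fun t _ => P t) ?_ ⟨V₁, le_rfl, hy₁, by rw [map_zero]; exact zero_mem _⟩
      ?_ ?_ h₁
    · rintro _ ⟨W', j', _, ⟨F', a, -, hout, ha, rfl⟩, rfl⟩
      let a' : ι → Levels.A 𝔛 h V₁ := fun j =>
        if j ∈ F' then (𝔛.Osh h).obj.map (homOfLE j').op (a j) else 1
      have ha' : ∀ j, a' j ∈ (J j).sect V₁ := fun j => by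
        show (if j ∈ F' then _ else _) ∈ _
        by_cases hj : j ∈ F'
        · rw [if_pos hj]; exact (J j).map_mem j' (ha j hj)
        · rw [if_neg hj, htop j V₁ (eq_bot_iff.2 ((inf_le_inf_right _ j').trans (hout j (Set.notMem_empty j) hj).le))]
          trivial
      have key : ∀ G : Finset ι, G ⊆ F → ∃ (W : (𝔛.X 0).Opens) (e : W ≤ V₁), y ∈ W ∧
          CohLocal.res h e (∏ j ∈ G, a' j) ∈ (∏ j ∈ G, 𝔟 j).map (CohLocal.res h (e.trans (e₁.trans hV₀))) := by
        intro G
        induction G using Finset.induction_on with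
        | empty =>
          intro _
          exact ⟨V₁, le_rfl, hy₁, by
            rw [Finset.prod_empty, Finset.prod_empty, _root_.Ideal.one_eq_top, _root_.Ideal.map_top]; trivial⟩
        | insert l G hl ih =>
          intro hG
          obtain ⟨W, e, hyW, hW⟩ := ih ((Finset.subset_insert _ _).trans hG)
          obtain ⟨W₂, d, d', hyW₂, hW₂⟩ := (h𝔟 l (hG (Finset.mem_insert_self _ _))).2 V₁ (e₁.trans hV₀) _ (ha' l) y hy₁
          refine ⟨W ⊓ W₂, inf_le_left.trans e, ⟨hyW, hyW₂⟩, ?_⟩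
          rw [Finset.prod_insert hl, Finset.prod_insert hl, map_mul, _root_.Ideal.map_mul]
          exact _root_.Ideal.mul_mem_mul (hres d inf_le_right (a' l) (𝔟 l) hW₂)
            (hres e inf_le_left _ (∏ j ∈ G, 𝔟 j) hW)
      obtain ⟨W, e, hyW, hW⟩ := key F subset_rfl
      refine ⟨W, e, hyW, ?_⟩
      have hsplit : (𝔛.Osh h).obj.map (homOfLE j').op (∏ j ∈ F', a j) = (∏ j ∈ F, a' j) * ∏ j ∈ F' \ F, a' j := by
        rw [← Finset.prod_union Finset.disjoint_sdiff, Finset.union_sdiff_self_eq_union, map_prod]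
        refine (Finset.prod_congr rfl fun j hj => (if_pos hj).symm).trans
          (Finset.prod_subset Finset.subset_union_right fun j _ hj => if_neg hj)
      rw [hsplit, map_mul]
      exact _root_.Ideal.mul_mem_right _ _ hW
    · rintro t t' _ _ ⟨W, e, hyW, hW⟩ ⟨W₂, e₂, hyW₂, hW₂⟩
      refine ⟨W ⊓ W₂, inf_le_left.trans e, ⟨hyW, hyW₂⟩, ?_⟩
      rw [map_add]
      exact add_mem (hres e inf_le_left t _ hW) (hres e₂ inf_le_right t' _ hW₂)
    · rintro c t _ ⟨W, e, hyW, hW⟩
      refine ⟨W, e, hyW, ?_⟩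
      rw [smul_eq_mul, map_mul]
      exact _root_.Ideal.mul_mem_left _ _ hW

/-- Locally generated open ideals are coherent open when the space is quasi-paracompact. -/
theorem isCohOpen_of_locGen (hR : AdicRing.IsBase R I) (hp : FSch.IsAdicHom p)
    (hft : LocallyOfFiniteType ((p : FSch.Hom _ _).app 0)) [QuasiSeparatedSpace (𝔛.X 0)]
    {κ : Type u} (Vq : κ → (𝔛.X 0).Opens) (hcov : (⨆ k, Vq k) = ⊤)
    (hc : ∀ k, IsCompact (Vq k : Set (𝔛.X 0))) (hfin : ∀ k, Set.Finite {j | Vq k ⊓ Vq j ≠ ⊥})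
    (K : FBlow.IdealSh (𝔛.Osh h)) (hK : CohLocal.LocGen h I p K) : FBlow.IsCohOpen 𝔛 h K := by
  intro x
  obtain ⟨U, k, 𝔞, hxU, hU, hfg, hle, hgen⟩ := hK x
  obtain ⟨W, hWc, hUW, hout⟩ := FormalExtend.exists_nhd (𝔛 := 𝔛) Vq hcov hc hfin U hU.isCompact
  obtain ⟨𝒜, hft𝒜, hgen', -⟩ := FormalExtend.exists_extension h I p hR hp hft (fun _ : PUnit.{u+1} => U)
    (fun _ => hU) k (fun _ => 𝔞) (fun _ => hfg)
    (fun _ => (_root_.Ideal.pow_le_pow_right (Nat.le_succ k)).trans hle)
    (FormalExtend.compat_of_hgen h K _ _ fun _ => hgen) W hWc (fun _ => hUW)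
    (fun y hy => by obtain ⟨O, hO, hd⟩ := hout y hy; exact ⟨O, hO, fun _ => hd⟩)
  exact ⟨U, hxU, k, 𝒜, hft𝒜, fun V hV => le_antisymm (FormalExtend.eq_of_hgen h hgen (hgen' PUnit.unit) V hV)
    (FormalExtend.eq_of_hgen h (hgen' PUnit.unit) hgen V hV)⟩

end Groth.Agent.Lib.FBlowAff.FiniteProd
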