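import Groth.Agent.Lib.FBlowAff.IdealLevel

/-!
# Sections in the ideal of a level (helper5)
-/

set_option autoImplicit false
set_option linter.style.haveILetI false

universe u

open CategoryTheory CategoryTheory.Limits TopologicalSpace Opposite AlgebraicGeometry
open Groth.Agent.H30

namespace Groth.Agent.Lib.FBlowAff.LevelMem

section Scheme

variable {X Y : Scheme.{u}} (f : Y ⟶ X) (𝒬 : Y.IdealSheafData)

theorem res_appLE {U U' : X.Opens} {V V' : Y.Opens} (e : V ≤ f ⁻¹ᵁ U) (e' : V' ≤ f ⁻¹ᵁ U') (iU : U' ≤ U)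
    (iV : V' ≤ V) (s : Γ(X, U)) :
    Y.presheaf.map (homOfLE iV).op (f.appLE U V e s) = f.appLE U' V' e' (X.presheaf.map (homOfLE iU).op s) := by
  rw [← CategoryTheory.comp_apply, ← CategoryTheory.comp_apply, Scheme.Hom.appLE_map, Scheme.Hom.map_appLE]

/-- A section whose pullback lies in `𝒬` vanishes on the image of its closed subscheme. -/
theorem mem_ker_of_memData [QuasiCompact (𝒬.subschemeι ≫ f)] (U : X.affineOpens) (s : Γ(X, U.1))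
    (hs : FBlow.MemData 𝒬 (f ⁻¹ᵁ U.1) (f.app U.1 s)) : s ∈ (𝒬.subschemeι ≫ f).ker.ideal U := by
  rw [Scheme.Hom.ker_apply, RingHom.mem_ker, Scheme.Hom.comp_app]
  show 𝒬.subschemeι.app (f ⁻¹ᵁ U.1) (f.app U.1 s) = 0
  apply 𝒬.subscheme.IsSheaf.section_ext
  intro q hq
  obtain ⟨O', i, hy, hmem⟩ := hs _ hq
  refine ⟨𝒬.subschemeι ⁻¹ᵁ O'.1, fun z hz => i hz, hy, ?_⟩
  rw [← 𝒬.ker_subschemeι_app O', RingHom.mem_ker] at hmem
  rw [map_zero]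
  exact (Lim.IdealExt.app_res 𝒬.subschemeι i (f.app U.1 s)).symm.trans hmem

/-- Conversely, pullbacks of sections of the image ideal lie in `𝒬`. -/
theorem memData_of_le [QuasiCompact (𝒬.subschemeι ≫ f)] {𝒜 : X.IdealSheafData}
    (h𝒜 : 𝒜 ≤ (𝒬.subschemeι ≫ f).ker) {U : X.Opens} {V : Y.Opens} (e : V ≤ f ⁻¹ᵁ U) (s : Γ(X, U))
    (hs : FBlow.MemData 𝒜 U s) : FBlow.MemData 𝒬 V (f.appLE U V e s) := by
  intro y hy
  obtain ⟨O, i, hyO, hO⟩ := hs (f.base y) (e hy)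
  obtain ⟨O₁, hO₁, hy', hle⟩ := exists_isAffineOpen_mem_and_subset (U := V ⊓ f ⁻¹ᵁ O.1) (x := y) ⟨hy, hyO⟩
  let O' : Y.affineOpens := ⟨O₁, hO₁⟩
  have h1 : O'.1 ≤ V := fun z hz => (hle hz).1
  have h2 : O'.1 ≤ f ⁻¹ᵁ O.1 := fun z hz => (hle hz).2
  refine ⟨O', h1, hy', ?_⟩
  have h3 := h𝒜 O hO
  rw [Scheme.Hom.ker_apply, RingHom.mem_ker] at h3
  rw [← 𝒬.ker_subschemeι_app O', RingHom.mem_ker, res_appLE f e h2 i h1 s]
  have h4 : f.appLE O.1 O'.1 h2 (X.presheaf.map (homOfLE i).op s) =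
      Y.presheaf.map (homOfLE h2).op (f.app O.1 (X.presheaf.map (homOfLE i).op s)) := rfl
  rw [h4]
  refine (Lim.IdealExt.app_res 𝒬.subschemeι h2 _).trans ((congrArg _ ?_).trans (map_zero _))
  exact h3

theorem isCompact_subscheme [CompactSpace Y] [QuasiSeparatedSpace X] : QuasiCompact (𝒬.subschemeι ≫ f) :=
  haveI := QuasiCompact.compactSpace_of_compactSpace 𝒬.subschemeι
  inferInstance

end Scheme

variable {𝔛 : FSch.Sys.{u}} (h : 𝔛.IsFormal)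

theorem basicOpen_le_D (m : ℕ) {P : (𝔛.X 0).Opens} (d : Levels.A 𝔛 h P) :
    (𝔛.X m).basicOpen (Levels.proj 𝔛 h m P d) ≤ 𝔛.lvU h m (Unit.D h d) := by
  intro z hz
  obtain ⟨w, hw, rfl⟩ := Unit.exists_preimage_toX h m ((𝔛.X m).basicOpen_le _ hz)
  show 𝔛.gInv h m ((𝔛.toX m).base w) ∈ Unit.D h d
  rw [show 𝔛.gInv h m ((𝔛.toX m).base w) = w from ConcreteCategory.congr_hom (𝔛.toX_base_gInv h m) w]
  have h1 : w ∈ (𝔛.X 0).basicOpen (Levels.toZero 𝔛 h m P (Levels.proj 𝔛 h m P d)) := by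
    rw [show Levels.toZero 𝔛 h m P (Levels.proj 𝔛 h m P d) =
      (𝔛.X 0).presheaf.map (homOfLE (Levels.toX_preimage 𝔛 h m P)).op
        ((𝔛.toX m).app _ (Levels.proj 𝔛 h m P d)) from rfl, Scheme.basicOpen_res]
    refine ⟨hw, ?_⟩
    rw [← Scheme.preimage_basicOpen]
    exact hz
  rwa [show Levels.toZero 𝔛 h m P (Levels.proj 𝔛 h m P d) = Levels.proj 𝔛 h 0 P d from
    ConcreteCategory.congr_hom (Levels.proj_toZero 𝔛 h m P) d] at h1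

/-- A section in the ideal where `d` is invertible times a power of `d` is in the ideal. -/
theorem exists_pow_mul_mem (m : ℕ) (𝒬 : (𝔛.X m).IdealSheafData) {P : (𝔛.X 0).Opens} (hP : IsAffineOpen P)
    (d w : Levels.A 𝔛 h P)
    (hw : CohLocal.res h (Unit.D_le h d) w ∈ (FBlow.ofLevel 𝔛 h m 𝒬).sect (Unit.D h d)) :
    ∃ M : ℕ, d ^ M * w ∈ (𝒬.ideal ⟨_, OshBasic.isAffineOpen_lvU 𝔛 h m hP⟩).comap (Levels.proj 𝔛 h m P).hom := by
  let Pn : (𝔛.X m).affineOpens := ⟨_, OshBasic.isAffineOpen_lvU 𝔛 h m hP⟩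
  let g := Levels.proj 𝔛 h m P d
  let x := Levels.proj 𝔛 h m P w
  let Og : (𝔛.X m).affineOpens := ⟨(𝔛.X m).basicOpen g, Pn.2.basicOpen g⟩
  have hle : Og.1 ≤ 𝔛.lvU h m (Unit.D h d) := basicOpen_le_D h m d
  have h1 : (𝔛.X m).presheaf.map (homOfLE ((𝔛.X m).basicOpen_le g)).op x ∈ 𝒬.ideal Og := by
    refine IdealLevel.mem_ideal_of_memData 𝒬 Og ?_
    have h2 := FBlow.memData_res 𝒬 hle ((FBlow.mem_ofLevel_iff 𝔛 h m 𝒬 _ _).1 hw)
    refine (congrArg (FBlow.MemData 𝒬 Og.1) ?_).mp h2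
    refine (congrArg _ (Unit.proj_res h m (Unit.D_le h d) w)).trans ?_
    exact FBlow.sch_map_comp_apply _ hle _
  rw [show 𝒬.ideal Og = _ from (𝒬.map_ideal (U := Og) (V := Pn) ((𝔛.X m).basicOpen_le g)).symm] at h1
  let φ : Γ(𝔛.X m, Pn.1) →+* Γ(𝔛.X m, Og.1) := ((𝔛.X m).presheaf.map (homOfLE ((𝔛.X m).basicOpen_le g)).op).hom
  letI : Algebra Γ(𝔛.X m, Pn.1) Γ(𝔛.X m, Og.1) := φ.toAlgebra
  haveI : IsLocalization.Away g Γ(𝔛.X m, Og.1) := Pn.2.isLocalization_basicOpen g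
  obtain ⟨_, ⟨M, rfl⟩, hM⟩ :=
    (IsLocalization.algebraMap_mem_map_algebraMap_iff (Submonoid.powers g) (S := Γ(𝔛.X m, Og.1)) _ x).1 h1
  refine ⟨M, ?_⟩
  rw [_root_.Ideal.mem_comap, map_mul, map_pow]
  exact hM

theorem proj_const_eq_zero {R : Type u} [CommRing R] (I : _root_.Ideal R) (p : 𝔛 ⟶ FSch.spf R I) (m : ℕ)
    (V : (𝔛.X 0).Opens) {c : R} (hc : c ∈ I ^ (m + 1)) :
    Levels.proj 𝔛 h m V (AdmLocal.const I h p V c) = 0 := by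
  show Levels.proj 𝔛 h m V (Ideal.r V (Spf.ψOf h I p c)) = 0
  refine (ConcreteCategory.congr_hom ((𝔛.OshProj h m).hom.naturality
    (homOfLE (le_top : V ≤ ⊤)).op) (Spf.ψOf h I p c)).trans ?_
  show (𝔛.levelObj h m).obj.map _ (Levels.proj 𝔛 h m ⊤ (Spf.ψOf h I p c)) = 0
  rw [Spf.proj_ψOf_eq_zero h I p hc]
  exact map_zero _

theorem mem_ofLevel_of_proj_eq_zero (m : ℕ) (𝒬 : (𝔛.X m).IdealSheafData) {V : (𝔛.X 0).Opens}
    {s : Levels.A 𝔛 h V} (hs : Levels.proj 𝔛 h m V s = 0) : s ∈ (FBlow.ofLevel 𝔛 h m 𝒬).sect V := by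
  refine (FBlow.mem_ofLevel_iff 𝔛 h m 𝒬 V s).2 ?_
  exact (congrArg (· ∈ (FBlow.IdealSh.ofData 𝒬).sect (𝔛.lvU h m V)) hs).mpr (Submodule.zero_mem _)

end Groth.Agent.Lib.FBlowAff.LevelMem
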