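import Groth.Agent.Lib.FBlowAff.Pieces
import Groth.Agent.Lib.FBlowAff.LevelMem
import Groth.Agent.Lib.FBlowAff.Compose
import Groth.Agent.Lib.FBlowAff.FiniteProd

/-!
# Composites of admissible formal blowing-ups over a quasi-compact base (helper5)
-/

set_option autoImplicit false
set_option linter.style.haveILetI false

universe u

open CategoryTheory CategoryTheory.Limits TopologicalSpace Opposite AlgebraicGeometry
open Groth.Agent.H30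

namespace Groth.Agent.Lib.FBlowAff.CompBlow

theorem exists_factor {A S : Type u} [CommRing A] [CommRing S] (τ : A →+* S) {n : ℕ} (f : Fin n → A) (i : Fin n)
    (d : Fin n → S) (hd : ∀ j, τ (f j) = d j * τ (f i)) (e : ℕ) {a : A}
    (ha : a ∈ _root_.Ideal.span (Set.range f) ^ e) : ∃ w, w * τ (f i) ^ e = τ a := by
  have h1 : (_root_.Ideal.span (Set.range f)).map τ ≤ _root_.Ideal.span {τ (f i)} := by
    rw [_root_.Ideal.map_span, _root_.Ideal.span_le]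
    rintro _ ⟨_, ⟨j, rfl⟩, rfl⟩
    exact _root_.Ideal.mem_span_singleton'.2 ⟨d j, (hd j).symm⟩
  have h2 := _root_.Ideal.pow_right_mono h1 e (_root_.Ideal.map_pow τ _ e ▸ _root_.Ideal.mem_map_of_mem τ ha)
  rw [_root_.Ideal.span_singleton_pow] at h2
  exact _root_.Ideal.mem_span_singleton'.1 h2

theorem eq_zero_of_mul_pow {S : Type u} [CommRing S] {F : S} (hF : ∀ t, t * F = 0 → t = 0) :
    ∀ (e : ℕ) (t : S), t * F ^ e = 0 → t = 0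
  | 0, t, ht => by rwa [pow_zero, mul_one] at ht
  | e + 1, t, ht => eq_zero_of_mul_pow hF e t (hF _ (by rwa [pow_succ, ← mul_assoc] at ht))

theorem restrict_eq {S₁ S₂ T : Type u} [CommRing S₁] [CommRing S₂] [CommRing T] (ρ : S₁ →+* T) (ρ' : S₂ →+* T)
    {w G₁ δ : S₁} {t' : S₂} {Fi : S₂} {a : S₁} {a' : S₂} (e : ℕ) (hw : w * G₁ ^ e = a) (ht : a' = t' * Fi ^ e)
    (hF : ρ' Fi = ρ δ * ρ G₁) (ha : ρ' a' = ρ a) (hreg : ∀ t, t * ρ G₁ = 0 → t = 0) :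
    ρ w = ρ' t' * ρ δ ^ e := by
  refine sub_eq_zero.1 (eq_zero_of_mul_pow hreg e _ ?_)
  rw [sub_mul, mul_assoc, ← mul_pow, ← hF, ← map_pow ρ' Fi, ← map_mul ρ', ← ht, ha, ← map_pow, ← map_mul, hw,
    sub_self]

variable {𝔛 𝔛' : FSch.Sys.{u}} (h : 𝔛.IsFormal) (h' : 𝔛'.IsFormal) (b : 𝔛' ⟶ 𝔛)

theorem res_τ {U : (𝔛.X 0).Opens} {V V' : (𝔛'.X 0).Opens} (e : V ≤ ((b : FSch.Hom 𝔛' 𝔛).app 0) ⁻¹ᵁ U)
    (i : V' ≤ V) (a : Levels.A 𝔛 h U) :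
    CohLocal.res h' i (SigmaBase.τ h h' b e a) = SigmaBase.τ h h' b (i.trans e) a :=
  FBlow.IdealSh.map_comp_apply e i _

/-- The numerators of a section of the ideal over one of the pieces. -/
theorem exists_numerator {U : (𝔛.X 0).Opens} {r : ℕ} (f : Fin (r + 1) → Levels.A 𝔛 h U)
    (P : Fin (r + 1) → (𝔛'.X 0).Opens) (eP : ∀ i, P i ≤ ((b : FSch.Hom 𝔛' 𝔛).app 0) ⁻¹ᵁ U)
    (hcov : ∀ z ∈ ((b : FSch.Hom 𝔛' 𝔛).app 0) ⁻¹ᵁ U, ∃ i, z ∈ P i) (hP : ∀ i, IsAffineOpen (P i))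
    (hreg : ∀ (i : Fin (r + 1)) (W : (𝔛'.X 0).Opens) (e : W ≤ P i) (t : Levels.A 𝔛' h' W),
      t * CohLocal.res h' e (SigmaBase.τ h h' b (eP i) (f i)) = 0 → t = 0)
    (d : ∀ i, Fin (r + 1) → Levels.A 𝔛' h' (P i))
    (hd : ∀ i j, SigmaBase.τ h h' b (eP i) (f j) = d i j * SigmaBase.τ h h' b (eP i) (f i))
    (hD : ∀ i j, Unit.D h' (d i j) ≤ P j)
    (hnum : ∀ i (m : ℕ) (t : Levels.A 𝔛' h' (P i)), ∃ (t' : Levels.A 𝔛' h' (P i)) (e : ℕ),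
      ∃ a ∈ _root_.Ideal.span (Set.range f) ^ e, Levels.proj 𝔛' h' m (P i) t = Levels.proj 𝔛' h' m (P i) t' ∧
        SigmaBase.τ h h' b (eP i) a = t' * SigmaBase.τ h h' b (eP i) (f i) ^ e)
    {J : FBlow.IdealSh (𝔛.Osh h)} (hgen : CohLocal.HGen h J U (_root_.Ideal.span (Set.range f)))
    (m : ℕ) (𝒬 : (𝔛'.X m).IdealSheafData) (i : Fin (r + 1)) (t : Levels.A 𝔛' h' (P i))
    (ht : t ∈ (FBlow.ofLevel 𝔛' h' m 𝒬).sect (P i)) :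
    ∃ N₀ : ℕ, ∀ N, N₀ ≤ N → ∃ (a : Levels.A 𝔛 h U) (t' : Levels.A 𝔛' h' (P i)),
      (FSch.Hom.sharp b h' h).hom.app (op U) a ∈
        (FBlow.IdealSh.mul (FBlow.idealMap b h' h (IdealLevel.pw J N)) (FBlow.ofLevel 𝔛' h' m 𝒬)).sect
          (((b : FSch.Hom 𝔛' 𝔛).app 0) ⁻¹ᵁ U) ∧
      Levels.proj 𝔛' h' m (P i) t = Levels.proj 𝔛' h' m (P i) t' ∧
        SigmaBase.τ h h' b (eP i) a = t' * SigmaBase.τ h h' b (eP i) (f i) ^ (N + 1) := by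
  classical
  obtain ⟨t', e, a₀, ha₀, hproj, htau⟩ := hnum i m t
  have ht' : t' ∈ (FBlow.ofLevel 𝔛' h' m 𝒬).sect (P i) := by
    have h1 : t' - t ∈ (FBlow.ofLevel 𝔛' h' m 𝒬).sect (P i) :=
      LevelMem.mem_ofLevel_of_proj_eq_zero h' m 𝒬 (by rw [map_sub, hproj, sub_self])
    simpa using add_mem h1 ht
  choose w hw using fun j => exists_factor (SigmaBase.τ h h' b (eP j)) f j (d j) (hd j) e ha₀
  have hwD : ∀ j, CohLocal.res h' (Unit.D_le h' (d j i)) (w j) ∈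
      (FBlow.ofLevel 𝔛' h' m 𝒬).sect (Unit.D h' (d j i)) := by
    intro j
    have eq := restrict_eq (CohLocal.res h' (Unit.D_le h' (d j i))) (CohLocal.res h' (hD j i))
      (δ := d j i) e (hw j) htau
      (by rw [res_τ h h' b, ← map_mul, ← hd j i, res_τ h h' b])
      (by rw [res_τ h h' b, res_τ h h' b])
      (fun s hs => hreg j _ (Unit.D_le h' (d j i)) s hs)
    rw [eq]
    exact _root_.Ideal.mul_mem_right _ _ ((FBlow.ofLevel 𝔛' h' m 𝒬).map_mem (hD j i) ht')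
  choose M hM using fun j => LevelMem.exists_pow_mul_mem h' m 𝒬 (hP j) (d j i) (w j) (hwD j)
  refine ⟨e + Finset.univ.sup M, fun N hN => ⟨f i ^ (N + 1 - e) * a₀, t', ?_, hproj, ?_⟩⟩
  · refine FBlow.IdealSh.mem_of_local _ fun z hz => ?_
    obtain ⟨j, hj⟩ := hcov z hz
    refine ⟨P j, eP j, hj, ?_⟩
    have hM' : M j ≤ N + 1 - e := by
      have := Finset.le_sup (f := M) (Finset.mem_univ j)
      omega
    have e1 : SigmaBase.τ h h' b (eP j) (f i ^ (N + 1 - e) * a₀) =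
        SigmaBase.τ h h' b (eP j) (f j ^ (N + 1)) * (d j i ^ (N + 1 - e - M j) * (d j i ^ M j * w j)) := by
      rw [map_mul, map_pow, map_pow, hd j i, ← hw j, ← mul_assoc (d j i ^ _), ← pow_add,
        Nat.sub_add_cancel hM', mul_pow]
      conv_rhs => rw [show N + 1 = (N + 1 - e) + e by omega, pow_add, Nat.add_sub_cancel]
      ring
    refine (congrArg (· ∈ _) e1).mpr (MulInv.mem_mul ?_ (_root_.Ideal.mul_mem_left _ _ ?_))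
    · exact FBlow.IdealSh.image_mem_map _ _ _ ((IdealLevel.hgen_pw hgen N).1 _
        (_root_.Ideal.pow_mem_pow (_root_.Ideal.subset_span (Set.mem_range_self j)) _)) (eP j)
    · exact fun y hy => ⟨⟨_, OshBasic.isAffineOpen_lvU 𝔛' h' m (hP j)⟩, le_rfl, hy, by
        rw [show (homOfLE (le_refl (𝔛'.lvU h' m (P j)))).op = 𝟙 _ from Subsingleton.elim _ _,
          CategoryTheory.Functor.map_id]
        exact hM j⟩
  · rw [map_mul, map_pow, htau, mul_left_comm, ← pow_add, Nat.sub_add_cancel (by omega)]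

theorem mem_mul_const {R : Type u} [CommRing R] (I : _root_.Ideal R) (p : 𝔛 ⟶ FSch.spf R I)
    (J : FBlow.IdealSh (𝔛.Osh h)) {U : (𝔛.X 0).Opens} (m : ℕ) (𝒬 : (𝔛'.X m).IdealSheafData) {c : R}
    (hc : c ∈ I ^ (m + 1)) {g : Levels.A 𝔛 h U} (hg : g ∈ J.sect U) :
    (FSch.Hom.sharp b h' h).hom.app (op U) (g * AdmLocal.const I h p U c) ∈
      (FBlow.IdealSh.mul (FBlow.idealMap b h' h J) (FBlow.ofLevel 𝔛' h' m 𝒬)).sect
        (((b : FSch.Hom 𝔛' 𝔛).app 0) ⁻¹ᵁ U) := by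
  rw [map_mul]
  refine MulInv.mem_mul ?_ (LevelMem.mem_ofLevel_of_proj_eq_zero h' m 𝒬 ?_)
  · have := FBlow.IdealSh.image_mem_map ((b : FSch.Hom 𝔛' 𝔛).app 0).base (FSch.Hom.sharp b h' h) J hg
      (V := ((b : FSch.Hom 𝔛' 𝔛).app 0) ⁻¹ᵁ U) le_rfl
    rwa [FBlow.IdealSh.map_id_apply] at this
  · have := LevelMem.proj_const_eq_zero h' I (b ≫ p) m (((b : FSch.Hom 𝔛' 𝔛).app 0) ⁻¹ᵁ U) hc
    rwa [Compose.const_comp I h h' b p U le_rfl c, FBlow.IdealSh.map_id_apply] at this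

theorem proj_mem_ker {U : (𝔛.X 0).Opens} (hU : IsAffineOpen U) (c : ℕ) (𝒬' : (𝔛'.X c).IdealSheafData)
    [QuasiCompact (𝒬'.subschemeι ≫ (b : FSch.Hom 𝔛' 𝔛).app c)] (s : Levels.A 𝔛 h U)
    (hs : (FSch.Hom.sharp b h' h).hom.app (op U) s ∈
      (FBlow.ofLevel 𝔛' h' c 𝒬').sect (((b : FSch.Hom 𝔛' 𝔛).app 0) ⁻¹ᵁ U)) :
    Levels.proj 𝔛 h c U s ∈ (𝒬'.subschemeι ≫ (b : FSch.Hom 𝔛' 𝔛).app c).ker.ideal
      ⟨_, OshBasic.isAffineOpen_lvU 𝔛 h c hU⟩ := by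
  refine LevelMem.mem_ker_of_memData _ 𝒬' ⟨_, OshBasic.isAffineOpen_lvU 𝔛 h c hU⟩ _ ?_
  have h1 := (FBlow.mem_ofLevel_iff 𝔛' h' c 𝒬' _ _).1 hs
  have hpre := FSch.Hom.lvU_preimage b h' h c U
  have h2 := FBlow.memData_res 𝒬' hpre.le h1
  refine (congrArg (FBlow.MemData 𝒬' _) ?_).mp h2
  refine (congrArg _ (SchIdeal.proj_sharp h h' b c U s)).trans ?_
  exact (ConcreteCategory.congr_hom (Scheme.Hom.appLE_map ((b : FSch.Hom 𝔛' 𝔛).app c) hpre.ge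
    (homOfLE hpre.le).op) (Levels.proj 𝔛 h c U s)).trans (by rw [Scheme.Hom.app_eq_appLE])

theorem idealMap_ofLevel_le (c : ℕ) (𝒬' : (𝔛'.X c).IdealSheafData)
    [QuasiCompact (𝒬'.subschemeι ≫ (b : FSch.Hom 𝔛' 𝔛).app c)] (𝒜 : (𝔛.X c).IdealSheafData)
    (h𝒜 : 𝒜 ≤ (𝒬'.subschemeι ≫ (b : FSch.Hom 𝔛' 𝔛).app c).ker) :
    FBlow.idealMap b h' h (FBlow.ofLevel 𝔛 h c 𝒜) ≤ FBlow.ofLevel 𝔛' h' c 𝒬' := by
  refine FBlow.IdealSh.map_le fun W a ha V j => ?_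
  refine (FBlow.mem_ofLevel_iff 𝔛' h' c 𝒬' V _).2 ?_
  have hpre := FSch.Hom.lvU_preimage b h' h c W
  have hle : 𝔛'.lvU h' c V ≤ ((b : FSch.Hom 𝔛' 𝔛).app c) ⁻¹ᵁ 𝔛.lvU h c W :=
    (Sigma.lvU_mono h' c j).trans hpre.ge
  have h1 := LevelMem.memData_of_le _ 𝒬' h𝒜 hle _ ((FBlow.mem_ofLevel_iff 𝔛 h c 𝒜 W a).1 ha)
  refine (congrArg (FBlow.MemData 𝒬' _) ?_).mpr h1
  refine (Unit.proj_res h' c j _).trans ((congrArg _ (SchIdeal.proj_sharp h h' b c W a)).trans ?_)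
  exact ConcreteCategory.congr_hom (Scheme.Hom.appLE_map ((b : FSch.Hom 𝔛' 𝔛).app c) hpre.ge
    (homOfLE (Sigma.lvU_mono h' c j)).op) (Levels.proj 𝔛 h c W a)

/-- On a piece, the product is generated inside an ideal containing the numerators. -/
theorem mul_mem_of_numerators {R : Type u} [CommRing R] (I : _root_.Ideal R) (p : 𝔛 ⟶ FSch.spf R I) (hI : I.FG)
    (hp' : FSch.IsAdicHom (b ≫ p)) {U : (𝔛.X 0).Opens} {P : (𝔛'.X 0).Opens} (hP : IsAffineOpen P)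
    (eP : P ≤ ((b : FSch.Hom 𝔛' 𝔛).app 0) ⁻¹ᵁ U) (g : Levels.A 𝔛 h U) (m : ℕ)
    (S : Set R) (hS : _root_.Ideal.span S = I ^ (m + 1)) (𝔟 : _root_.Ideal (Levels.A 𝔛' h' P))
    (T : Set (Levels.A 𝔛' h' P)) (hT : 𝔟 = _root_.Ideal.span T) (L : FBlow.IdealSh (𝔛.Osh h))
    (hnumT : ∀ t ∈ T, ∃ (a : Levels.A 𝔛 h U) (t' : Levels.A 𝔛' h' P), a ∈ L.sect U ∧
      Levels.proj 𝔛' h' m P t = Levels.proj 𝔛' h' m P t' ∧
        SigmaBase.τ h h' b eP a = t' * SigmaBase.τ h h' b eP g)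
    (hnumS : ∀ c ∈ S, g * AdmLocal.const I h p U c ∈ L.sect U) :
    _root_.Ideal.span {SigmaBase.τ h h' b eP g} * 𝔟 ≤ (FBlow.idealMap b h' h L).sect P := by
  obtain ⟨-, hsk⟩ := AdmLocal.spec I h' (b ≫ p) hp' hI hP
  let F := SigmaBase.τ h h' b eP g
  let 𝔡 : _root_.Ideal (Levels.A 𝔛' h' P) :=
    Submodule.comap (LinearMap.mulLeft (Levels.A 𝔛' h' P) F) ((FBlow.idealMap b h' h L).sect P)
  have hmem : ∀ u, u ∈ 𝔡 ↔ F * u ∈ (FBlow.idealMap b h' h L).sect P := fun u => Iff.rfl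
  have himg : ∀ a ∈ L.sect U, SigmaBase.τ h h' b eP a ∈ (FBlow.idealMap b h' h L).sect P := fun a ha =>
    FBlow.IdealSh.image_mem_map _ _ L ha (V := P) eP
  have hker : RingHom.ker (Levels.proj 𝔛' h' m P).hom ≤ 𝔡 := by
    rw [(hsk m).2, ← _root_.Ideal.map_pow, ← hS, _root_.Ideal.map_span, _root_.Ideal.span_le]
    rintro _ ⟨c, hc, rfl⟩
    rw [SetLike.mem_coe, hmem, Compose.const_comp I h h' b p U eP c]
    have := himg _ (hnumS c hc)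
    rwa [map_mul] at this
  have hT𝔡 : 𝔟 ≤ 𝔡 := by
    rw [hT, _root_.Ideal.span_le]
    intro t ht
    obtain ⟨a, t', ha, hproj, htau⟩ := hnumT t ht
    have h1 : t' ∈ 𝔡 := (hmem t').2 (by rw [mul_comm, ← htau]; exact himg a ha)
    have h2 : t - t' ∈ 𝔡 := hker (RingHom.mem_ker.2 (by rw [map_sub]; exact sub_eq_zero.2 hproj))
    simpa using add_mem h2 h1
  exact _root_.Ideal.span_singleton_mul_le_iff.2 fun u hu => (hmem u).1 (hT𝔡 hu)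

theorem exists_fin {A : Type u} [CommRing A] {𝔞 : _root_.Ideal A} (h𝔞 : 𝔞.FG) :
    ∃ (r : ℕ) (f : Fin (r + 1) → A), _root_.Ideal.span (Set.range f) = 𝔞 := by
  obtain ⟨n, f, hf⟩ := Submodule.fg_iff_exists_fin_generating_family.1 h𝔞
  exact ⟨n, Fin.cons 0 f, by rw [Fin.range_cons, _root_.Ideal.span_insert_zero]; exact hf⟩

theorem span_le_sect {J : FBlow.IdealSh (𝔛'.Osh h')} {P : (𝔛'.X 0).Opens} {𝔠 : _root_.Ideal (Levels.A 𝔛' h' P)}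
    {L : FBlow.IdealSh (𝔛'.Osh h')} (hgen : CohLocal.HGen h' J P 𝔠) (hle : 𝔠 ≤ L.sect P)
    (V : (𝔛'.X 0).Opens) (hV : V ≤ P) : J.sect V ≤ L.sect V := fun s hs => L.mem_of_local fun y hy => by
  obtain ⟨W, e, e', hyW, hW⟩ := hgen.2 V hV s hs y hy
  exact ⟨W, e, hyW, (_root_.Ideal.map_le_iff_le_comap.2 fun a ha => L.map_mem e' (hle ha)) hW⟩

variable {R : Type u} [CommRing R] {I : _root_.Ideal R}

/-- An ideal downstairs whose inverse image is the given product. -/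
theorem exists_descend (hR : AdicRing.IsBase R I) (p : 𝔛 ⟶ FSch.spf R I) (hp : FSch.IsAdicHom p)
    (hft : LocallyOfFiniteType ((p : FSch.Hom _ _).app 0)) (htf : BlowProps.TF 𝔛 h)
    [CompactSpace (𝔛.X 0)] [QuasiSeparatedSpace (𝔛.X 0)]
    (J : FBlow.IdealSh (𝔛.Osh h)) (hJ : CohLocal.LocGen h I p J) (hb : FBlow.IsAdmBlowUp b h' h J)
    (J' : FBlow.IdealSh (𝔛'.Osh h')) (hJ' : CohLocal.LocGen h' I (b ≫ p) J') :
    ∃ (N : ℕ) (L : FBlow.IdealSh (𝔛.Osh h)), CohLocal.LocGen h I p L ∧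
      FBlow.idealMap b h' h L = FBlow.IdealSh.mul (FBlow.idealMap b h' h (IdealLevel.pw J N)) J' := by
  classical
  have hI := Groth.Agent.Lib.Adic.Base.isBase_fg hR
  have hp' : FSch.IsAdicHom (b ≫ p) := Transport.isAdicHom_comp hb.1 hp
  have hft' : LocallyOfFiniteType ((b ≫ p : FSch.Hom 𝔛' (FSch.spf R I)).app 0) := by
    have := (BlowProps.main hR h p hp hft htf J hJ h' b hb).2 0
    infer_instance
  choose U k 𝔞 hxU hU hfg hle hgen using id hJ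
  choose r f hf using fun x => exists_fin (hfg x)
  choose P eP hcov hPaff hreg d hd hD hnum using fun x =>
    Pieces.exists_pieces hR h p hp J (hU x) (r := r x) (k := k x) (f x) ((hf x).symm ▸ hle x)
      ((hf x).symm ▸ hgen x) h' b hb
  obtain ⟨s, hs⟩ := isCompact_univ.elim_finite_subcover (fun x => (U x : Set (𝔛.X 0))) (fun x => (U x).2)
    fun x _ => Set.mem_iUnion.2 ⟨x, hxU x⟩
  have hcovP : ∀ z : 𝔛'.X 0, ∃ x ∈ s, ∃ i, z ∈ P x i := fun z => by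
    obtain ⟨x, hx, hzx⟩ := Set.mem_iUnion₂.1 (hs (Set.mem_univ (((b : FSch.Hom 𝔛' 𝔛).app 0).base z)))
    exact ⟨x, hx, hcov x z hzx⟩
  haveI : CompactSpace (𝔛'.X 0) := ⟨by
    have e : (Set.univ : Set (𝔛'.X 0)) = ⋃ κ : (Σ x : s, Fin (r x.1 + 1)), (P κ.1.1 κ.2 : Set (𝔛'.X 0)) := by
      refine Set.Subset.antisymm (fun z _ => ?_) fun z _ => trivial
      obtain ⟨x, hx, i, hi⟩ := hcovP z
      exact Set.mem_iUnion.2 ⟨⟨⟨x, hx⟩, i⟩, hi⟩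
    rw [e]
    exact isCompact_iUnion fun κ : (Σ x : s, Fin (r x.1 + 1)) => (hPaff κ.1.1 κ.2).isCompact⟩
  haveI : QuasiSeparatedSpace (𝔛'.X 0) := ⟨fun A B hAo hAc _ _ =>
    NoethSpace.isCompact_of_le hR h' (b ≫ p) hft' (W := ⟨A, hAo⟩) (O := ⟨A, hAo⟩ ⊓ ⟨B, ‹IsOpen B›⟩) hAc inf_le_left⟩
  obtain ⟨m, 𝒬, hft𝒬, rfl⟩ := IdealLevel.exists_level I (b ≫ p) hR hp' hft' hJ'
  obtain ⟨S, hS⟩ := hI.pow (n := m + 1)
  let K₁ : ∀ κ : (Σ x : s, Fin (r x.1 + 1)), _root_.Ideal (Levels.A 𝔛' h' (P κ.1.1 κ.2)) := fun κ =>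
    (𝒬.ideal ⟨_, OshBasic.isAffineOpen_lvU 𝔛' h' m (hPaff κ.1.1 κ.2)⟩).comap
      (Levels.proj 𝔛' h' m (P κ.1.1 κ.2)).hom
  have hK₁ : ∀ κ, CohLocal.HGen h' (FBlow.ofLevel 𝔛' h' m 𝒬) (P κ.1.1 κ.2) (K₁ κ) := fun κ =>
    FormalExtend.hgen_ofLevel h' I (b ≫ p) hp' hI m 𝒬 (hPaff κ.1.1 κ.2)
  choose T hT using fun κ : (Σ x : s, Fin (r x.1 + 1)) => (IdealLevel.fg_comap I (b ≫ p) hp' hI m (hPaff κ.1.1 κ.2) (hft𝒬 ⟨_, OshBasic.isAffineOpen_lvU 𝔛' h' m (hPaff κ.1.1 κ.2)⟩)).1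
  have hTmem : ∀ κ, ∀ t ∈ T κ, t ∈ (FBlow.ofLevel 𝔛' h' m 𝒬).sect (P κ.1.1 κ.2) := fun κ t ht =>
    (hK₁ κ).1 t (by
      show t ∈ _root_.Ideal.comap _ _
      rw [← hT κ]
      exact Submodule.subset_span ht)
  choose N₀ hN₀ using fun (q : Σ κ : (Σ x : s, Fin (r x.1 + 1)), T κ) =>
    exists_numerator h h' b (f q.1.1.1) (P q.1.1.1) (eP q.1.1.1) (hcov q.1.1.1) (hPaff q.1.1.1) (hreg q.1.1.1)
      (d q.1.1.1) (hd q.1.1.1) (hD q.1.1.1) (hnum q.1.1.1) ((hf q.1.1.1).symm ▸ hgen q.1.1.1) m 𝒬 q.1.2 q.2.1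
      (hTmem q.1 q.2.1 q.2.2)
  let N := Finset.univ.sup N₀
  choose a t' ha hproj htau using fun q => hN₀ q N (Finset.le_sup (Finset.mem_univ q))
  obtain ⟨c, 𝒬', hft𝒬', hK'⟩ := IdealLevel.exists_level I (b ≫ p) hR hp' hft'
    (IdealLevel.locGen_mul I (b ≫ p) (Compose.locGen_idealMap I h h' b p _ (IdealLevel.locGen_pw I p hJ N)) hJ')
  haveI : CompactSpace (𝔛'.X c) := (𝔛'.levelHomeo h' c).compactSpace
  haveI : CompactSpace (𝔛.X c) := (𝔛.levelHomeo h c).compactSpace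
  haveI := FormalExtend.quasiSeparated_level h c
  haveI := LevelMem.isCompact_subscheme ((b : FSch.Hom 𝔛' 𝔛).app c) 𝒬'
  let E : ∀ x : s, Set (Levels.A 𝔛 h (U x.1)) := fun x =>
    Set.range (fun q : (Σ i : Fin (r x.1 + 1), T ⟨x, i⟩) => a ⟨⟨x, q.1⟩, q.2⟩) ∪
      Set.range (fun q : Fin (r x.1 + 1) × S => f x.1 q.1 ^ (N + 1) * AdmLocal.const I h p (U x.1) q.2.1)
  have hE : ∀ x, ∀ z ∈ E x, (FSch.Hom.sharp b h' h).hom.app (op (U x.1)) z ∈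
      (FBlow.ofLevel 𝔛' h' c 𝒬').sect (((b : FSch.Hom 𝔛' 𝔛).app 0) ⁻¹ᵁ U x.1) := by
    intro x z hz
    rw [← hK']
    rcases hz with ⟨q, rfl⟩ | ⟨q, rfl⟩
    · exact ha ⟨⟨x, q.1⟩, q.2⟩
    · refine mem_mul_const h h' b I p _ m 𝒬 (hS ▸ Submodule.subset_span q.2.2)
        ((IdealLevel.hgen_pw (hgen x.1) N).1 _ (_root_.Ideal.pow_mem_pow ?_ _))
      rw [← hf]
      exact _root_.Ideal.subset_span (Set.mem_range_self q.1)
  have hEfin : ∀ x, ((Levels.proj 𝔛 h c (U x.1)) '' E x).Finite := fun x =>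
    ((Set.finite_range _).union (Set.finite_range _)).image _
  choose 𝒜x hAle hAfg hAmem using fun x : s => Lim.IdealExt.exists_isFG_subset
    (𝒬'.subschemeι ≫ (b : FSch.Hom 𝔛' 𝔛).app c).ker ⟨_, OshBasic.isAffineOpen_lvU 𝔛 h c (hU x.1)⟩
    (hEfin x).toFinset (fun z hz => by
      obtain ⟨z₀, hz₀, rfl⟩ := (hEfin x).mem_toFinset.1 hz
      exact proj_mem_ker h h' b (hU x.1) c 𝒬' z₀ (hE x z₀ hz₀))
  let 𝒜 := Finset.univ.sup 𝒜x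
  have h𝒜le : 𝒜 ≤ (𝒬'.subschemeι ≫ (b : FSch.Hom 𝔛' 𝔛).app c).ker := Finset.sup_le fun x _ => hAle x
  have h𝒜fg : Lim.IdealExt.IsFG 𝒜 :=
    Finset.sup_induction Lim.IdealExt.isFG_bot (fun _ h₁ _ h₂ => Lim.IdealExt.isFG_sup h₁ h₂) fun x _ => hAfg x
  have hEL : ∀ x, ∀ z ∈ E x, z ∈ (FBlow.ofLevel 𝔛 h c 𝒜).sect (U x.1) := fun x z hz y hy =>
    ⟨⟨_, OshBasic.isAffineOpen_lvU 𝔛 h c (hU x.1)⟩, le_rfl, hy, by
      rw [show (homOfLE (le_refl (𝔛.lvU h c (U x.1)))).op = 𝟙 _ from Subsingleton.elim _ _,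
        CategoryTheory.Functor.map_id]
      exact (show 𝒜x x ≤ 𝒜 from Finset.le_sup (Finset.mem_univ x)) _
        (hAmem x ((hEfin x).mem_toFinset.2 ⟨z, hz, rfl⟩))⟩
  refine ⟨N, FBlow.ofLevel 𝔛 h c 𝒜, IdealLevel.locGen_ofLevel I p hp hI c 𝒜 h𝒜fg,
    Ideal.ext_of_le (by rw [hK']; exact idealMap_ofLevel_le h h' b c 𝒬' 𝒜 h𝒜le) (IdealLevel.eq_of_local fun z => ?_)⟩
  obtain ⟨x, hx, i, hzi⟩ := hcovP z
  refine ⟨P x i, hzi, span_le_sect h' (IdealLevel.hgen_mul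
    (IdealLevel.hgen_idealMap h' b (IdealLevel.hgen_pw (hgen x) N) (eP x i)) (hK₁ ⟨⟨x, hx⟩, i⟩)) ?_⟩
  refine (_root_.Ideal.mul_mono_left ?_).trans (mul_mem_of_numerators h h' b I p hI hp' (hPaff x i) (eP x i)
    (f x i ^ (N + 1)) m (S : Set R) hS (K₁ ⟨⟨x, hx⟩, i⟩) (T ⟨⟨x, hx⟩, i⟩) (hT ⟨⟨x, hx⟩, i⟩).symm
    (FBlow.ofLevel 𝔛 h c 𝒜) (fun t ht => ⟨a ⟨⟨⟨x, hx⟩, i⟩, ⟨t, ht⟩⟩, t' ⟨⟨⟨x, hx⟩, i⟩, ⟨t, ht⟩⟩,
      hEL ⟨x, hx⟩ _ (Or.inl ⟨⟨i, ⟨t, ht⟩⟩, rfl⟩), hproj ⟨⟨⟨x, hx⟩, i⟩, ⟨t, ht⟩⟩, by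
        rw [map_pow]; exact htau ⟨⟨⟨x, hx⟩, i⟩, ⟨t, ht⟩⟩⟩)
    fun c' hc' => hEL ⟨x, hx⟩ _ (Or.inr ⟨⟨i, ⟨c', hc'⟩⟩, rfl⟩))
  refine _root_.Ideal.map_le_iff_le_comap.2 fun z hz => ?_
  obtain ⟨w, hw⟩ := exists_factor (SigmaBase.τ h h' b (eP x i)) (f x) i (d x i) (hd x i) (N + 1)
    (by rw [hf x]; exact hz)
  exact _root_.Ideal.mem_span_singleton'.2 ⟨w, by rw [map_pow]; exact hw⟩

/-- S13653. -/
theorem main (hR : AdicRing.IsBase R I) (p : 𝔛 ⟶ FSch.spf R I) (hp : FSch.IsAdicHom p)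
    (hft : LocallyOfFiniteType ((p : FSch.Hom _ _).app 0)) (htf : BlowProps.TF 𝔛 h)
    [CompactSpace (𝔛.X 0)] [QuasiSeparatedSpace (𝔛.X 0)]
    (J : FBlow.IdealSh (𝔛.Osh h)) (hJ : CohLocal.LocGen h I p J) (hb : FBlow.IsAdmBlowUp b h' h J)
    (J' : FBlow.IdealSh (𝔛'.Osh h')) (hJ' : CohLocal.LocGen h' I (b ≫ p) J')
    {𝔛'' : FSch.Sys.{u}} (h'' : 𝔛''.IsFormal) (b' : 𝔛'' ⟶ 𝔛') (hb' : FBlow.IsAdmBlowUp b' h'' h' J') :
    ∃ J'' : FBlow.IdealSh (𝔛.Osh h), FBlow.IsCohOpen 𝔛 h J'' ∧ FBlow.IsAdmBlowUp (b' ≫ b) h'' h J'' := by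
  have hI := Groth.Agent.Lib.Adic.Base.isBase_fg hR
  have hp' : FSch.IsAdicHom (b ≫ p) := Transport.isAdicHom_comp hb.1 hp
  obtain ⟨htf', hfp'⟩ := BlowProps.main hR h p hp hft htf J hJ h' b hb
  have := hfp' 0
  obtain ⟨htf'', -⟩ := BlowProps.main hR h' (b ≫ p) hp' inferInstance htf' J' hJ' h'' b' hb'
  obtain ⟨N, L, hL, hLeq⟩ := exists_descend h h' b hR p hp hft htf J hJ hb J' hJ'
  let M := FBlow.idealMap b h' h (IdealLevel.pw J N)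
  have hM : (FBlow.idealMap b' h'' h' M).IsInvertible := by
    refine Compose.isInvertible_idealMap I hI h' h'' b' (b ≫ p) (Transport.isAdicHom_comp hb'.1 hp') htf'' M
      (by rw [show M = _ from IdealLevel.idealMap_pw h' b J N]; exact IdealLevel.isInvertible_pw hb.2.1 N) fun x => ?_
    obtain ⟨U, k, 𝔠, hxU, -, -, hle, hgen⟩ :=
      Compose.locGen_idealMap I h h' b p _ (IdealLevel.locGen_pw I p hJ N) x
    exact ⟨U, k, hxU, fun c hc => hgen.1 _ (hle (by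
      rw [← _root_.Ideal.map_pow]; exact _root_.Ideal.mem_map_of_mem _ hc))⟩
  have hb'' : FBlow.IsAdmBlowUp b' h'' h' (FBlow.idealMap b h' h L) := by
    rw [hLeq]
    refine ⟨hb'.1, by rw [MulInv.idealMap_mul]; exact MulInv.isInvertible_mul hM hb'.2.1, fun 𝔜 hY g hg hinv => ?_⟩
    rw [MulInv.idealMap_mul] at hinv
    exact hb'.2.2 𝔜 hY g hg (MulInv.isInvertible_of_mul hinv).2
  exact ⟨FBlow.IdealSh.mul J L, FiniteProd.isCohOpen_of_locGen h I p hR hp hft (fun _ : PUnit.{u+1} => ⊤)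
      (top_le_iff.1 (le_iSup (fun _ : PUnit.{u+1} => (⊤ : (𝔛.X 0).Opens)) PUnit.unit))
      (fun _ => CompactSpace.isCompact_univ) (fun _ => Set.toFinite _) _ (IdealLevel.locGen_mul I p hJ hL),
    Compose.main I hR h p hp hft htf J L hJ hL h' b hb h'' b' hb''⟩

end Groth.Agent.Lib.FBlowAff.CompBlow
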