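import Groth.Agent.Lib.FBlowAff.FormalExtend
import Groth.Agent.Lib.FBlowAff.Compose

/-!
# Extending coherent open ideals from quasi-compact opens (helper5)
-/

set_option autoImplicit false
set_option linter.style.haveILetI false

universe u

open CategoryTheory CategoryTheory.Limits TopologicalSpace Opposite AlgebraicGeometry
open Groth.Agent.H30

namespace Groth.Agent.Lib.FBlowAff.ExtendOpen

variable {R : Type u} [CommRing R] {I : _root_.Ideal R} {𝔛 : FSch.Sys.{u}} (h : 𝔛.IsFormal)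
  (p : 𝔛 ⟶ FSch.spf R I)

theorem le_of_preimage_le {U W V : (𝔛.X 0).Opens} (hW : W ≤ U)
    (e : ((𝔛.restrictOpenι h U : FSch.Hom _ 𝔛).app 0) ⁻¹ᵁ W ≤ ((𝔛.restrictOpenι h U : FSch.Hom _ 𝔛).app 0) ⁻¹ᵁ V) :
    W ≤ V := fun y hy => e (show (⟨y, (Unit.mem_lvU_zero h y).2 (hW hy)⟩ : (𝔛.restrictOpen h U).X 0) ∈ _ from hy)

theorem exists_below_gen (hR : AdicRing.IsBase R I) (hp : FSch.IsAdicHom p) (U : (𝔛.X 0).Opens)
    (JU : FBlow.IdealSh ((𝔛.restrictOpen h U).Osh (Restrict.isFormal 𝔛 h U)))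
    (hJU : FBlow.IsCohOpen (𝔛.restrictOpen h U) (Restrict.isFormal 𝔛 h U) JU) {x : 𝔛.X 0} (hx : x ∈ U) :
    ∃ (W : (𝔛.X 0).Opens) (k : ℕ) (𝔞 : _root_.Ideal (Levels.A 𝔛 h W)), x ∈ W ∧ W ≤ U ∧ IsAffineOpen W ∧
      𝔞.FG ∧ I.map (AdmLocal.const I h p W) ^ k ≤ 𝔞 ∧ CohLocal.HGen h (FormalExtend.below h U JU) W 𝔞 := by
  have hI := Groth.Agent.Lib.Adic.Base.isBase_fg hR
  let z : (𝔛.restrictOpen h U).X 0 := ⟨x, (Unit.mem_lvU_zero h x).2 hx⟩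
  obtain ⟨U', k, 𝔞', hzU', hU', hfg, hle, hmem, hgen⟩ := CohLocal.exists_gen (Restrict.isFormal 𝔛 h U) I
    (𝔛.restrictOpenι h U ≫ p) (Transport.isAdicHom_comp (Restrict.isAdicHom_ι 𝔛 h U) hp) hI JU hJU z
  obtain ⟨W, hWU, rfl⟩ := Restrict.exists_eq_preimage 𝔛 h U U'
  let σ : Levels.A 𝔛 h W →+* Levels.A (𝔛.restrictOpen h U) (Restrict.isFormal 𝔛 h U)
      (((𝔛.restrictOpenι h U : FSch.Hom _ _).app 0) ⁻¹ᵁ W) :=
    ((FSch.Hom.sharp (𝔛.restrictOpenι h U) (Restrict.isFormal 𝔛 h U) h).hom.app (op W)).hom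
  have hbij : Function.Bijective σ := Restrict.bijective_sharp 𝔛 h U hWU
  have hσc : ∀ a, σ (AdmLocal.const I h p W a) = AdmLocal.const I (Restrict.isFormal 𝔛 h U)
      (𝔛.restrictOpenι h U ≫ p) (((𝔛.restrictOpenι h U : FSch.Hom _ _).app 0) ⁻¹ᵁ W) a := fun a => by
    rw [Compose.const_comp I h (Restrict.isFormal 𝔛 h U) (𝔛.restrictOpenι h U) p W le_rfl a,
      FBlow.IdealSh.map_id_apply]
    rfl
  have hWaff : IsAffineOpen W := by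
    have hImg : (𝔛.lvU h 0 U).ι ''ᵁ (((𝔛.restrictOpenι h U : FSch.Hom _ _).app 0) ⁻¹ᵁ W) = W := by
      refine Opens.ext (Set.ext fun y => ⟨?_, fun hy => ⟨⟨y, (Unit.mem_lvU_zero h y).2 (hWU hy)⟩, hy, rfl⟩⟩)
      rintro ⟨w, hw, rfl⟩
      exact hw
    have h1 : IsAffineOpen ((𝔛.lvU h 0 U).ι ''ᵁ (((𝔛.restrictOpenι h U : FSch.Hom _ _).app 0) ⁻¹ᵁ W)) :=
      IsAffineOpen.image_of_isOpenImmersion (X := (𝔛.lvU h 0 U).toScheme) hU' (𝔛.lvU h 0 U).ι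
    exact hImg ▸ h1
  refine ⟨W, k, 𝔞'.comap σ, hzU', hWU, hWaff, ?_, ?_, fun a ha => hmem _ ha, fun V hV s hs y hy => ?_⟩
  · let e := RingEquiv.ofBijective σ hbij
    have : 𝔞'.comap σ = 𝔞'.map e.symm.toRingHom := (_root_.Ideal.map_symm e).symm
    rw [this]
    exact hfg.map _
  · rw [← _root_.Ideal.map_pow, _root_.Ideal.map_le_iff_le_comap]
    intro a ha
    show σ (AdmLocal.const I h p W a) ∈ 𝔞'
    rw [hσc]
    exact hle (by rw [← _root_.Ideal.map_pow]; exact _root_.Ideal.mem_map_of_mem _ ha)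
  · obtain ⟨W', e, e', hyW', hW'⟩ := hgen (((𝔛.restrictOpenι h U : FSch.Hom _ _).app 0) ⁻¹ᵁ V)
      (Scheme.Hom.preimage_mono _ hV) _ hs ⟨y, (Unit.mem_lvU_zero h y).2 (hWU (hV hy))⟩ hy
    obtain ⟨O, hOU, rfl⟩ := Restrict.exists_eq_preimage 𝔛 h U W'
    have eV : O ≤ V := le_of_preimage_le h hOU e
    have eW : O ≤ W := eV.trans hV
    refine ⟨O, eV, eW, hyW', ?_⟩
    let σO : Levels.A 𝔛 h O →+* Levels.A (𝔛.restrictOpen h U) (Restrict.isFormal 𝔛 h U)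
        (((𝔛.restrictOpenι h U : FSch.Hom _ _).app 0) ⁻¹ᵁ O) :=
      ((FSch.Hom.sharp (𝔛.restrictOpenι h U) (Restrict.isFormal 𝔛 h U) h).hom.app (op O)).hom
    have hbO : Function.Bijective σO := Restrict.bijective_sharp 𝔛 h U hOU
    have h1 : σO (CohLocal.res h eV s) ∈ ((𝔞'.comap σ).map (CohLocal.res h eW)).map σO := by
      rw [_root_.Ideal.map_map, show σO.comp (CohLocal.res h eW) =
        (CohLocal.res (Restrict.isFormal 𝔛 h U) e').comp σ from RingHom.ext fun c =>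
          SchIdeal.res_sharp h (Restrict.isFormal 𝔛 h U) (𝔛.restrictOpenι h U) eW c,
        ← _root_.Ideal.map_map, _root_.Ideal.map_comap_of_surjective σ hbij.2]
      exact (congrArg (· ∈ _) (SchIdeal.res_sharp h (Restrict.isFormal 𝔛 h U) (𝔛.restrictOpenι h U) eV s)).mpr hW'
    obtain ⟨c, hc, hce⟩ := (_root_.Ideal.mem_map_iff_of_surjective σO hbO.2).1 h1
    exact hbO.1 hce ▸ hc

/-- Extension from a quasi-compact open. -/
theorem main (hR : AdicRing.IsBase R I) (hp : FSch.IsAdicHom p)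
    (hft : LocallyOfFiniteType ((p : FSch.Hom _ _).app 0)) [QuasiSeparatedSpace (𝔛.X 0)]
    {κ : Type u} (Vq : κ → (𝔛.X 0).Opens) (hcov : (⨆ k, Vq k) = ⊤)
    (hc : ∀ k, IsCompact (Vq k : Set (𝔛.X 0))) (hfin : ∀ k, Set.Finite {j | Vq k ⊓ Vq j ≠ ⊥})
    (U : (𝔛.X 0).Opens) (hUc : IsCompact (U : Set (𝔛.X 0)))
    (JU : FBlow.IdealSh ((𝔛.restrictOpen h U).Osh (Restrict.isFormal 𝔛 h U)))
    (hJU : FBlow.IsCohOpen (𝔛.restrictOpen h U) (Restrict.isFormal 𝔛 h U) JU) :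
    ∃ J : FBlow.IdealSh (𝔛.Osh h), FBlow.IsCohOpen 𝔛 h J ∧
      FBlow.idealMap (𝔛.restrictOpenι h U) (Restrict.isFormal 𝔛 h U) h J = JU ∧
      ∀ V : (𝔛.X 0).Opens, V ⊓ U = ⊥ → J.sect V = ⊤ := by
  classical
  have hcovU : (U : Set (𝔛.X 0)) ⊆ ⋃ W : {W : (𝔛.X 0).Opens // W ≤ U ∧ IsAffineOpen W ∧
      ∃ (k : ℕ) (𝔞 : _root_.Ideal (Levels.A 𝔛 h W)), 𝔞.FG ∧
        I.map (AdmLocal.const I h p W) ^ k ≤ 𝔞 ∧ CohLocal.HGen h (FormalExtend.below h U JU) W 𝔞},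
      (W.1 : Set (𝔛.X 0)) := fun x hx => by
    obtain ⟨W, k, 𝔞, hxW, hWU, hW, h1, h2, h3⟩ := exists_below_gen h p hR hp U JU hJU hx
    exact Set.mem_iUnion.2 ⟨⟨W, hWU, hW, k, 𝔞, h1, h2, h3⟩, hxW⟩
  obtain ⟨S, hS⟩ := hUc.elim_finite_subcover (fun W : {W : (𝔛.X 0).Opens // W ≤ U ∧ IsAffineOpen W ∧
      ∃ (k : ℕ) (𝔞 : _root_.Ideal (Levels.A 𝔛 h W)), 𝔞.FG ∧
        I.map (AdmLocal.const I h p W) ^ k ≤ 𝔞 ∧ CohLocal.HGen h (FormalExtend.below h U JU) W 𝔞} =>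
      (W.1 : Set (𝔛.X 0))) (fun W => W.1.2) hcovU
  choose k 𝔞 hfg hle hgen using fun i : S => i.1.2.2.2
  let m := Finset.univ.sup k
  obtain ⟨W, hWc, hUW, hout⟩ := FormalExtend.exists_nhd (𝔛 := 𝔛) Vq hcov hc hfin U hUc
  obtain ⟨𝒜, hft𝒜, hgen', htop⟩ := FormalExtend.exists_extension h I p hR hp hft (fun i : S => i.1.1)
    (fun i => i.1.2.2.1) m 𝔞 hfg
    (fun i => (_root_.Ideal.pow_le_pow_right ((Finset.le_sup (Finset.mem_univ i)).trans (Nat.le_succ m))).trans (hle i))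
    (FormalExtend.compat_of_hgen h _ _ _ hgen) W hWc (fun i => i.1.2.1.trans hUW)
    (fun x hx => by
      obtain ⟨O, hO, hd⟩ := hout x hx
      exact ⟨O, hO, fun i => eq_bot_iff.2 ((inf_le_inf_left _ i.1.2.1).trans hd.le)⟩)
  let J := FBlow.ofLevel 𝔛 h m 𝒜
  have heq : ∀ V : (𝔛.X 0).Opens, V ≤ U → J.sect V = (FormalExtend.below h U JU).sect V := by
    intro V hV
    refine le_antisymm (fun s hs => ?_) (fun s hs => ?_)
    all_goals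
      first
      | (refine (FormalExtend.below h U JU).mem_of_local fun y hy => ?_
         obtain ⟨i, hi, hyi⟩ := Set.mem_iUnion₂.1 (hS (hV hy))
         exact ⟨V ⊓ i.1, inf_le_left, ⟨hy, hyi⟩, FormalExtend.eq_of_hgen h (hgen' ⟨i, hi⟩) (hgen ⟨i, hi⟩) _
           inf_le_right (J.map_mem inf_le_left hs)⟩)
      | (refine J.mem_of_local fun y hy => ?_
         obtain ⟨i, hi, hyi⟩ := Set.mem_iUnion₂.1 (hS (hV hy))
         exact ⟨V ⊓ i.1, inf_le_left, ⟨hy, hyi⟩, FormalExtend.eq_of_hgen h (hgen ⟨i, hi⟩) (hgen' ⟨i, hi⟩) _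
           inf_le_right ((FormalExtend.below h U JU).map_mem inf_le_left hs)⟩)
  refine ⟨J, fun x => ⟨⊤, trivial, m, 𝒜, hft𝒜, fun V _ => rfl⟩, ?_, fun V hV => htop V fun i =>
    eq_bot_iff.2 ((inf_le_inf_left _ i.1.2.1).trans hV.le)⟩
  refine Ideal.ext_of_le (FBlow.IdealSh.map_le fun O s hs V j => ?_) fun V t ht => ?_
  · obtain ⟨V', hV'U, rfl⟩ := Restrict.exists_eq_preimage 𝔛 h U V
    have hle : V' ≤ O ⊓ U := le_inf (le_of_preimage_le h hV'U j) hV'U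
    have h1 := J.map_mem (hle.trans inf_le_left) hs
    rw [heq V' hV'U, FormalExtend.below, _root_.Ideal.mem_comap] at h1
    exact (congrArg (· ∈ _) (SchIdeal.res_sharp h (Restrict.isFormal 𝔛 h U) (𝔛.restrictOpenι h U)
      (hle.trans inf_le_left) s)).mp h1
  · obtain ⟨V', hV'U, rfl⟩ := Restrict.exists_eq_preimage 𝔛 h U V
    obtain ⟨t', rfl⟩ := (Restrict.bijective_sharp 𝔛 h U hV'U).2 t
    have h1 : t' ∈ J.sect V' := by rw [heq V' hV'U]; exact ht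
    have := FBlow.IdealSh.image_mem_map ((𝔛.restrictOpenι h U : FSch.Hom _ _).app 0).base
      (FSch.Hom.sharp (𝔛.restrictOpenι h U) (Restrict.isFormal 𝔛 h U) h) J h1
      (V := ((𝔛.restrictOpenι h U : FSch.Hom _ _).app 0) ⁻¹ᵁ V') le_rfl
    rwa [FBlow.IdealSh.map_id_apply] at this

end Groth.Agent.Lib.FBlowAff.ExtendOpen
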