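import Groth.Agent.Lib.FBlowAff.OpenImm
import Groth.Agent.Lib.FBlowAff.CompletionInv

/-!
# Invertibility descends along levelwise open immersions (helper5)
-/

set_option autoImplicit false
set_option linter.style.haveILetI false

universe u

open CategoryTheory CategoryTheory.Limits TopologicalSpace Opposite AlgebraicGeometry
open Groth.Agent.H30

namespace Groth.Agent.Lib.FBlowAff.Descend

variable {𝔛 𝔜 : FSch.Sys.{u}} (hX : 𝔛.IsFormal) (hY : 𝔜.IsFormal) (v : 𝔜 ⟶ 𝔛)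
  (hv : ∀ n, IsOpenImmersion ((v : FSch.Hom 𝔜 𝔛).app n))

include hv in
/-- An open of the source is the trace of an open in the image. -/
theorem exists_open (T : (𝔜.X 0).Opens) :
    ∃ T' : (𝔛.X 0).Opens, (T' : Set (𝔛.X 0)) ⊆ Set.range ((v : FSch.Hom 𝔜 𝔛).app 0).base ∧
      ((v : FSch.Hom 𝔜 𝔛).app 0) ⁻¹ᵁ T' = T := by
  have := hv 0
  exact ⟨((v : FSch.Hom 𝔜 𝔛).app 0) ''ᵁ T, fun z hz => by obtain ⟨w, -, rfl⟩ := hz; exact ⟨w, rfl⟩,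
    ((v : FSch.Hom 𝔜 𝔛).app 0).preimage_image_eq T⟩

include hv in
/-- Membership is detected on a levelwise open immersion. -/
theorem mem_of_sharp (K : FBlow.IdealSh (𝔛.Osh hX)) {V : (𝔛.X 0).Opens}
    (hV : (V : Set (𝔛.X 0)) ⊆ Set.range ((v : FSch.Hom 𝔜 𝔛).app 0).base) (s : Levels.A 𝔛 hX V)
    (hs : (FSch.Hom.sharp v hY hX).hom.app (op V) s ∈
      (FBlow.idealMap v hY hX K).sect (((v : FSch.Hom 𝔜 𝔛).app 0) ⁻¹ᵁ V)) :
    s ∈ K.sect V := by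
  refine K.mem_of_local fun z hz => ?_
  obtain ⟨w, rfl⟩ := hV hz
  obtain ⟨V₁, e, hw, hV₁⟩ := hs w hz
  obtain ⟨T, hT, hTpre⟩ := exists_open v hv V₁
  subst hTpre
  have hle : T ≤ V := fun y hy => by
    obtain ⟨y', rfl⟩ := hT hy
    exact e hy
  refine ⟨T, hle, hw, ?_⟩
  let σ : Levels.A 𝔛 hX T →+* Levels.A 𝔜 hY (((v : FSch.Hom 𝔜 𝔛).app 0) ⁻¹ᵁ T) :=
    ((FSch.Hom.sharp v hY hX).hom.app (op T)).hom
  have hbij : Function.Bijective σ := OpenImm.bijective_sharp hX hY v hv hT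
  have h1 : σ ((𝔛.Osh hX).obj.map (homOfLE hle).op s) ∈ (K.sect T).map σ := by
    refine (congrArg (· ∈ _) (SchIdeal.res_sharp hX hY v hle s)).mpr ?_
    refine (_root_.Ideal.span_le.2 ?_) hV₁
    rintro _ ⟨W', j', _, ⟨W, j'', a, ha, rfl⟩, rfl⟩
    have hTW : T ≤ W := fun y hy => by
      obtain ⟨y', rfl⟩ := hT hy
      exact j'' (j' hy)
    refine (congrArg (· ∈ _) ?_).mp (_root_.Ideal.mem_map_of_mem σ (K.map_mem hTW ha))
    refine (SchIdeal.res_sharp hX hY v hTW a).trans ?_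
    exact (FBlow.IdealSh.map_comp_apply j'' j' _).symm
  obtain ⟨c, hc, hce⟩ := (_root_.Ideal.mem_map_iff_of_surjective σ hbij.2).1 h1
  exact hbij.1 hce ▸ hc

/-- Invertibility is local for covers by levelwise open immersions. -/
theorem isInvertible (K : FBlow.IdealSh (𝔛.Osh hX))
    (H : ∀ x : 𝔛.X 0, ∃ (ℨ : FSch.Sys.{u}) (hZ : ℨ.IsFormal) (v : ℨ ⟶ 𝔛),
      (∀ n, IsOpenImmersion ((v : FSch.Hom ℨ 𝔛).app n)) ∧ x ∈ Set.range ((v : FSch.Hom ℨ 𝔛).app 0).base ∧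
      (FBlow.idealMap v hZ hX K).IsInvertible) :
    K.IsInvertible := by
  intro x
  obtain ⟨ℨ, hZ, v, hv, ⟨y, rfl⟩, hinv⟩ := H x
  obtain ⟨T, hyT, g, hg, hT⟩ := hinv y
  obtain ⟨T', hT', hpre⟩ := exists_open v hv T
  subst hpre
  obtain ⟨g', rfl⟩ := (OpenImm.bijective_sharp hX hZ v hv hT').2 g
  refine ⟨T', hyT, g', mem_of_sharp hX hZ v hv K hT' g' hg, fun V i => ?_⟩
  have hVr : (V : Set (𝔛.X 0)) ⊆ Set.range ((v : FSch.Hom ℨ 𝔛).app 0).base := fun z hz => hT' (i hz)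
  have hbij := OpenImm.bijective_sharp hX hZ v hv hVr
  let σ : Levels.A 𝔛 hX V →+* Levels.A ℨ hZ (((v : FSch.Hom ℨ 𝔛).app 0) ⁻¹ᵁ V) :=
    ((FSch.Hom.sharp v hZ hX).hom.app (op V)).hom
  have hres : σ ((𝔛.Osh hX).obj.map (homOfLE i).op g') =
      (ℨ.Osh hZ).obj.map (homOfLE (Scheme.Hom.preimage_mono ((v : FSch.Hom ℨ 𝔛).app 0) i)).op
        ((FSch.Hom.sharp v hZ hX).hom.app (op T') g') := SchIdeal.res_sharp hX hZ v i g'
  obtain ⟨hreg, hdiv⟩ := hT _ (Scheme.Hom.preimage_mono ((v : FSch.Hom ℨ 𝔛).app 0) i)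
  refine ⟨fun t ht => hbij.1 ((hreg (σ t) ?_).trans (map_zero σ).symm), fun s hs => ?_⟩
  · rw [← hres, ← map_mul, ht, map_zero]
  · have h1 : σ s ∈ (FBlow.idealMap v hZ hX K).sect (((v : FSch.Hom ℨ 𝔛).app 0) ⁻¹ᵁ V) := by
      have := FBlow.IdealSh.image_mem_map ((v : FSch.Hom ℨ 𝔛).app 0).base (FSch.Hom.sharp v hZ hX) K hs
        (V := ((v : FSch.Hom ℨ 𝔛).app 0) ⁻¹ᵁ V) le_rfl
      rwa [FBlow.IdealSh.map_id_apply] at this
    obtain ⟨t, ht⟩ := hdiv _ h1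
    obtain ⟨t', rfl⟩ := hbij.2 t
    refine ⟨t', hbij.1 (ht.trans ?_)⟩
    rw [← hres]
    exact (map_mul σ _ _).symm

end Groth.Agent.Lib.FBlowAff.Descend
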