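import Groth.Agent.Lib.FBlowAff.LocalBlow
import Groth.Agent.Lib.FBlowAff.Descend
import Mathlib.AlgebraicGeometry.RelativeGluing

/-!
# Glueing local admissible formal blowing-ups (helper5)
-/

set_option autoImplicit false
set_option linter.style.haveILetI false

universe u

open CategoryTheory CategoryTheory.Limits TopologicalSpace Opposite AlgebraicGeometry
open Groth.Agent.H30

namespace Groth.Agent.Lib.FBlowAff.Glue

variable {𝔛 : FSch.Sys.{u}} (h : 𝔛.IsFormal) (J : FBlow.IdealSh (𝔛.Osh h))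

/-- The opens over which a blowing-up exists. -/
abbrev Idx : Type u :=
  {U : (𝔛.X 0).Opens // ∃ (𝔅 : FSch.Sys.{u}) (hB : 𝔅.IsFormal) (c : 𝔅 ⟶ 𝔛), LocalBlow.IsBlowOn h J U hB c}

variable (H : ∀ x : 𝔛.X 0, ∃ i : Idx h J, x ∈ i.1)

variable {h J}

theorem down (i : Idx h J) {V : (𝔛.X 0).Opens} (hV : V ≤ i.1) :
    ∃ (𝔅 : FSch.Sys.{u}) (hB : 𝔅.IsFormal) (c : 𝔅 ⟶ 𝔛), LocalBlow.IsBlowOn h J V hB c := by
  obtain ⟨_, _, _, hc⟩ := i.2
  exact ⟨_, _, _, LocalBlow.restrict hV hc⟩

/-- The chosen blowing-up. -/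
noncomputable def B (i : Idx h J) : FSch.Sys.{u} := i.2.choose

theorem hB (i : Idx h J) : (B i).IsFormal := i.2.choose_spec.choose

/-- Its structure map. -/
noncomputable def c (i : Idx h J) : B i ⟶ 𝔛 := i.2.choose_spec.choose_spec.choose

theorem hc (i : Idx h J) : LocalBlow.IsBlowOn h J i.1 (hB i) (c i) :=
  i.2.choose_spec.choose_spec.choose_spec

theorem existsUnique_tt {i j : Idx h J} (hij : i ≤ j) : ∃! k : B i ⟶ B j, k ≫ c j = c i :=
  (hc j).univ _ (hB i) (c i) (hc i).adic (hc i).inv fun z => hij ((hc i).mem z)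

/-- The comparison. -/
noncomputable def tt {i j : Idx h J} (hij : i ≤ j) : B i ⟶ B j := (existsUnique_tt hij).choose

theorem tt_c {i j : Idx h J} (hij : i ≤ j) : tt hij ≫ c j = c i := (existsUnique_tt hij).choose_spec.1

theorem tt_unique {i j : Idx h J} (hij : i ≤ j) {k : B i ⟶ B j} (hk : k ≫ c j = c i) : k = tt hij :=
  (existsUnique_tt hij).choose_spec.2 k hk

theorem tt_refl (i : Idx h J) : tt (le_refl i) = 𝟙 (B i) := (tt_unique _ (Category.id_comp _)).symm

theorem tt_trans {i j l : Idx h J} (hij : i ≤ j) (hjl : j ≤ l) : tt hij ≫ tt hjl = tt (hij.trans hjl) :=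
  tt_unique _ (by rw [Category.assoc, tt_c, tt_c])

instance tt_openImm {i j : Idx h J} (hij : i ≤ j) (n : ℕ) :
    IsOpenImmersion ((tt hij : FSch.Hom _ _).app n) :=
  (LocalBlow.exists_openImm hij (hc j) (hc i) _ (tt_c hij) n).1

theorem range_tt {i j : Idx h J} (hij : i ≤ j) (n : ℕ) :
    Set.range ((tt hij : FSch.Hom _ _).app n).base =
      (((c j : FSch.Hom _ 𝔛).app n) ⁻¹ᵁ 𝔛.lvU h n i.1 : Set ((B j).X n)) :=
  (LocalBlow.exists_openImm hij (hc j) (hc i) _ (tt_c hij) n).2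

theorem range_c (i : Idx h J) (n : ℕ) :
    Set.range ((c i : FSch.Hom _ 𝔛).app n).base ⊆ (𝔛.lvU h n i.1 : Set (𝔛.X n)) := by
  rintro _ ⟨z, rfl⟩
  have hz : z ∈ ((c i : FSch.Hom _ 𝔛).app n) ⁻¹ᵁ 𝔛.lvU h n i.1 := by
    rw [FSch.Hom.lvU_preimage (c i) (hB i) h n i.1]
    exact (hc i).mem _
  exact hz

/-- The structure map into the open. -/
noncomputable def cr (i : Idx h J) (n : ℕ) : (B i).X n ⟶ (𝔛.lvU h n i.1).toScheme :=
  IsOpenImmersion.lift (𝔛.lvU h n i.1).ι ((c i : FSch.Hom _ 𝔛).app n)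
    (by rw [Scheme.Opens.range_ι]; exact range_c i n)

theorem cr_ι (i : Idx h J) (n : ℕ) : cr i n ≫ (𝔛.lvU h n i.1).ι = (c i : FSch.Hom _ 𝔛).app n :=
  IsOpenImmersion.lift_fac _ _ _

theorem app_congr {𝔅 𝔅' : FSch.Sys.{u}} {k k' : 𝔅 ⟶ 𝔅'} (e : k = k') (n : ℕ) :
    (k : FSch.Hom 𝔅 𝔅').app n = (k' : FSch.Hom 𝔅 𝔅').app n := by rw [e]

/-- The cover of the level. -/
noncomputable def cov (n : ℕ) : (𝔛.X n).OpenCover :=
  Scheme.Cover.mkOfCovers (Idx h J) (fun i => (𝔛.lvU h n i.1).toScheme) (fun i => (𝔛.lvU h n i.1).ι)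
    (fun z => by
      obtain ⟨i, hi⟩ := H (𝔛.gInv h n z)
      exact ⟨i, ⟨z, hi⟩, rfl⟩)

instance (n : ℕ) : Preorder (cov H n).I₀ := inferInstanceAs (Preorder (Idx h J))

/-- The transition of the cover. -/
noncomputable abbrev covTrans (n : ℕ) {i j : Idx h J} (hij : i ≤ j) :
    (𝔛.lvU h n i.1).toScheme ⟶ (𝔛.lvU h n j.1).toScheme :=
  (𝔛.X n).homOfLE (Sigma.lvU_mono h n hij)

noncomputable instance (n : ℕ) : (cov H n).LocallyDirected where
  trans {i j} hij := covTrans (h := h) (J := J) n (leOfHom hij)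
  trans_id i := Scheme.homOfLE_rfl _ _
  trans_comp {i j k} hij hjk := (Scheme.homOfLE_homOfLE _ _ _).symm
  w {i j} hij := Scheme.homOfLE_ι _ _
  directed {i j} x := by
    let xi := pullback.fst ((cov H n).f i) ((cov H n).f j) x
    let xj := pullback.snd ((cov H n).f i) ((cov H n).f j) x
    have e : ((cov H n).f i) xi = ((cov H n).f j) xj :=
      congrArg (fun φ => φ.base x) (pullback.condition (f := (cov H n).f i) (g := (cov H n).f j))
    let l : Idx h J := ⟨(show Idx h J from i).1 ⊓ (show Idx h J from j).1, down (show Idx h J from i) inf_le_left⟩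
    have hm : ((cov H n).f i) xi ∈ 𝔛.lvU h n l.1 := by
      refine ⟨xi.2, ?_⟩
      rw [e]
      exact xj.2
    refine ⟨l, homOfLE (inf_le_left : l.1 ≤ _), homOfLE (inf_le_right : l.1 ≤ _), ⟨_, hm⟩, ?_⟩
    apply (pullback.fst ((cov H n).f i) ((cov H n).f j) ≫ (cov H n).f i).isOpenEmbedding.injective
    rw [← Scheme.Hom.comp_apply, pullback.lift_fst_assoc]
    exact congrArg (fun φ => φ.base ⟨_, hm⟩) (Scheme.homOfLE_ι (𝔛.X n) (Sigma.lvU_mono h n inf_le_left))
  property_trans {i j} hij := inferInstanceAs (IsOpenImmersion (covTrans (h := h) (J := J) n (leOfHom hij)))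

/-- The gluing datum. -/
noncomputable def dd (n : ℕ) : Scheme.Cover.RelativeGluingData (cov H n) where
  functor :=
    { obj := fun i => (B (show Idx h J from i)).X n
      map := fun {i j} hij =>
        (tt (i := (show Idx h J from i)) (j := (show Idx h J from j)) (leOfHom hij) : FSch.Hom _ _).app n
      map_id := fun i => app_congr (tt_refl (show Idx h J from i)) n
      map_comp := fun {i j k} f g => (app_congr (tt_trans (i := (show Idx h J from i))
        (j := (show Idx h J from j)) (l := (show Idx h J from k)) (leOfHom f) (leOfHom g)) n).symm }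
  natTrans :=
    { app := fun i => cr (show Idx h J from i) n
      naturality := fun i j hij => by
        refine (cancel_mono (𝔛.lvU h n (show Idx h J from j).1).ι).1 ?_
        show (_ ≫ cr _ n) ≫ _ = (cr _ n ≫ covTrans n (leOfHom hij)) ≫ _
        rw [Category.assoc, Category.assoc, cr_ι, Scheme.homOfLE_ι, cr_ι]
        exact app_congr (tt_c (i := (show Idx h J from i)) (j := (show Idx h J from j)) (leOfHom hij)) n }
  equifibered := fun i j hij => by
    refine (IsOpenImmersion.isPullback (cr (show Idx h J from i) n)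
      ((tt (i := (show Idx h J from i)) (j := (show Idx h J from j)) (leOfHom hij) : FSch.Hom _ _).app n)
      (covTrans n (leOfHom hij)) (cr (show Idx h J from j) n) ?_ ?_).flip
    · refine (cancel_mono (𝔛.lvU h n (show Idx h J from j).1).ι).1 ?_
      rw [Category.assoc, Category.assoc, cr_ι, Scheme.homOfLE_ι, cr_ι]
      exact app_congr (tt_c (i := (show Idx h J from i)) (j := (show Idx h J from j)) (leOfHom hij)) n
    · refine Opens.ext ?_
      rw [Scheme.Hom.coe_opensRange, range_tt, Scheme.Hom.coe_preimage, Scheme.Hom.coe_opensRange]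
      ext z
      have e : ((c (show Idx h J from j) : FSch.Hom _ 𝔛).app n).base z = ((cr (show Idx h J from j) n).base z).1 := by
        rw [← cr_ι]; rfl
      show (cr (show Idx h J from j) n).base z ∈ Set.range (covTrans n (leOfHom hij)).base ↔
        ((c (show Idx h J from j) : FSch.Hom _ 𝔛).app n).base z ∈ 𝔛.lvU h n (show Idx h J from i).1
      rw [e]
      have e' : ∀ w, ((covTrans (h := h) (J := J) n (leOfHom hij)).base w).1 = w.1 := fun w =>
        congrArg (fun φ => φ.base w) (Scheme.homOfLE_ι (𝔛.X n) (Sigma.lvU_mono h n (leOfHom hij)))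
      constructor
      · rintro ⟨w, hw⟩
        rw [← hw, e']
        exact w.2
      · exact fun hz => ⟨⟨_, hz⟩, Subtype.ext (e' ⟨_, hz⟩)⟩

instance (n : ℕ) : Small.{u} (cov H n).I₀ := inferInstanceAs (Small.{u} (Idx h J))

/-- The glued level. -/
noncomputable def X (n : ℕ) : Scheme.{u} := (dd H n).glued

/-- The structure map of the glued level. -/
noncomputable def bn (n : ℕ) : X H n ⟶ 𝔛.X n := (dd H n).toBase

/-- The pieces of the glued level. -/
noncomputable def vn (n : ℕ) (i : Idx h J) : (B i).X n ⟶ X H n := colimit.ι (dd H n).functor i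

instance (n : ℕ) (i : Idx h J) : IsOpenImmersion (vn H n i) :=
  inferInstanceAs (IsOpenImmersion ((dd H n).cover.f i))

theorem vn_bn (n : ℕ) (i : Idx h J) : vn H n i ≫ bn H n = (c i : FSch.Hom _ 𝔛).app n :=
  ((dd H n).ι_toBase i).trans (cr_ι i n)

theorem range_vn (n : ℕ) (i : Idx h J) :
    (vn H n i).opensRange = (bn H n) ⁻¹ᵁ 𝔛.lvU h n i.1 := by
  have := (dd H n).toBase_preimage_eq_opensRange_ι i
  refine this.symm.trans ?_
  show _ ⁻¹ᵁ (𝔛.lvU h n i.1).ι.opensRange = _
  rw [Scheme.Opens.opensRange_ι]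
  rfl

theorem tt_vn (n : ℕ) {i j : Idx h J} (hij : i ≤ j) :
    (tt hij : FSch.Hom _ _).app n ≫ vn H n j = vn H n i :=
  colimit.w (dd H n).functor (homOfLE hij : (show (cov H n).I₀ from i) ⟶ j)

theorem exists_ι (n : ℕ) : ∃ ι' : X H n ⟶ X H (n + 1), ∀ i, vn H n i ≫ ι' = (B i).ι n ≫ vn H (n + 1) i := by
  refine ⟨colimit.desc (dd H n).functor
    { pt := X H (n + 1)
      ι := { app := fun i => (B (show Idx h J from i)).ι n ≫ vn H (n + 1) (show Idx h J from i)
             naturality := fun i j hij => ?_ } }, fun i => colimit.ι_desc _ _⟩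
  show (tt (i := (show Idx h J from i)) (j := (show Idx h J from j)) (leOfHom hij) : FSch.Hom _ _).app n ≫
    (B _).ι n ≫ vn H (n + 1) _ = ((B _).ι n ≫ vn H (n + 1) _) ≫ 𝟙 _
  rw [Category.comp_id, ← Category.assoc, (tt (leOfHom hij) : FSch.Hom _ _).comm n, Category.assoc, tt_vn]

/-- The transition maps of the glued system. -/
noncomputable def ιn (n : ℕ) : X H n ⟶ X H (n + 1) := (exists_ι H n).choose

/-- The glued system. -/
noncomputable def sys : FSch.Sys.{u} := ⟨X H, ιn H⟩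

theorem vn_ι (n : ℕ) (i : Idx h J) : vn H n i ≫ ιn H n = (B i).ι n ≫ vn H (n + 1) i :=
  (exists_ι H n).choose_spec i

theorem hom_ext {n : ℕ} {T : Scheme.{u}} {f g : X H n ⟶ T} (e : ∀ i, vn H n i ≫ f = vn H n i ≫ g) : f = g :=
  colimit.hom_ext e

theorem bn_comm (n : ℕ) : bn H n ≫ 𝔛.ι n = ιn H n ≫ bn H (n + 1) := by
  refine hom_ext H fun i => ?_
  rw [← Category.assoc, vn_bn, ← Category.assoc, vn_ι, Category.assoc, vn_bn]
  exact (c i : FSch.Hom _ 𝔛).comm n

/-- The structure map. -/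
noncomputable def b : sys H ⟶ 𝔛 := ⟨bn H, bn_comm H⟩

/-- The pieces. -/
noncomputable def v (i : Idx h J) : B i ⟶ sys H := ⟨fun n => vn H n i, fun n => vn_ι H n i⟩

theorem v_b (i : Idx h J) : v H i ≫ b H = c i := FSch.Hom.ext (funext fun n => vn_bn H n i)

theorem adic_b : FSch.IsAdicHom (b H) := by
  intro n
  refine Scheme.isPullback_of_openCover (ιn H n) (bn H n) (bn H (n + 1)) (𝔛.ι n) (dd H (n + 1)).cover fun i => ?_
  let i' : Idx h J := i
  have sq : IsPullback (vn H n i') ((B i').ι n) (ιn H n) (vn H (n + 1) i') := by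
    refine (IsOpenImmersion.isPullback ((B i').ι n) (vn H n i') (vn H (n + 1) i') (ιn H n)
      (vn_ι H n i') ?_).flip
    rw [range_vn, range_vn, ← Scheme.Hom.comp_preimage, ← bn_comm, Scheme.Hom.comp_preimage, 𝔛.lvU_succ]
  refine ((hc i').adic n).of_iso sq.isoPullback (Iso.refl _) (Iso.refl _) (Iso.refl _) ?_ ?_ ?_ ?_
  · exact (Category.comp_id _).trans sq.isoPullback_hom_snd.symm
  · refine (Category.comp_id _).trans ?_
    show _ = sq.isoPullback.hom ≫ pullback.fst _ _ ≫ bn H n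
    rw [← Category.assoc, sq.isoPullback_hom_fst, vn_bn]
  · refine (Category.comp_id _).trans ?_
    refine Eq.trans ?_ (Category.id_comp _).symm
    exact (vn_bn H (n + 1) i').symm
  · exact (Category.comp_id _).trans (Category.id_comp _).symm

theorem isFormal_sys : (sys H).IsFormal := fun n => by
  have := (h n).1
  haveI : Surjective (𝔛.ι n) := ⟨(h n).2⟩
  exact ⟨MorphismProperty.of_isPullback (P := @IsClosedImmersion) (adic_b H n).flip inferInstance,
    (MorphismProperty.of_isPullback (P := @Surjective) (adic_b H n).flip inferInstance).surj⟩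

theorem isInvertible : (FBlow.idealMap (b H) (isFormal_sys H) h J).IsInvertible := by
  refine Descend.isInvertible (isFormal_sys H) _ fun x => ?_
  obtain ⟨i, hi⟩ := H (((b H : FSch.Hom _ 𝔛).app 0).base x)
  refine ⟨B i, hB i, v H i, fun n => inferInstanceAs (IsOpenImmersion (vn H n i)), ?_, ?_⟩
  · have : x ∈ (vn H 0 i).opensRange := by
      rw [range_vn]
      exact (Unit.mem_lvU_zero h _).2 hi
    exact this
  · rw [Transport.idealMap_comp h (isFormal_sys H) (hB i) (v H i) (b H) J, v_b]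
    exact (hc i).inv

section Univ

variable {𝔜 : FSch.Sys.{u}} (hY : 𝔜.IsFormal) (g : 𝔜 ⟶ 𝔛) (hg : FSch.IsAdicHom g)
  (hgJ : (FBlow.idealMap g hY h J).IsInvertible)

/-- The preimage of a piece. -/
abbrev W (i : Idx h J) : (𝔜.X 0).Opens := ((g : FSch.Hom 𝔜 𝔛).app 0) ⁻¹ᵁ i.1

include hg hgJ in
theorem existsUnique_k (i : Idx h J) :
    ∃! k : 𝔜.restrictOpen hY (W g i) ⟶ B i, k ≫ c i = 𝔜.restrictOpenι hY (W g i) ≫ g := by
  refine (hc i).univ _ (Restrict.isFormal 𝔜 hY _) _
    (Transport.isAdicHom_comp (Restrict.isAdicHom_ι 𝔜 hY _) hg) ?_ fun z => Transport.ι_mem hY (W g i) z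
  rw [← Transport.idealMap_comp h hY (Restrict.isFormal 𝔜 hY _) (𝔜.restrictOpenι hY (W g i)) g J]
  exact Transport.isInvertible_restrict hY _ hgJ

include hg hgJ in
theorem existsUnique_univ : ∃! k : 𝔜 ⟶ sys H, k ≫ b H = g := by
  choose k hk huk using existsUnique_k hY g hg hgJ
  let m : ∀ i, 𝔜.restrictOpen hY (W g i) ⟶ sys H := fun i => k i ≫ v H i
  have hres : ∀ {i j : Idx h J} (hij : i ≤ j) (n : ℕ),
      (𝔜.X n).homOfLE (Sigma.lvU_mono hY n (Scheme.Hom.preimage_mono _ hij : W g i ≤ W g j)) ≫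
        (m j : FSch.Hom _ _).app n = (m i : FSch.Hom _ _).app n := by
    intro i j hij n
    obtain ⟨r, hr⟩ := Transport.exists_factor_restrict hY (W g j) (𝔜.restrictOpenι hY (W g i))
      (Restrict.isFormal 𝔜 hY _) fun z => hij (Transport.ι_mem hY (W g i) z)
    have e1 : k i ≫ tt hij = r ≫ k j := by
      refine ((hc j).univ _ (Restrict.isFormal 𝔜 hY _) (𝔜.restrictOpenι hY (W g i) ≫ g)
        (Transport.isAdicHom_comp (Restrict.isAdicHom_ι 𝔜 hY _) hg) ?_
        fun z => hij (Transport.ι_mem hY (W g i) z)).unique ?_ ?_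
      · rw [← Transport.idealMap_comp h hY (Restrict.isFormal 𝔜 hY _) (𝔜.restrictOpenι hY (W g i)) g J]
        exact Transport.isInvertible_restrict hY _ hgJ
      · rw [Category.assoc, tt_c, hk]
      · rw [Category.assoc, hk, ← Category.assoc, hr]
    have e2 : m i = r ≫ m j := by
      show k i ≫ v H i = r ≫ k j ≫ v H j
      rw [← Category.assoc, ← e1, Category.assoc]
      exact congrArg _ (FSch.Hom.ext (funext fun n => (tt_vn H n hij).symm))
    have e3 : (r : FSch.Hom _ _).app n =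
        (𝔜.X n).homOfLE (Sigma.lvU_mono hY n (Scheme.Hom.preimage_mono _ hij : W g i ≤ W g j)) :=
      (cancel_mono (𝔜.lvU hY n (W g j)).ι).1 ((app_congr hr n).trans (Scheme.homOfLE_ι _ _).symm)
    rw [← e3]
    exact (app_congr e2 n).symm
  have hW : ∀ x : 𝔜.X 0, ∃ i : Idx h J, x ∈ W g i := fun x => H _
  have hglue := fun n => Sigma.exists_glue hY n (W g) hW (fun i => (m i : FSch.Hom _ _).app n) fun i j =>
    (hres (i := ⟨i.1 ⊓ j.1, down i inf_le_left⟩) (j := i) (inf_le_left : i.1 ⊓ j.1 ≤ i.1) n).trans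
      (hres (i := ⟨i.1 ⊓ j.1, down i inf_le_left⟩) (j := j) (inf_le_right : i.1 ⊓ j.1 ≤ j.1) n).symm
  choose K hK using hglue
  let KK : 𝔜 ⟶ sys H := ⟨K, fun n => Sigma.hom_ext hY n fun x => by
    obtain ⟨i, hi⟩ := hW x
    refine ⟨W g i, hi, ?_⟩
    rw [← Category.assoc, hK]
    refine ((m i : FSch.Hom _ _).comm n).trans ?_
    show (𝔜.ι n).resLE _ _ (𝔜.lvU_le hY n (W g i)) ≫ _ = _
    rw [← hK (n + 1) i, Scheme.Hom.resLE_comp_ι_assoc]⟩
  have hKb : KK ≫ b H = g := FSch.Hom.ext (funext fun n => Sigma.hom_ext hY n fun x => by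
    obtain ⟨i, hi⟩ := hW x
    refine ⟨W g i, hi, ?_⟩
    show _ ≫ K n ≫ _ = _
    rw [← Category.assoc, hK]
    refine Eq.trans ?_ (app_congr (hk i) n)
    exact congrArg ((k i : FSch.Hom _ _).app n ≫ ·) (vn_bn H n i) |> (Category.assoc _ _ _).trans)
  refine ⟨KK, hKb, fun k' hk' => FSch.Hom.ext (funext fun n => Sigma.hom_ext hY n fun x => ?_)⟩
  obtain ⟨i, hi⟩ := hW x
  refine ⟨W g i, hi, Eq.trans ?_ (hK n i).symm⟩
  let u := 𝔜.restrictOpenι hY (W g i) ≫ k'
  have hu : u ≫ b H = 𝔜.restrictOpenι hY (W g i) ≫ g := by rw [Category.assoc, hk']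
  have hrange : ∀ n, Set.range ((u : FSch.Hom _ _).app n).base ⊆ Set.range (vn H n i).base := by
    rintro n _ ⟨z, rfl⟩
    have hz : ((u : FSch.Hom _ _).app n).base z ∈ (bn H n) ⁻¹ᵁ 𝔛.lvU h n i.1 := by
      show (bn H n).base (((u : FSch.Hom _ _).app n).base z) ∈ 𝔛.lvU h n i.1
      have e : (bn H n).base (((u : FSch.Hom _ _).app n).base z) =
          ((c i : FSch.Hom _ 𝔛).app n).base (((k i : FSch.Hom _ _).app n).base z) :=
        congrArg (fun φ => φ.base z) ((app_congr hu n).trans (app_congr (hk i) n).symm)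
      rw [e]
      exact range_c i n ⟨_, rfl⟩
    rw [← range_vn] at hz
    exact hz
  let un : ∀ n, (𝔜.restrictOpen hY (W g i)).X n ⟶ X H n := fun n => (u : FSch.Hom _ _).app n
  have hun : ∀ n, un n ≫ ιn H n = (𝔜.restrictOpen hY (W g i)).ι n ≫ un (n + 1) := (u : FSch.Hom _ _).comm
  let l : 𝔜.restrictOpen hY (W g i) ⟶ B i :=
    ⟨fun n => IsOpenImmersion.lift (vn H n i) (un n) (hrange n), fun n => by
      refine (cancel_mono (vn H (n + 1) i)).1 ?_
      rw [Category.assoc, ← vn_ι, IsOpenImmersion.lift_fac_assoc, Category.assoc, IsOpenImmersion.lift_fac]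
      exact hun n⟩
  have hlv : l ≫ v H i = u := FSch.Hom.ext (funext fun n => IsOpenImmersion.lift_fac (vn H n i) (un n) (hrange n))
  have hlk : l = k i := huk i l (show l ≫ c i = _ by rw [← v_b H i, ← Category.assoc, hlv, hu])
  show (u : FSch.Hom _ _).app n = (m i : FSch.Hom _ _).app n
  exact app_congr (hlv.symm.trans (congrArg (· ≫ v H i) hlk)) n

end Univ

include H in
theorem exists_isAdmBlowUp :
    ∃ (𝔛' : FSch.Sys.{u}) (h' : 𝔛'.IsFormal) (b : 𝔛' ⟶ 𝔛), FBlow.IsAdmBlowUp b h' h J :=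
  ⟨sys H, isFormal_sys H, b H, adic_b H, isInvertible H,
    fun _ hY g hg hgJ => existsUnique_univ H hY g hg hgJ⟩

end Groth.Agent.Lib.FBlowAff.Glue
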