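import Groth.Agent.Lib.FBlowAff.FiniteProd
import Groth.Agent.Lib.FBlowAff.ExtendOpen
import Groth.Agent.Lib.FBlowAff.Glue

/-!
# Dominating a family of admissible formal blowing-ups (helper5)
-/

set_option autoImplicit false
set_option linter.style.haveILetI false

universe u

open CategoryTheory CategoryTheory.Limits TopologicalSpace Opposite AlgebraicGeometry
open Groth.Agent.H30

namespace Groth.Agent.Lib.FBlowAff.Dominate

/-- Existence of blowing-ups of coherent open ideals. -/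
theorem exists_blowUp {R : Type u} [CommRing R] {I : _root_.Ideal R} (hR : AdicRing.IsBase R I)
    {𝔛 : FSch.Sys.{u}} (h : 𝔛.IsFormal) (p : 𝔛 ⟶ FSch.spf R I) (hp : FSch.IsAdicHom p)
    (J : FBlow.IdealSh (𝔛.Osh h)) (hJ : CohLocal.LocGen h I p J) :
    ∃ (𝔛' : FSch.Sys.{u}) (h' : 𝔛'.IsFormal) (b : 𝔛' ⟶ 𝔛), FBlow.IsAdmBlowUp b h' h J :=
  Glue.exists_isAdmBlowUp fun x => by
    obtain ⟨U, k, 𝔞, hxU, hU, -, hle, hgen⟩ := hJ x
    exact ⟨⟨U, LocalBlow.exists_isBlowOn I p hp (Groth.Agent.Lib.Adic.Base.isBase_fg hR) hU hle hgen⟩, hxU⟩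

/-- S13655. -/
theorem main {R : Type u} [CommRing R] {I : _root_.Ideal R} (hR : AdicRing.IsBase R I)
    {𝔛 : FSch.Sys.{u}} (h : 𝔛.IsFormal) (p : 𝔛 ⟶ FSch.spf R I) (hp : FSch.IsAdicHom p)
    (hft : LocallyOfFiniteType ((p : FSch.Hom _ _).app 0)) [QuasiSeparatedSpace (𝔛.X 0)]
    (ι : Type u) (V : ι → (𝔛.X 0).Opens) (hV : (⨆ i, V i) = ⊤) (hVc : ∀ i, IsCompact (V i : Set (𝔛.X 0)))
    (hVf : ∀ i, Set.Finite {j : ι | V i ⊓ V j ≠ ⊥})
    (Ji : ∀ i, FBlow.IdealSh ((𝔛.restrictOpen h (V i)).Osh (Restrict.isFormal 𝔛 h (V i))))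
    (hJi : ∀ i, FBlow.IsCohOpen (𝔛.restrictOpen h (V i)) (Restrict.isFormal 𝔛 h (V i)) (Ji i))
    (𝔛i : ι → FSch.Sys.{u}) (hi : ∀ i, (𝔛i i).IsFormal) (bi : ∀ i, 𝔛i i ⟶ 𝔛.restrictOpen h (V i))
    (hbi : ∀ i, FBlow.IsAdmBlowUp (bi i) (hi i) (Restrict.isFormal 𝔛 h (V i)) (Ji i)) :
    ∃ (J : FBlow.IdealSh (𝔛.Osh h)) (𝔛' : FSch.Sys.{u}) (h' : 𝔛'.IsFormal) (b : 𝔛' ⟶ 𝔛),
      FBlow.IsCohOpen 𝔛 h J ∧ FBlow.IsAdmBlowUp b h' h J ∧
      ∀ i, ∃! k : 𝔛'.restrictOpen h' (((b : FSch.Hom 𝔛' 𝔛).app 0) ⁻¹ᵁ (V i)) ⟶ 𝔛i i,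
        k ≫ bi i = FSch.Hom.restrictOpen b h' h (V i) := by
  have hI := Groth.Agent.Lib.Adic.Base.isBase_fg hR
  choose Jx hJx hJxU hJxtop using fun i => ExtendOpen.main h p hR hp hft V hV hVc hVf (V i) (hVc i) (Ji i) (hJi i)
  let J := FiniteProd.prod h V Jx ∅
  have hloc : CohLocal.LocGen h I p J := FiniteProd.locGen_prod h V Jx hJxtop I p hV hVf
    fun i => CohLocal.exists_gen h I p hp hI (Jx i) (hJx i)
  obtain ⟨𝔛', h', b, hb⟩ := exists_blowUp hR h p hp J hloc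
  refine ⟨J, 𝔛', h', b, FiniteProd.isCohOpen_of_locGen h I p hR hp hft V hV hVc hVf J hloc, hb, fun i => ?_⟩
  have hmul : (FBlow.idealMap b h' h (Jx i)).IsInvertible := by
    have := hb.2.1
    rw [show J = _ from FiniteProd.prod_eq_mul h V Jx hJxtop i, MulInv.idealMap_mul] at this
    exact (MulInv.isInvertible_of_mul this).1
  obtain ⟨hadic, -, -⟩ := Transport.isAdmBlowUp_restrict h (V i) h' b hb
  let W := ((b : FSch.Hom 𝔛' 𝔛).app 0) ⁻¹ᵁ V i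
  refine (hbi i).2.2 _ (Restrict.isFormal 𝔛' h' W) _ hadic ?_
  rw [← hJxU i, Transport.idealMap_comp h (Restrict.isFormal 𝔛 h (V i)) (Restrict.isFormal 𝔛' h' W)
      (FSch.Hom.restrictOpen b h' h (V i)) (𝔛.restrictOpenι h (V i)) (Jx i),
    FSch.Hom.restrictOpen_ι b h' h (V i),
    ← Transport.idealMap_comp h h' (Restrict.isFormal 𝔛' h' W) (𝔛'.restrictOpenι h' W) b (Jx i)]
  exact Transport.isInvertible_restrict h' W hmul

end Groth.Agent.Lib.FBlowAff.Dominate
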