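import Groth.Agent.Lib.FBlowAff.CompBlow
import Groth.Agent.Lib.FBlowAff.Dominate

/-!
# Dominating composites of admissible formal blowing-ups (helper5)
-/

set_option autoImplicit false
set_option linter.style.haveILetI false

universe u

open CategoryTheory CategoryTheory.Limits TopologicalSpace Opposite AlgebraicGeometry
open Groth.Agent.H30

namespace Groth.Agent.Lib.FBlowAff.CompDominate

variable {R : Type u} [CommRing R] (I : _root_.Ideal R)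

theorem hopen_of_locGen {𝔛 : FSch.Sys.{u}} (h : 𝔛.IsFormal) (p : 𝔛 ⟶ FSch.spf R I)
    (L : FBlow.IdealSh (𝔛.Osh h)) (hL : CohLocal.LocGen h I p L) (x : 𝔛.X 0) :
    ∃ (V : (𝔛.X 0).Opens) (k : ℕ), x ∈ V ∧ ∀ a ∈ I ^ k, AdmLocal.const I h p V a ∈ L.sect V := by
  obtain ⟨U, k, 𝔞, hxU, -, -, hle, hgen⟩ := hL x
  exact ⟨U, k, hxU, fun c hc => hgen.1 _ (hle (by
    rw [← _root_.Ideal.map_pow]; exact _root_.Ideal.mem_map_of_mem _ hc))⟩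

theorem tf_restrict {𝔛 : FSch.Sys.{u}} (h : 𝔛.IsFormal) (htf : BlowProps.TF 𝔛 h) (U : (𝔛.X 0).Opens) :
    BlowProps.TF (𝔛.restrictOpen h U) (Restrict.isFormal 𝔛 h U) := by
  intro T s hs
  obtain ⟨T', hT', rfl⟩ := Restrict.exists_eq_preimage 𝔛 h U T
  let ι := 𝔛.restrictOpenι h U
  let σ : Levels.A 𝔛 h T' →+* Levels.A (𝔛.restrictOpen h U) (Restrict.isFormal 𝔛 h U)
      (((ι : FSch.Hom _ 𝔛).app 0) ⁻¹ᵁ T') := ((FSch.Hom.sharp ι (Restrict.isFormal 𝔛 h U) h).hom.app (op T')).hom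
  have hbij : Function.Bijective σ := Restrict.bijective_sharp 𝔛 h U hT'
  obtain ⟨s', rfl⟩ := hbij.2 s
  suffices h0 : s' = 0 by
    subst h0
    exact map_zero σ
  refine htf T' s' fun a ha => hbij.1 (Eq.trans ?_ (map_zero σ).symm)
  refine (map_mul σ a s').trans (hs (σ a) ?_)
  refine RingHom.mem_ker.2 ?_
  refine (SchIdeal.proj_sharp h (Restrict.isFormal 𝔛 h U) ι 0 T' a).trans ?_
  rw [show Levels.proj 𝔛 h 0 T' a = 0 from RingHom.mem_ker.1 ha]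
  exact map_zero _

theorem compactSpace_restrict {𝔛 : FSch.Sys.{u}} (h : 𝔛.IsFormal) {U : (𝔛.X 0).Opens}
    (hU : IsCompact (U : Set (𝔛.X 0))) : CompactSpace ((𝔛.restrictOpen h U).X 0) := by
  have e : (𝔛.lvU h 0 U : Set (𝔛.X 0)) = U := Set.ext fun x => Unit.mem_lvU_zero h x
  exact isCompact_iff_compactSpace.1 (show IsCompact (𝔛.lvU h 0 U : Set (𝔛.X 0)) from e.symm ▸ hU)

theorem quasiSeparatedSpace_restrict {𝔛 : FSch.Sys.{u}} (h : 𝔛.IsFormal) [QuasiSeparatedSpace (𝔛.X 0)]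
    (U : (𝔛.X 0).Opens) : QuasiSeparatedSpace ((𝔛.restrictOpen h U).X 0) :=
  QuasiSeparatedSpace.of_isOpenEmbedding (𝔛.lvU h 0 U).isOpenEmbedding'

/-- S13656. -/
theorem main (hR : AdicRing.IsBase R I) {𝔛 : FSch.Sys.{u}} (h : 𝔛.IsFormal) (p : 𝔛 ⟶ FSch.spf R I)
    (hp : FSch.IsAdicHom p) (hft : LocallyOfFiniteType ((p : FSch.Hom _ _).app 0)) (htf : BlowProps.TF 𝔛 h)
    [QuasiSeparatedSpace (𝔛.X 0)] (ι : Type u) (V : ι → (𝔛.X 0).Opens) (hV : (⨆ i, V i) = ⊤)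
    (hVc : ∀ i, IsCompact (V i : Set (𝔛.X 0))) (hVf : ∀ i, Set.Finite {j : ι | V i ⊓ V j ≠ ⊥})
    (J : FBlow.IdealSh (𝔛.Osh h)) (hJ : CohLocal.LocGen h I p J)
    {𝔛' : FSch.Sys.{u}} (h' : 𝔛'.IsFormal) (b : 𝔛' ⟶ 𝔛) (hb : FBlow.IsAdmBlowUp b h' h J)
    (J' : FBlow.IdealSh (𝔛'.Osh h')) (hJ' : CohLocal.LocGen h' I (b ≫ p) J')
    {𝔛'' : FSch.Sys.{u}} (h'' : 𝔛''.IsFormal) (b' : 𝔛'' ⟶ 𝔛') (hb' : FBlow.IsAdmBlowUp b' h'' h' J') :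
    ∃ (J₃ : FBlow.IdealSh (𝔛.Osh h)) (𝔛₃ : FSch.Sys.{u}) (h₃ : 𝔛₃.IsFormal) (c : 𝔛₃ ⟶ 𝔛),
      FBlow.IsCohOpen 𝔛 h J₃ ∧ FBlow.IsAdmBlowUp c h₃ h J₃ ∧ ∃ s : 𝔛₃ ⟶ 𝔛'', s ≫ b' ≫ b = c := by
  have hI := Groth.Agent.Lib.Adic.Base.isBase_fg hR
  let hV0 := fun i => Restrict.isFormal 𝔛 h (V i)
  let V' := fun i => ((b : FSch.Hom 𝔛' 𝔛).app 0) ⁻¹ᵁ V i
  let hV1 := fun i => Restrict.isFormal 𝔛' h' (V' i)
  let hV2 := fun i => Restrict.isFormal 𝔛'' h'' (((b' : FSch.Hom 𝔛'' 𝔛').app 0) ⁻¹ᵁ V' i)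
  let pV := fun i => 𝔛.restrictOpenι h (V i) ≫ p
  let bV := fun i => FSch.Hom.restrictOpen b h' h (V i)
  let bV' := fun i => FSch.Hom.restrictOpen b' h'' h' (V' i)
  let JV := fun i => FBlow.idealMap (𝔛.restrictOpenι h (V i)) (hV0 i) h J
  let JV' := fun i => FBlow.idealMap (𝔛'.restrictOpenι h' (V' i)) (hV1 i) h' J'
  have hbV : ∀ i, FBlow.IsAdmBlowUp (bV i) (hV1 i) (hV0 i) (JV i) := fun i =>
    Transport.isAdmBlowUp_restrict h (V i) h' b hb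
  have hbV' : ∀ i, FBlow.IsAdmBlowUp (bV' i) (hV2 i) (hV1 i) (JV' i) := fun i =>
    Transport.isAdmBlowUp_restrict h' (V' i) h'' b' hb'
  have hpV : ∀ i, FSch.IsAdicHom (pV i) := fun i =>
    Transport.isAdicHom_comp (Restrict.isAdicHom_ι 𝔛 h (V i)) hp
  have hftV : ∀ i, LocallyOfFiniteType ((pV i : FSch.Hom _ (FSch.spf R I)).app 0) := fun i => by
    show LocallyOfFiniteType ((𝔛.lvU h 0 (V i)).ι ≫ (p : FSch.Hom _ _).app 0)
    infer_instance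
  have hJV : ∀ i, CohLocal.LocGen (hV0 i) I (pV i) (JV i) := fun i =>
    Compose.locGen_idealMap I h (hV0 i) _ p J hJ
  have hpeq : ∀ i, 𝔛'.restrictOpenι h' (V' i) ≫ b ≫ p = bV i ≫ pV i := fun i => by
    rw [← Category.assoc, ← Category.assoc, ← FSch.Hom.restrictOpen_ι b h' h (V i)]
  have hJV' : ∀ i, CohLocal.LocGen (hV1 i) I (bV i ≫ pV i) (JV' i) := fun i =>
    hpeq i ▸ Compose.locGen_idealMap I h' (hV1 i) _ (b ≫ p) J' hJ'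
  choose Ji hJi hbi using fun i =>
    haveI := compactSpace_restrict h (hVc i)
    haveI := quasiSeparatedSpace_restrict h (V i)
    CompBlow.main (hV0 i) (hV1 i) (bV i) hR (pV i) (hpV i) (hftV i) (tf_restrict h htf (V i)) (JV i) (hJV i)
      (hbV i) (JV' i) (hJV' i) (hV2 i) (bV' i) (hbV' i)
  obtain ⟨J₃, 𝔛₃, h₃, c, hJ₃, hc, hk⟩ := Dominate.main hR h p hp hft ι V hV hVc hVf Ji hJi
    (fun i => 𝔛''.restrictOpen h'' (((b' : FSch.Hom 𝔛'' 𝔛').app 0) ⁻¹ᵁ V' i)) hV2 (fun i => bV' i ≫ bV i) hbi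
  choose κ hκ _ using hk
  let W := fun i => ((c : FSch.Hom 𝔛₃ 𝔛).app 0) ⁻¹ᵁ V i
  let v := fun i => 𝔛₃.restrictOpenι h₃ (W i)
  let hW := fun i => Restrict.isFormal 𝔛₃ h₃ (W i)
  have hvoi : ∀ i n, IsOpenImmersion ((v i : FSch.Hom _ 𝔛₃).app n) := fun i n =>
    inferInstanceAs (IsOpenImmersion (𝔛₃.lvU h₃ n (W i)).ι)
  have hcov : ∀ x : 𝔛₃.X 0, ∃ i, x ∈ Set.range ((v i : FSch.Hom _ 𝔛₃).app 0).base := fun x => by
    obtain ⟨i, hi⟩ := Opens.mem_iSup.1 (show ((c : FSch.Hom 𝔛₃ 𝔛).app 0).base x ∈ ⨆ i, V i by rw [hV]; trivial)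
    exact ⟨i, ⟨x, (Unit.mem_lvU_zero h₃ x).2 hi⟩, rfl⟩
  have htfW : ∀ i, BlowProps.TF (𝔛₃.restrictOpen h₃ (W i)) (hW i) := fun i =>
    tf_restrict h₃ (BlowProps.main hR h p hp hft htf J₃ (CohLocal.exists_gen h I p hp hI J₃ hJ₃) h₃ c hc).1 (W i)
  have hvc : ∀ i, v i ≫ c = (κ i ≫ bV' i) ≫ bV i ≫ 𝔛.restrictOpenι h (V i) := fun i => by
    rw [← FSch.Hom.restrictOpen_ι c h₃ h (V i), ← hκ i]
    simp only [Category.assoc]
  have hadicW : ∀ i, FSch.IsAdicHom (κ i ≫ bV' i ≫ bV i ≫ pV i) := fun i => by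
    have e : κ i ≫ bV' i ≫ bV i ≫ pV i = FSch.Hom.restrictOpen c h₃ h (V i) ≫ pV i := by
      rw [← hκ i]; simp only [Category.assoc]
    rw [e]
    exact Transport.isAdicHom_comp (Transport.isAdmBlowUp_restrict h (V i) h₃ c hc).1 (hpV i)
  have h1 : ∀ i, (FBlow.idealMap (v i) (hW i) h₃ (FBlow.idealMap c h₃ h J)).IsInvertible := fun i => by
    rw [Transport.idealMap_comp h h₃ (hW i) (v i) c J, hvc i,
      ← Transport.idealMap_comp h (hV1 i) (hW i) (κ i ≫ bV' i) (bV i ≫ 𝔛.restrictOpenι h (V i)) J,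
      ← Transport.idealMap_comp h (hV0 i) (hV1 i) (bV i) (𝔛.restrictOpenι h (V i)) J]
    exact Compose.isInvertible_idealMap I hI (hV1 i) (hW i) (κ i ≫ bV' i) (bV i ≫ pV i)
      (by rw [Category.assoc]; exact hadicW i) (htfW i) _ (hbV i).2.1
      (hopen_of_locGen I (hV1 i) _ _ (Compose.locGen_idealMap I (hV0 i) (hV1 i) (bV i) (pV i) _ (hJV i)))
  obtain ⟨k, hkc, -⟩ := hb.2.2 𝔛₃ h₃ c hc.1 (Descend.isInvertible h₃ _ fun x => by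
    obtain ⟨i, hi⟩ := hcov x
    exact ⟨_, hW i, v i, hvoi i, hi, h1 i⟩)
  have hkad : FSch.IsAdicHom k := Compose.isAdicHom_of_comp (hkc ▸ hc.1) hb.1
  have h2 : ∀ i, (FBlow.idealMap (v i) (hW i) h₃ (FBlow.idealMap k h₃ h' J')).IsInvertible := fun i => by
    have hvad : FSch.IsAdicHom (v i ≫ c) := Transport.isAdicHom_comp (Restrict.isAdicHom_ι 𝔛₃ h₃ (W i)) hc.1
    have hinv : (FBlow.idealMap (v i ≫ c) (hW i) h J).IsInvertible := by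
      rw [← Transport.idealMap_comp h h₃ (hW i) (v i) c J]; exact h1 i
    obtain ⟨k₀, -, huniq⟩ := hb.2.2 _ (hW i) (v i ≫ c) hvad hinv
    have e1 := huniq (v i ≫ k) (show (v i ≫ k) ≫ b = v i ≫ c by rw [Category.assoc, hkc])
    have e2 := huniq ((κ i ≫ bV' i) ≫ 𝔛'.restrictOpenι h' (V' i))
      (show ((κ i ≫ bV' i) ≫ 𝔛'.restrictOpenι h' (V' i)) ≫ b = v i ≫ c by
        rw [hvc i, Category.assoc, ← FSch.Hom.restrictOpen_ι b h' h (V i)])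
    rw [Transport.idealMap_comp h' h₃ (hW i) (v i) k J', e1, ← e2, Category.assoc,
      ← Transport.idealMap_comp h' (hV2 i) (hW i) (κ i) (bV' i ≫ 𝔛'.restrictOpenι h' (V' i)) J',
      ← Transport.idealMap_comp h' (hV1 i) (hV2 i) (bV' i) (𝔛'.restrictOpenι h' (V' i)) J']
    exact Compose.isInvertible_idealMap I hI (hV2 i) (hW i) (κ i) (bV' i ≫ bV i ≫ pV i) (hadicW i) (htfW i) _
      (hbV' i).2.1 (hopen_of_locGen I (hV2 i) _ _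
        (Compose.locGen_idealMap I (hV1 i) (hV2 i) (bV' i) (bV i ≫ pV i) _ (hJV' i)))
  obtain ⟨s, hs, -⟩ := hb'.2.2 𝔛₃ h₃ k hkad (Descend.isInvertible h₃ _ fun x => by
    obtain ⟨i, hi⟩ := hcov x
    exact ⟨_, hW i, v i, hvoi i, hi, h2 i⟩)
  exact ⟨J₃, 𝔛₃, h₃, c, hJ₃, hc, s, by rw [← Category.assoc, hs, hkc]⟩

end Groth.Agent.Lib.FBlowAff.CompDominate
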