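import Groth.Agent.Lib.FBlowAff.CompletionInv

/-!
# The completion of a blowing-up is an admissible formal blowing-up (helper5)
-/

set_option autoImplicit false
set_option linter.style.haveILetI false

universe u

open CategoryTheory CategoryTheory.Limits TopologicalSpace Opposite AlgebraicGeometry
open Groth.Agent.H30

namespace Groth.Agent.Lib.FBlowAff.Completion

theorem idealMap_ideal {A : Type u} [CommRing A] {𝔜 𝔛 : FSch.Sys.{u}} (hY : 𝔜.IsFormal) (hX : 𝔛.IsFormal)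
    (g : 𝔜 ⟶ 𝔛) (p : ∀ n, 𝔛.X n ⟶ Spec (CommRingCat.of A)) (hp : ∀ n, 𝔛.ι n ≫ p (n + 1) = p n)
    (𝔞 : _root_.Ideal A) :
    FBlow.idealMap g hY hX (FBlow.schIdealMap 𝔛 hX p hp (FBlow.IdealSh.ofData (FSch.idealSpec A 𝔞))) =
      Ideal.gens (SchIdeal.φq hY (SchIdeal.comp g p) (SchIdeal.comp_comm g p hp) '' (𝔞 : Set A)) := by
  have h := SchIdeal.idealMap_spec hY hX g p hp (𝔞 : Set A)
  rwa [_root_.Ideal.span_eq] at h

section Lift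

variable {A : Type u} [CommRing A] (𝔞 : _root_.Ideal A) {P : Scheme.{u}} (q : P ⟶ Spec (CommRingCat.of A))
  (hq : BlowUp.IsBlowUp q (FSch.idealSpec A 𝔞))
  {𝔜 : FSch.Sys.{u}} (hY : 𝔜.IsFormal) (p : ∀ n, 𝔜.X n ⟶ Spec (CommRingCat.of A))
  (hp : ∀ n, 𝔜.ι n ≫ p (n + 1) = p n)

/-- On `V` the ideal is generated by one section regular below `V`. -/
def Pr (V : (𝔜.X 0).Opens) : Prop :=
  ∃ w : Levels.A 𝔜 hY V, 𝔞.map ((Ideal.r V).comp (SchIdeal.φq hY p hp)) = _root_.Ideal.span {w} ∧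
    ∀ (W : (𝔜.X 0).Opens) (e : W ≤ V) (t : Levels.A 𝔜 hY W),
      t * (𝔜.Osh hY).obj.map (homOfLE e).op w = 0 → t = 0

theorem pr_mono {V V' : (𝔜.X 0).Opens} (i : V' ≤ V) (h : Pr 𝔞 hY p hp V) : Pr 𝔞 hY p hp V' := by
  obtain ⟨w, hw, hreg⟩ := h
  refine ⟨(𝔜.Osh hY).obj.map (homOfLE i).op w, ?_, fun W e t ht => hreg W (e.trans i) t ?_⟩
  · rw [show (Ideal.r V').comp (SchIdeal.φq hY p hp) =
      ((𝔜.Osh hY).obj.map (homOfLE i).op).hom.comp ((Ideal.r V).comp (SchIdeal.φq hY p hp)) from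
        RingHom.ext fun a => (Ideal.res_r i _).symm, ← _root_.Ideal.map_map, hw, _root_.Ideal.map_span,
      Set.image_singleton]
  · rwa [FBlow.IdealSh.map_comp_apply] at ht

theorem exists_pr (hinv : (Ideal.gens (SchIdeal.φq hY p hp '' (𝔞 : Set A))).IsInvertible) (x : 𝔜.X 0) :
    ∃ V : (𝔜.X 0).Opens, x ∈ V ∧ Pr 𝔞 hY p hp V := by
  obtain ⟨U, hxU, g, hg, hU⟩ := hinv x
  obtain ⟨V, i, hxV, hV⟩ := Ideal.exists_span_of_mem hg hxU
  refine ⟨V, hxV, (𝔜.Osh hY).obj.map (homOfLE i).op g, le_antisymm ?_ ?_, fun W e t ht => (hU W (e.trans i)).1 t ?_⟩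
  · rw [_root_.Ideal.map_le_iff_le_comap]
    intro a ha
    obtain ⟨d, hd⟩ := (hU V i).2 _ (Ideal.r_mem_gens (Set.mem_image_of_mem _ ha) V)
    exact _root_.Ideal.mem_span_singleton'.2 ⟨d, hd.symm⟩
  · rw [_root_.Ideal.span_le, Set.singleton_subset_iff]
    refine (_root_.Ideal.span_le.2 ?_) hV
    rintro _ ⟨_, ⟨a, ha, rfl⟩, rfl⟩
    exact _root_.Ideal.mem_map_of_mem ((Ideal.r V).comp (SchIdeal.φq hY p hp)) ha
  · rwa [FBlow.IdealSh.map_comp_apply] at ht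

theorem isEffCartier_τ {V : (𝔜.X 0).Opens} (h : Pr 𝔞 hY p hp V) :
    BlowUp.IsEffCartierIdeal ((FSch.idealSpec A 𝔞).comap (Sigma.τ hY p hp V)) := by
  obtain ⟨w, hw, hreg⟩ := h
  intro x
  refine ⟨⟨⊤, isAffineOpen_top _⟩, trivial, (Scheme.ΓSpecIso (Levels.A 𝔜 hY V)).inv w, ?_, ?_⟩
  · refine Groth.Agent.Lib.Ideal.EffCartier.mem_nonZeroDivisors_of_eq_zero fun b hb => ?_
    have h1 := congrArg (Scheme.ΓSpecIso (Levels.A 𝔜 hY V)).hom hb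
    rw [map_mul, map_zero, Iso.inv_hom_id_apply, mul_comm] at h1
    have h2 := hreg V le_rfl _ (by rwa [FBlow.IdealSh.map_id_apply])
    have h3 := congrArg (Scheme.ΓSpecIso (Levels.A 𝔜 hY V)).inv h2
    rwa [map_zero, Iso.hom_inv_id_apply] at h3
  · have hc : (FSch.idealSpec A 𝔞).comap (Sigma.τ hY p hp V) =
        FSch.idealSpec (Levels.A 𝔜 hY V) (_root_.Ideal.span {w}) := by
      rw [← hw]
      exact IdealLemmas.comap_idealSpec (Levels.A 𝔜 hY V) A _ 𝔞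
    rw [hc]
    refine (IdealLemmas.idealSpec_ideal_top _ _).trans ?_
    rw [_root_.Ideal.map_span, Set.image_singleton]
    rfl

/-- A local good open. -/
abbrev Idx : Type u := {V : (𝔜.X 0).Opens // Pr 𝔞 hY p hp V}

include hq

/-- The lift on the spectrum of the functions of a good open. -/
theorem existsUnique_τ (V : Idx 𝔞 hY p hp) : ∃! h : Spec (Levels.A 𝔜 hY V.1) ⟶ P, h ≫ q = Sigma.τ hY p hp V.1 :=
  hq.2 _ _ (isEffCartier_τ 𝔞 hY p hp V.2)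

/-- The chosen lift. -/
noncomputable def hC (V : Idx 𝔞 hY p hp) : Spec (Levels.A 𝔜 hY V.1) ⟶ P :=
  (existsUnique_τ 𝔞 q hq hY p hp V).choose

theorem hC_comp (V : Idx 𝔞 hY p hp) : hC 𝔞 q hq hY p hp V ≫ q = Sigma.τ hY p hp V.1 :=
  (existsUnique_τ 𝔞 q hq hY p hp V).choose_spec.1

theorem hC_unique (V : Idx 𝔞 hY p hp) {h : Spec (Levels.A 𝔜 hY V.1) ⟶ P}
    (e : h ≫ q = Sigma.τ hY p hp V.1) : h = hC 𝔞 q hq hY p hp V :=
  (existsUnique_τ 𝔞 q hq hY p hp V).choose_spec.2 h e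

theorem hC_res {V V' : Idx 𝔞 hY p hp} (i : V'.1 ≤ V.1) :
    Spec.map ((𝔜.Osh hY).obj.map (homOfLE i).op) ≫ hC 𝔞 q hq hY p hp V = hC 𝔞 q hq hY p hp V' := by
  refine hC_unique 𝔞 q hq hY p hp V' ?_
  rw [Category.assoc, hC_comp, Sigma.τ, ← Spec.map_comp, Sigma.τ]
  congr 1
  ext a
  exact Ideal.res_r i _

theorem lift_res {V V' : Idx 𝔞 hY p hp} (i : V'.1 ≤ V.1) (n : ℕ) :
    (𝔜.X n).homOfLE (Sigma.lvU_mono hY n i) ≫ Sigma.σ hY n V.1 ≫ hC 𝔞 q hq hY p hp V =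
      Sigma.σ hY n V'.1 ≫ hC 𝔞 q hq hY p hp V' := by
  rw [← Category.assoc, Sigma.σ_res hY n i, Category.assoc, hC_res 𝔞 q hq hY p hp i]

/-- A compatible family over the base is the lift on every good open. -/
theorem eq_on (m : ∀ n, 𝔜.X n ⟶ P) (hm : ∀ n, 𝔜.ι n ≫ m (n + 1) = m n) (hmq : ∀ n, m n ≫ q = p n)
    (V : Idx 𝔞 hY p hp) (n : ℕ) :
    (𝔜.lvU hY n V.1).ι ≫ m n = Sigma.σ hY n V.1 ≫ hC 𝔞 q hq hY p hp V := by
  refine Scheme.hom_ext_of_forall _ _ fun z => ?_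
  obtain ⟨W, hW, hzW, -⟩ := exists_isAffineOpen_mem_and_subset (U := ⊤)
    (x := (m 0).base (𝔜.gInv hY n z.1)) trivial
  let V' : Idx 𝔞 hY p hp := ⟨V.1 ⊓ m 0 ⁻¹ᵁ W, pr_mono 𝔞 hY p hp inf_le_left V.2⟩
  have hz : z.1 ∈ 𝔜.lvU hY n V'.1 := ⟨z.2, hzW⟩
  refine ⟨(𝔜.lvU hY n V.1).ι ⁻¹ᵁ 𝔜.lvU hY n V'.1, hz, ?_⟩
  have key : (𝔜.X n).homOfLE (Sigma.lvU_mono hY n (inf_le_left : V'.1 ≤ V.1)) ≫ (𝔜.lvU hY n V.1).ι ≫ m n =
      (𝔜.X n).homOfLE (Sigma.lvU_mono hY n (inf_le_left : V'.1 ≤ V.1)) ≫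
        Sigma.σ hY n V.1 ≫ hC 𝔞 q hq hY p hp V := by
    rw [lift_res 𝔞 q hq hY p hp (V := V) (V' := V') inf_le_left n, Scheme.homOfLE_ι_assoc,
      ← Sigma.σ_fromSpec hY m hm n hW (inf_le_right : V'.1 ≤ m 0 ⁻¹ᵁ W),
      hC_unique 𝔞 q hq hY p hp V' (Sigma.θ_comp hY p hp m hm q hmq hW (inf_le_right : V'.1 ≤ m 0 ⁻¹ᵁ W))]
  let j : (((𝔜.lvU hY n V.1).ι ⁻¹ᵁ 𝔜.lvU hY n V'.1 : _) : Scheme.{u}) ⟶ (𝔜.lvU hY n V'.1).toScheme :=
    (𝔜.lvU hY n V.1).ι ∣_ _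
  have hj : ((𝔜.lvU hY n V.1).ι ⁻¹ᵁ 𝔜.lvU hY n V'.1).ι =
      j ≫ (𝔜.X n).homOfLE (Sigma.lvU_mono hY n (inf_le_left : V'.1 ≤ V.1)) := by
    rw [← cancel_mono (𝔜.lvU hY n V.1).ι]
    simp [j]
  rw [hj, Category.assoc, Category.assoc, key]

theorem eq_of (hpr : ∀ x : 𝔜.X 0, ∃ V : (𝔜.X 0).Opens, x ∈ V ∧ Pr 𝔞 hY p hp V)
    (m m' : ∀ n, 𝔜.X n ⟶ P) (hm : ∀ n, 𝔜.ι n ≫ m (n + 1) = m n)
    (hm' : ∀ n, 𝔜.ι n ≫ m' (n + 1) = m' n) (hmq : ∀ n, m n ≫ q = p n) (hmq' : ∀ n, m' n ≫ q = p n)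
    (n : ℕ) : m n = m' n :=
  Sigma.hom_ext hY n fun x => by
    obtain ⟨V, hxV, hV⟩ := hpr x
    exact ⟨V, hxV, (eq_on 𝔞 q hq hY p hp m hm hmq ⟨V, hV⟩ n).trans
      (eq_on 𝔞 q hq hY p hp m' hm' hmq' ⟨V, hV⟩ n).symm⟩

theorem exists_lift (hpr : ∀ x : 𝔜.X 0, ∃ V : (𝔜.X 0).Opens, x ∈ V ∧ Pr 𝔞 hY p hp V) :
    ∃ m : ∀ n, 𝔜.X n ⟶ P, (∀ n, 𝔜.ι n ≫ m (n + 1) = m n) ∧ ∀ n, m n ≫ q = p n := by
  have hD : ∀ x : 𝔜.X 0, ∃ V : Idx 𝔞 hY p hp, x ∈ V.1 := fun x => by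
    obtain ⟨V, hxV, hV⟩ := hpr x
    exact ⟨⟨V, hV⟩, hxV⟩
  have hglue := fun n => Sigma.exists_glue hY n (fun V : Idx 𝔞 hY p hp => V.1) hD
    (fun V => Sigma.σ hY n V.1 ≫ hC 𝔞 q hq hY p hp V) fun V V' =>
      (lift_res 𝔞 q hq hY p hp (V' := ⟨V.1 ⊓ V'.1, pr_mono 𝔞 hY p hp inf_le_left V.2⟩) inf_le_left n).trans
        (lift_res 𝔞 q hq hY p hp (V' := ⟨V.1 ⊓ V'.1, pr_mono 𝔞 hY p hp inf_le_left V.2⟩) inf_le_right n).symm
  choose m hm using hglue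
  refine ⟨m, fun n => Sigma.hom_ext hY n fun x => ?_, fun n => Sigma.hom_ext hY n fun x => ?_⟩
  · obtain ⟨V, hxV, hV⟩ := hpr x
    refine ⟨V, hxV, ?_⟩
    rw [hm n ⟨V, hV⟩, ← Category.assoc, ← Scheme.Hom.resLE_comp_ι (𝔜.ι n) (𝔜.lvU_le hY n V),
      Category.assoc, hm (n + 1) ⟨V, hV⟩, ← Category.assoc, Sigma.σ_ι]
  · obtain ⟨V, hxV, hV⟩ := hpr x
    refine ⟨V, hxV, ?_⟩
    rw [← Category.assoc, hm n ⟨V, hV⟩, Category.assoc, hC_comp, Sigma.σ_τ]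

end Lift

/-- The completion of a blowing-up of an affine scheme in a centre containing a power of the ideal
of definition is an admissible formal blowing-up. -/
theorem isAdmBlowUp {A : Type u} [CommRing A] (J 𝔞 : _root_.Ideal A) {k : ℕ} (hk : J ^ k ≤ 𝔞)
    {P : Scheme.{u}} (q : P ⟶ Spec (CommRingCat.of A)) (hq : BlowUp.IsBlowUp q (FSch.idealSpec A 𝔞))
    (hpc : FSch.PowCompat q ((FSch.idealSpec A J).comap q) (FSch.idealSpec A J))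
    (hX : (FSch.completionAlong (Spec (CommRingCat.of A)) (FSch.idealSpec A J)).IsFormal)
    (hP : (FSch.completionAlong P ((FSch.idealSpec A J).comap q)).IsFormal) :
    FBlow.IsAdmBlowUp (FSch.completionMap q ((FSch.idealSpec A J).comap q) (FSch.idealSpec A J) hpc) hP hX
      (FBlow.schIdealMap (FSch.completionAlong (Spec (CommRingCat.of A)) (FSch.idealSpec A J)) hX
        (FSch.completionToX (Spec (CommRingCat.of A)) (FSch.idealSpec A J))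
        (FSch.completionToX_comm (Spec (CommRingCat.of A)) (FSch.idealSpec A J))
        (FBlow.IdealSh.ofData (FSch.idealSpec A 𝔞))) := by
  let c := FSch.completionMap q ((FSch.idealSpec A J).comap q) (FSch.idealSpec A J) hpc
  have hsq := fun n => IdealLemmas.isPullback_completionMap_app q (FSch.idealSpec A J) hpc n
  refine ⟨IdealLemmas.isAdicHom_completionMap q (FSch.idealSpec A J) hpc, ?_, ?_⟩
  · rw [idealMap_ideal]
    exact CompletionInv.isInvertible _ hP hk q rfl hq.1 _ _ fun n => (hsq n).w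
  · intro 𝔜 hY g _ hinv
    rw [idealMap_ideal] at hinv
    have hpr := exists_pr 𝔞 hY _ _ hinv
    obtain ⟨m, hm, hmq⟩ := exists_lift 𝔞 q hq hY _ _ hpr
    let app := fun n => (hsq n).lift (m n) ((g : FSch.Hom 𝔜 _).app n) (hmq n)
    have hfst : ∀ n, app n ≫ FSch.completionToX P ((FSch.idealSpec A J).comap q) n = m n := fun n =>
      (hsq n).lift_fst _ _ _
    have hsnd : ∀ n, app n ≫ (c : FSch.Hom _ _).app n = (g : FSch.Hom 𝔜 _).app n := fun n =>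
      (hsq n).lift_snd _ _ _
    let k' : 𝔜 ⟶ FSch.completionAlong P ((FSch.idealSpec A J).comap q) := ⟨app, fun n => by
      refine (hsq (n + 1)).hom_ext ?_ ?_
      · rw [Category.assoc, Category.assoc, hfst, hm, IdealLemmas.completionToX_comp, hfst]
      · rw [Category.assoc, Category.assoc, hsnd, ← (c : FSch.Hom _ _).comm n, ← Category.assoc, hsnd,
          (g : FSch.Hom 𝔜 _).comm n]⟩
    refine ⟨k', FSch.Hom.ext (funext hsnd), fun k'' hk'' => FSch.Hom.ext (funext fun n => ?_)⟩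
    have happ : ∀ n, (k'' : FSch.Hom 𝔜 _).app n ≫ (c : FSch.Hom _ _).app n = (g : FSch.Hom 𝔜 _).app n :=
      fun n => congrArg (fun φ : 𝔜 ⟶ _ => (φ : FSch.Hom 𝔜 _).app n) hk''
    refine (hsq n).hom_ext ?_ ((happ n).trans (hsnd n).symm)
    refine Eq.trans ?_ (hfst n).symm
    refine eq_of 𝔞 q hq hY _ _ hpr
      (fun n => (k'' : FSch.Hom 𝔜 _).app n ≫ FSch.completionToX P ((FSch.idealSpec A J).comap q) n) m
      (fun n => ?_) hm (fun n => ?_) hmq n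
    · rw [← Category.assoc, ← (k'' : FSch.Hom 𝔜 _).comm n, Category.assoc,
        IdealLemmas.completionToX_comp]
    · rw [Category.assoc, (hsq n).w, ← Category.assoc, happ]

end Groth.Agent.Lib.FBlowAff.Completion
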