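import Groth.Agent.Lib.FBlowAff.BlowProps

/-!
# Torsion can be tested on formal charts (helper5)
-/

set_option autoImplicit false
set_option linter.style.haveILetI false

universe u

open CategoryTheory CategoryTheory.Limits TopologicalSpace Opposite AlgebraicGeometry
open Groth.Agent.H30

namespace Groth.Agent.Lib.FBlowAff.TFCharts

variable {R : Type u} [CommRing R] {I : _root_.Ideal R}

/-- A chart over the base without torsion. -/
def Chart {𝔛 : FSch.Sys.{u}} (q : 𝔛 ⟶ FSch.spf R I) (x : 𝔛.X 0) : Prop :=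
  ∃ (D : Type u) (_ : CommRing D) (ρ : R →+* D) (hle : I ≤ (I.map ρ).comap ρ) (e : ℕ)
    (v : FSch.spf D (I.map ρ) ⟶ 𝔛),
    (∀ (N : ℕ) (d : D), (∀ c ∈ I, ρ c * d ∈ I.map ρ ^ (N + e)) → d ∈ I.map ρ ^ N) ∧
    (∀ n, IsOpenImmersion ((v : FSch.Hom _ 𝔛).app n)) ∧ x ∈ Set.range ((v : FSch.Hom _ 𝔛).app 0).base ∧
    v ≫ q = FSch.spfMap (I.map ρ) I ρ hle

theorem tf (hI : I.FG) {𝔛 : FSch.Sys.{u}} (h : 𝔛.IsFormal) (q : 𝔛 ⟶ FSch.spf R I)
    (H : ∀ x, Chart q x) : BlowProps.TF 𝔛 h := fun T s hs => by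
  refine (Submodule.mem_bot _).1 ((FBlow.IdealSh.bot (𝔛.Osh h)).mem_of_local fun x' hx' => ?_)
  obtain ⟨D, iD, ρ, hle, e, v, he, hvoi, hxv, hv⟩ := H x'
  have := hvoi 0
  let W : (𝔛.X 0).Opens := T ⊓ ((v : FSch.Hom _ 𝔛).app 0).opensRange
  have hW : (W : Set (𝔛.X 0)) ⊆ Set.range ((v : FSch.Hom _ 𝔛).app 0).base := fun z hz => hz.2
  refine ⟨W, inf_le_left, ⟨hx', hxv⟩, (Submodule.mem_bot _).2 ?_⟩
  have hD' := LocalChart.isFormal_spf D (I.map ρ)
  have hbij := OpenImm.bijective_sharp h hD' v hvoi hW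
  refine hbij.1 (Eq.trans ?_ (map_zero _).symm)
  refine SpfTF.eq_zero_of_kill (I.map ρ) (hI.map _) hD'
    ⟨e, fun N b hb => he N b fun c hc => hb _ (_root_.Ideal.mem_map_of_mem _ hc)⟩ _ _ fun c hc => ?_
  let σ : Levels.A 𝔛 h W →+* Levels.A (FSch.spf D (I.map ρ)) hD' (((v : FSch.Hom _ 𝔛).app 0) ⁻¹ᵁ W) :=
    ((FSch.Hom.sharp v hD' h).hom.app (op W)).hom
  refine Submodule.span_induction (p := fun c _ => Ideal.r (((v : FSch.Hom _ 𝔛).app 0) ⁻¹ᵁ W)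
    (Spf.φ _ hD' c) * σ ((𝔛.Osh h).obj.map (homOfLE (inf_le_left : W ≤ T)).op s) = 0) ?_ ?_ ?_ ?_ hc
  · rintro _ ⟨a, ha, rfl⟩
    have hker : Levels.proj 𝔛 h 0 T (Ideal.r T (Spf.ψOf h I q a)) = 0 := by
      have h0 := Spf.proj_ψOf_eq_zero h I q (n := 0) (a := a) (by rwa [zero_add, pow_one])
      refine (ConcreteCategory.congr_hom ((𝔛.OshProj h 0).hom.naturality
        (homOfLE (le_top : T ≤ ⊤)).op) (Spf.ψOf h I q a)).trans ?_
      show (𝔛.levelObj h 0).obj.map _ (Levels.proj 𝔛 h 0 ⊤ (Spf.ψOf h I q a)) = 0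
      rw [h0]
      exact map_zero _
    have h1 := congrArg ((FSch.Hom.sharp v hD' h).hom.app (op W))
      (congrArg ((𝔛.Osh h).obj.map (homOfLE (inf_le_left : W ≤ T)).op)
        (hs _ (RingHom.mem_ker.2 hker)))
    have h2 : (FSch.Hom.sharp v hD' h).hom.app (op W) (Ideal.r W (Spf.ψOf h I q a)) =
        Ideal.r (((v : FSch.Hom _ 𝔛).app 0) ⁻¹ᵁ W) (Spf.φ _ hD' (ρ a)) := by
      refine (SchIdeal.res_sharp h hD' v (le_top : W ≤ ⊤) _).trans ?_
      refine congrArg _ ?_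
      refine (Main.ψOf_comp I hD' h v q a).symm.trans ?_
      rw [hv, Spf.ψOf_spfMap]
      rfl
    rw [← h2]
    erw [map_mul, map_zero, Ideal.res_r, map_mul, map_zero] at h1
    exact h1
  · rw [map_zero, map_zero, zero_mul]
  · intro x y _ _ hx hy
    rw [map_add, map_add, add_mul, hx, hy, add_zero]
  · intro z x _ hx
    rw [smul_eq_mul, map_mul, map_mul, mul_assoc, hx, mul_zero]

end Groth.Agent.Lib.FBlowAff.TFCharts
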