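import Groth.Agent.Lib.FBlowAff.SigmaBase
import Groth.Agent.Lib.FBlowAff.ColonBase
import Groth.Agent.Lib.FBlowAff.TFCharts
import Groth.Agent.Lib.FBlowAff.Compose
import Groth.Agent.S3859
import Mathlib.Algebra.Category.Ring.Constructions

/-!
# Flat base change of admissible formal blowing-ups (helper5)
-/

set_option autoImplicit false
set_option linter.style.haveILetI false

universe u

open CategoryTheory CategoryTheory.Limits TopologicalSpace Opposite AlgebraicGeometry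
open Groth.Agent.H30
open scoped TensorProduct

namespace Groth.Agent.Lib.FBlowAff.FlatPB

variable {𝔛 𝔜 𝔚 : FSch.Sys.{u}}

theorem isAdicHom_snd (f : 𝔚 ⟶ 𝔛) (g : 𝔜 ⟶ 𝔛) (hf : FSch.IsAdicHom f) :
    FSch.IsAdicHom (FSch.pullbackSnd f g) := by
  intro n
  have h1 : IsPullback (pullback.fst ((f : FSch.Hom _ _).app n) ((g : FSch.Hom _ _).app n) ≫ 𝔚.ι n)
      (pullback.snd ((f : FSch.Hom _ _).app n) ((g : FSch.Hom _ _).app n)) ((f : FSch.Hom _ _).app (n + 1))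
      ((g : FSch.Hom _ _).app n ≫ 𝔛.ι n) :=
    (IsPullback.of_hasPullback _ _).paste_horiz (hf n)
  rw [(g : FSch.Hom _ _).comm n] at h1
  refine IsPullback.of_right ?_ (pullback.lift_snd _ _ _) (IsPullback.of_hasPullback _ _)
  rw [show (FSch.pullbackSys f g).ι n ≫ pullback.fst _ _ = _ from pullback.lift_fst _ _ _]
  exact h1

variable {R : Type u} [CommRing R] {I : _root_.Ideal R}

theorem exists_into_open (hI : I.FG) {𝔜 : FSch.Sys.{u}} (hY : 𝔜.IsFormal) (q : 𝔜 ⟶ FSch.spf R I)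
    (hq : FSch.IsAdicHom q) {V : (𝔜.X 0).Opens} (hV : IsAffineOpen V) {D : Type u} [CommRing D]
    (K : _root_.Ideal D) (ι : Levels.A 𝔜 hY V →+* D) (hι : SpfIso.J I hY q V ≤ K.comap ι) :
    ∃ γ : FSch.spf D K ⟶ 𝔜.restrictOpen hY V, ∀ n,
      (γ : FSch.Hom _ _).app n ≫ Sigma.σ hY n V = CohB1.specQuot K n ≫ Spec.map (CommRingCat.ofHom ι) := by
  obtain ⟨ε, hε⟩ := SpfIso.exists_iso I hY q hq hI hV
  refine ⟨FSch.spfMap K (SpfIso.J I hY q V) ι hι ≫ ε.inv, fun n => ?_⟩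
  have hinv : (ε.inv : FSch.Hom _ _).app n ≫ Sigma.σ hY n V = CohB1.specQuot (SpfIso.J I hY q V) n := by
    rw [show Sigma.σ hY n V = SpfIso.fam hY V n from rfl, ← hε n, ← Category.assoc]
    refine (congrArg (· ≫ _) (show (ε.inv : FSch.Hom _ _).app n ≫ (ε.hom : FSch.Hom _ _).app n = 𝟙 _ from
      congrArg (fun φ : FSch.spf (Levels.A 𝔜 hY V) (SpfIso.J I hY q V) ⟶
        FSch.spf (Levels.A 𝔜 hY V) (SpfIso.J I hY q V) => (φ : FSch.Hom _ _).app n) ε.inv_hom_id)).trans ?_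
    exact Category.id_comp _
  refine (Category.assoc _ _ _).trans ((congrArg (_ ≫ ·) hinv).trans ?_)
  show Spec.map _ ≫ Spec.map _ = Spec.map _ ≫ Spec.map _
  rw [← Spec.map_comp, ← Spec.map_comp]
  rfl

theorem chart (hI : I.FG) {𝔛 𝔜 𝔚 : FSch.Sys.{u}} (h : 𝔛.IsFormal) (hY : 𝔜.IsFormal) (hW : 𝔚.IsFormal)
    (f : 𝔚 ⟶ 𝔛) (g : 𝔜 ⟶ 𝔛) (p : 𝔛 ⟶ FSch.spf R I) (hp : FSch.IsAdicHom p)
    (hfp : FSch.IsAdicHom (f ≫ p)) (hgp : FSch.IsAdicHom (g ≫ p))
    {U : (𝔛.X 0).Opens} (hU : IsAffineOpen U) {U'' : (𝔚.X 0).Opens} (hU'' : IsAffineOpen U'')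
    (eB : U'' ≤ ((f : FSch.Hom 𝔚 𝔛).app 0) ⁻¹ᵁ U) {V : (𝔜.X 0).Opens} (hV : IsAffineOpen V)
    (eC : V ≤ ((g : FSch.Hom 𝔜 𝔛).app 0) ⁻¹ᵁ U) (hflat : (SigmaBase.τ h hY g eC).Flat) {e : ℕ}
    (hB : ∀ (N : ℕ) (b : Levels.A 𝔚 hW U''), (∀ c ∈ I, AdmLocal.const I hW (f ≫ p) U'' c * b ∈
      I.map (AdmLocal.const I hW (f ≫ p) U'') ^ (N + e)) → b ∈ I.map (AdmLocal.const I hW (f ≫ p) U'') ^ N)
    (z : (FSch.pullbackSys f g).X 0)
    (hzW : ((FSch.pullbackFst f g : FSch.Hom _ 𝔚).app 0).base z ∈ U'')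
    (hzY : ((FSch.pullbackSnd f g : FSch.Hom _ 𝔜).app 0).base z ∈ V) :
    TFCharts.Chart (FSch.pullbackSnd f g ≫ g ≫ p) z := by
  let A := Levels.A 𝔛 h U
  letI : Algebra A (Levels.A 𝔚 hW U'') := (SigmaBase.τ h hW f eB).toAlgebra
  letI : Algebra A (Levels.A 𝔜 hY V) := (SigmaBase.τ h hY g eC).toAlgebra
  haveI : Module.Flat A (Levels.A 𝔜 hY V) := hflat
  let D := Levels.A 𝔚 hW U'' ⊗[A] Levels.A 𝔜 hY V
  let inl : Levels.A 𝔚 hW U'' →+* D := Algebra.TensorProduct.includeLeftRingHom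
  let inr : Levels.A 𝔜 hY V →+* D :=
    (Algebra.TensorProduct.includeRight (R := A) (A := Levels.A 𝔚 hW U'') (B := Levels.A 𝔜 hY V)).toRingHom
  let ρ : R →+* D := inl.comp (AdmLocal.const I hW (f ≫ p) U'')
  have hρ : ρ = inr.comp (AdmLocal.const I hY (g ≫ p) V) := by
    refine RingHom.ext fun a => ?_
    show inl (AdmLocal.const I hW (f ≫ p) U'' a) = inr (AdmLocal.const I hY (g ≫ p) V a)
    rw [Compose.const_comp I h hW f p U eB a, Compose.const_comp I h hY g p U eC a]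
    exact (Algebra.TensorProduct.includeLeft (R := A) (S := A) (A := Levels.A 𝔚 hW U'')
      (B := Levels.A 𝔜 hY V)).commutes (AdmLocal.const I h p U a) |>.trans
      ((Algebra.TensorProduct.includeRight (R := A) (A := Levels.A 𝔚 hW U'')
      (B := Levels.A 𝔜 hY V)).commutes (AdmLocal.const I h p U a)).symm
  let K := I.map ρ
  have hKl : SpfIso.J I hW (f ≫ p) U'' ≤ K.comap inl := by
    rw [SpfIso.J, _root_.Ideal.map_le_iff_le_comap]
    exact fun a ha => _root_.Ideal.mem_map_of_mem ρ ha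
  have hKr : SpfIso.J I hY (g ≫ p) V ≤ K.comap inr := by
    rw [SpfIso.J, _root_.Ideal.map_le_iff_le_comap]
    intro a ha
    show inr (AdmLocal.const I hY (g ≫ p) V a) ∈ K
    rw [← RingHom.comp_apply, ← hρ]
    exact _root_.Ideal.mem_map_of_mem ρ ha
  obtain ⟨β, hβ₀⟩ := exists_into_open hI hW (f ≫ p) hfp hU'' K inl hKl
  obtain ⟨γ, hγ₀⟩ := exists_into_open hI hY (g ≫ p) hgp hV K inr hKr
  let βn : ∀ n, (FSch.spf D K).X n ⟶ (𝔚.lvU hW n U'').toScheme := fun n => (β : FSch.Hom _ _).app n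
  let γn : ∀ n, (FSch.spf D K).X n ⟶ (𝔜.lvU hY n V).toScheme := fun n => (γ : FSch.Hom _ _).app n
  have hβ : ∀ n, βn n ≫ Sigma.σ hW n U'' = FSch.spfToSpec D K n ≫ Spec.map (CommRingCat.ofHom inl) := hβ₀
  have hγ : ∀ n, γn n ≫ Sigma.σ hY n V = FSch.spfToSpec D K n ≫ Spec.map (CommRingCat.ofHom inr) := hγ₀
  have hsq : ∀ n, IsPullback (γn n) (βn n)
      (SigmaBase.res h hY g eC n) (SigmaBase.res h hW f eB n) := by
    intro n
    obtain ⟨hciV, hkV⟩ := SigmaBase.σ_spec hY I hI (g ≫ p) hgp hV n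
    obtain ⟨hciU, -⟩ := SigmaBase.σ_spec h I hI p hp hU n
    have : IsClosedImmersion (FSch.spfToSpec D K n) := IdealLemmas.isClosedImmersion_specQuot D K n
    have sC : IsPullback (FSch.spfToSpec D K n) (γn n) (Spec.map (CommRingCat.ofHom inr))
        (Sigma.σ hY n V) := by
      refine isPullback_of_isClosedImmersion _ _ _ _ (hγ n).symm ?_
      refine ((congrArg (fun T => Scheme.IdealSheafData.comap T _) hkV).trans ?_).trans
        (IdealLemmas.ker_specQuot D K n).symm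
      rw [Groth.Agent.Lib.Ideal.Comap.comap_pow]
      congr 1
      refine (IdealLemmas.comap_idealSpec D (Levels.A 𝔜 hY V) inr _).trans (congrArg _ ?_)
      rw [SpfIso.J, _root_.Ideal.map_map, ← hρ]
    have sT : IsPullback (Spec.map (CommRingCat.ofHom inl)) (Spec.map (CommRingCat.ofHom inr))
        (Spec.map (CommRingCat.ofHom (SigmaBase.τ h hW f eB))) (Spec.map (CommRingCat.ofHom (SigmaBase.τ h hY g eC))) :=
      isPullback_SpecMap_of_isPushout _ _ _ _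
        (CommRingCat.isPushout_tensorProduct A (Levels.A 𝔚 hW U'') (Levels.A 𝔜 hY V))
    have sB := SigmaBase.isPullback_σ h hW f eB I hI p hp hfp hU hU'' n
    have houter := sC.flip.paste_vert sT.flip
    rw [← SigmaBase.σ_natural h hY g eC n, ← hβ n] at houter
    refine IsPullback.of_bot houter ((cancel_mono (Sigma.σ h n U)).1 ?_) sB.flip
    rw [Category.assoc, Category.assoc, SigmaBase.σ_natural, SigmaBase.σ_natural, ← Category.assoc,
      ← Category.assoc, hγ, hβ, Category.assoc, Category.assoc, ← Spec.map_comp, ← Spec.map_comp]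
    congr 2
    ext a
    exact ((Algebra.TensorProduct.includeRight (R := A) (A := Levels.A 𝔚 hW U'')
      (B := Levels.A 𝔜 hY V)).commutes a).trans
      ((Algebra.TensorProduct.includeLeft (R := A) (S := A) (A := Levels.A 𝔚 hW U'')
      (B := Levels.A 𝔜 hY V)).commutes a).symm
  have hcomm : (β ≫ 𝔚.restrictOpenι hW U'') ≫ f = (γ ≫ 𝔜.restrictOpenι hY V) ≫ g :=
    FSch.Hom.ext (funext fun n => by
      show (βn n ≫ (𝔚.lvU hW n U'').ι) ≫ (f : FSch.Hom _ _).app n =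
        (γn n ≫ (𝔜.lvU hY n V).ι) ≫ (g : FSch.Hom _ _).app n
      have e := congrArg (· ≫ (𝔛.lvU h n U).ι) (hsq n).w.symm
      rw [Category.assoc, Category.assoc] at e
      erw [Scheme.Hom.resLE_comp_ι, Scheme.Hom.resLE_comp_ι] at e
      rw [Category.assoc, Category.assoc]
      exact e)
  let sys := Groth.Agent.S3859.result f g
  let v := sys.lift (β ≫ 𝔚.restrictOpenι hW U'') (γ ≫ 𝔜.restrictOpenι hY V) hcomm
  have hvfst := sys.lift_fst (β ≫ 𝔚.restrictOpenι hW U'') (γ ≫ 𝔜.restrictOpenι hY V) hcomm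
  have hvsnd := sys.lift_snd (β ≫ 𝔚.restrictOpenι hW U'') (γ ≫ 𝔜.restrictOpenι hY V) hcomm
  let m := fun n => pullback.map (SigmaBase.res h hW f eB n) (SigmaBase.res h hY g eC n)
    ((f : FSch.Hom 𝔚 𝔛).app n) ((g : FSch.Hom 𝔜 𝔛).app n) (𝔚.lvU hW n U'').ι (𝔜.lvU hY n V).ι
    (𝔛.lvU h n U).ι (Scheme.Hom.resLE_comp_ι _ _) (Scheme.Hom.resLE_comp_ι _ _)
  have hvn : ∀ n, (v : FSch.Hom _ _).app n = (hsq n).flip.isoPullback.hom ≫ m n := fun n => by
    apply pullback.hom_ext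
    · refine (congrArg (fun φ : FSch.spf D K ⟶ 𝔚 => (φ : FSch.Hom _ _).app n) hvfst).trans ?_
      refine Eq.trans ?_ (Category.assoc _ _ _).symm
      show βn n ≫ (𝔚.lvU hW n U'').ι = (hsq n).flip.isoPullback.hom ≫ m n ≫ pullback.fst _ _
      rw [pullback.lift_fst, ← Category.assoc, (hsq n).flip.isoPullback_hom_fst]
    · refine (congrArg (fun φ : FSch.spf D K ⟶ 𝔜 => (φ : FSch.Hom _ _).app n) hvsnd).trans ?_
      refine Eq.trans ?_ (Category.assoc _ _ _).symm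
      show γn n ≫ (𝔜.lvU hY n V).ι = (hsq n).flip.isoPullback.hom ≫ m n ≫ pullback.snd _ _
      rw [pullback.lift_snd, ← Category.assoc, (hsq n).flip.isoPullback_hom_snd]
  refine ⟨D, inferInstance, ρ, _root_.Ideal.le_comap_map, e, v, ?_, fun n => ?_, ?_, ?_⟩
  · exact ColonBase.colon_shift I hI (AdmLocal.const I hW (f ≫ p) U'') hB ρ rfl
  · rw [hvn n]
    exact inferInstanceAs (IsOpenImmersion (_ ≫ m n))
  · rw [hvn 0]
    have : z ∈ Set.range (m 0).base := by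
      rw [Scheme.Pullback.range_map]
      refine ⟨?_, ?_⟩
      · rw [Set.mem_preimage, Scheme.Opens.range_ι]
        exact (Unit.mem_lvU_zero hW _).2 hzW
      · rw [Set.mem_preimage, Scheme.Opens.range_ι]
        exact (Unit.mem_lvU_zero hY _).2 hzY
    obtain ⟨y, rfl⟩ := this
    refine ⟨(hsq 0).flip.isoPullback.inv.base y, ?_⟩
    exact congrArg (fun k : pullback (SigmaBase.res h hW f eB 0) (SigmaBase.res h hY g eC 0) ⟶
      pullback ((f : FSch.Hom 𝔚 𝔛).app 0) ((g : FSch.Hom 𝔜 𝔛).app 0) => k y)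
      ((hsq 0).flip.isoPullback.inv_hom_id_assoc (m 0))
  · refine FSch.Hom.ext (funext fun n => ?_)
    have := IdealLemmas.isClosedImmersion_specQuot R I n
    refine (cancel_mono (CohB1.specQuot I n)).1 ?_
    have e1 : ((v : FSch.Hom _ _).app n ≫ (FSch.pullbackSnd f g : FSch.Hom _ _).app n) =
        γn n ≫ (𝔜.lvU hY n V).ι :=
      congrArg (fun φ : FSch.spf D K ⟶ 𝔜 => (φ : FSch.Hom _ _).app n) hvsnd
    have e2 : (𝔜.lvU hY n V).ι ≫ AdmLocal.toBase I (g ≫ p) n =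
        Sigma.σ hY n V ≫ Spec.map (CommRingCat.ofHom (AdmLocal.const I hY (g ≫ p) V)) :=
      (Sigma.σ_τ hY _ (SchIdeal.comp_comm (g ≫ p) _ (FSch.spfToSpec_comm R I)) n V).symm
    show ((v : FSch.Hom _ _).app n ≫ (FSch.pullbackSnd f g : FSch.Hom _ _).app n ≫
      (g ≫ p : FSch.Hom 𝔜 (FSch.spf R I)).app n) ≫ CohB1.specQuot I n =
        Spec.map (CommRingCat.ofHom (FSch.quotPowMap K I ρ _ n)) ≫ CohB1.specQuot I n
    rw [← Category.assoc ((v : FSch.Hom _ _).app n), e1, Category.assoc, Category.assoc]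
    refine (congrArg (_ ≫ ·) e2).trans ?_
    rw [← Category.assoc, hγ, Category.assoc, ← Spec.map_comp]
    show Spec.map _ ≫ Spec.map _ = Spec.map _ ≫ Spec.map _
    rw [← Spec.map_comp, ← Spec.map_comp]
    congr 1
    ext a
    show Ideal.Quotient.mk (K ^ (n + 1)) (inr (AdmLocal.const I hY (g ≫ p) V a)) =
      Ideal.Quotient.mk (K ^ (n + 1)) (ρ a)
    rw [show ρ a = inr (AdmLocal.const I hY (g ≫ p) V a) from RingHom.congr_fun hρ a]

/-- S13661. -/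
theorem main (hR : AdicRing.IsBase R I) {𝔛 : FSch.Sys.{u}} (h : 𝔛.IsFormal) (p : 𝔛 ⟶ FSch.spf R I)
    (hp : FSch.IsAdicHom p) (hft : LocallyOfFiniteType ((p : FSch.Hom _ _).app 0)) (htf : BlowProps.TF 𝔛 h)
    {𝔜 : FSch.Sys.{u}} (hY : 𝔜.IsFormal) (φ : 𝔜 ⟶ 𝔛) (hφ : FSch.IsAdicHom φ)
    (hflat : ∀ (U : (𝔛.X 0).affineOpens) (U' : (𝔜.X 0).affineOpens)
      (e : U'.1 ≤ ((φ : FSch.Hom 𝔜 𝔛).app 0) ⁻¹ᵁ U.1), (SigmaBase.τ h hY φ e).Flat)
    (J : FBlow.IdealSh (𝔛.Osh h)) (hJ : CohLocal.LocGen h I p J)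
    {𝔛' : FSch.Sys.{u}} (h' : 𝔛'.IsFormal) (b : 𝔛' ⟶ 𝔛) (hb : FBlow.IsAdmBlowUp b h' h J)
    (hP : (FSch.pullbackSys b φ).IsFormal) :
    FBlow.IsAdmBlowUp (FSch.pullbackSnd b φ) hP hY (FBlow.idealMap φ hY h J) := by
  have hI := Groth.Agent.Lib.Adic.Base.isBase_fg hR
  obtain ⟨htf', hfp'⟩ := BlowProps.main hR h p hp hft htf J hJ h' b hb
  have := hfp' 0
  have hbp := Transport.isAdicHom_comp hb.1 hp
  have hsnd := isAdicHom_snd b φ hb.1
  have hφp := Transport.isAdicHom_comp hφ hp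
  have hcond : FSch.pullbackFst b φ ≫ b = FSch.pullbackSnd b φ ≫ φ := (Groth.Agent.S3859.result b φ).w
  have hfst : FSch.IsAdicHom (FSch.pullbackFst b φ) :=
    Compose.isAdicHom_of_comp (hcond.symm ▸ Transport.isAdicHom_comp hsnd hφ) hb.1
  refine ⟨hsnd, ?_, fun ℨ hZ g hg hgJ => ?_⟩
  · have htfP : BlowProps.TF (FSch.pullbackSys b φ) hP := by
      refine TFCharts.tf hI hP (FSch.pullbackSnd b φ ≫ φ ≫ p) fun z => ?_
      obtain ⟨U, hU, hxU, -⟩ := exists_isAffineOpen_mem_and_subset (U := ⊤)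
        (x := ((b : FSch.Hom 𝔛' 𝔛).app 0).base (((FSch.pullbackFst b φ : FSch.Hom _ 𝔛').app 0).base z)) trivial
      obtain ⟨U'', hU'', hxU'', eB⟩ := exists_isAffineOpen_mem_and_subset
        (U := ((b : FSch.Hom 𝔛' 𝔛).app 0) ⁻¹ᵁ U) (x := ((FSch.pullbackFst b φ : FSch.Hom _ 𝔛').app 0).base z) hxU
      have hyU : ((φ : FSch.Hom 𝔜 𝔛).app 0).base (((FSch.pullbackSnd b φ : FSch.Hom _ 𝔜).app 0).base z) ∈ U := by
        have e := congrArg (fun k : FSch.pullbackSys b φ ⟶ 𝔛 => ((k : FSch.Hom _ _).app 0).base z) hcond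
        exact (show ((b : FSch.Hom 𝔛' 𝔛).app 0).base _ =
          ((φ : FSch.Hom 𝔜 𝔛).app 0).base (((FSch.pullbackSnd b φ : FSch.Hom _ 𝔜).app 0).base z) from e) ▸ hxU
      obtain ⟨V, hV, hyV, eC⟩ := exists_isAffineOpen_mem_and_subset
        (U := ((φ : FSch.Hom 𝔜 𝔛).app 0) ⁻¹ᵁ U) hyU
      letI := (AdmLocal.const I h' (b ≫ p) U'').toAlgebra
      obtain ⟨e, he⟩ := ChartAdm.colon_shift hR
        (AdmLocal.admissible I h' (b ≫ p) hbp hI hU'' hR inferInstance htf')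
      exact chart hI h hY h' b φ p hp hbp hφp hU hU'' eB hV eC (hflat ⟨U, hU⟩ ⟨V, hV⟩ eC) he z hxU'' hyV
    rw [Transport.idealMap_comp h hY hP (FSch.pullbackSnd b φ) φ J, ← hcond,
      ← Transport.idealMap_comp h h' hP (FSch.pullbackFst b φ) b J]
    refine Compose.isInvertible_idealMap I hI h' hP (FSch.pullbackFst b φ) (b ≫ p)
      (Transport.isAdicHom_comp hfst hbp) htfP _ hb.2.1 fun x => ?_
    obtain ⟨U, k, 𝔞, hxU, -, -, hle, hmem, -⟩ := hJ (((b : FSch.Hom 𝔛' 𝔛).app 0).base x)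
    refine ⟨((b : FSch.Hom 𝔛' 𝔛).app 0) ⁻¹ᵁ U, k, hxU, fun a ha => ?_⟩
    rw [Compose.const_comp I h h' b p U le_rfl a]
    refine FBlow.IdealSh.image_mem_map _ _ J (hmem _ (hle ?_)) le_rfl
    rw [← _root_.Ideal.map_pow]
    exact _root_.Ideal.mem_map_of_mem _ ha
  · rw [Transport.idealMap_comp h hY hZ g φ J] at hgJ
    obtain ⟨k, hk, huk⟩ := hb.2.2 ℨ hZ (g ≫ φ) (Transport.isAdicHom_comp hg hφ) hgJ
    let sys := Groth.Agent.S3859.result b φ
    refine ⟨sys.lift k g hk, sys.lift_snd k g hk, fun k' hk' => sys.hom_ext ?_ ?_⟩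
    · rw [sys.lift_fst]
      refine huk (k' ≫ FSch.pullbackFst b φ) (show (k' ≫ FSch.pullbackFst b φ) ≫ b = g ≫ φ from ?_)
      rw [Category.assoc, hcond, ← Category.assoc, hk']
    · rw [sys.lift_snd]
      exact hk'

end Groth.Agent.Lib.FBlowAff.FlatPB
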