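import Groth.Agent.Lib.FBlowAff.AdmLocal
import Groth.Agent.Lib.FBlowAff.Unit
import Mathlib.RingTheory.Spectrum.Prime.Noetherian
import Mathlib.RingTheory.KrullDimension.Basic
import Mathlib.AlgebraicGeometry.Noetherian

/-!
# The special fibre of an admissible formal scheme has locally Noetherian space (helper5)
-/

set_option autoImplicit false
set_option linter.style.haveILetI false

universe u

open CategoryTheory CategoryTheory.Limits TopologicalSpace Opposite AlgebraicGeometry
open Groth.Agent.H30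

namespace Groth.Agent.Lib.FBlowAff.NoethSpace

theorem isNoetherianRing_radical {R : Type u} [CommRing R] {I : _root_.Ideal R} (hR : AdicRing.IsBase R I) :
    IsNoetherianRing (R ⧸ I.radical) := by
  rcases hR.2 with ⟨hN, -⟩ | ⟨hD, hP, hdim, t, ht, rfl⟩
  · infer_instance
  · have : ValuationRing R := ValuationRing.mk
    by_cases htop : (_root_.Ideal.span {t}).radical = ⊤
    · have : Subsingleton (R ⧸ (_root_.Ideal.span {t}).radical) := _root_.Ideal.Quotient.subsingleton_iff.2 htop
      infer_instance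
    · have hmax : (_root_.Ideal.span {t}).radical = IsLocalRing.maximalIdeal R := by
        refine le_antisymm (IsLocalRing.le_maximalIdeal htop) ?_
        rw [_root_.Ideal.radical_eq_sInf]
        refine le_sInf fun P ⟨hle, hPp⟩ => ?_
        have hne : P ≠ ⊥ := fun h => ht ((_root_.Submodule.mem_bot _).1 (h ▸ hle (_root_.Ideal.mem_span_singleton_self t)))
        rw [IsLocalRing.eq_maximalIdeal ((Ring.krullDimLE_one_iff_of_noZeroDivisors.1 hdim P hne hPp))]
      rw [hmax]
      exact inferInstanceAs (IsNoetherianRing (IsLocalRing.ResidueField R))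

theorem noetherianSpace_of_finiteType {R : Type u} [CommRing R] {I : _root_.Ideal R}
    (hR : AdicRing.IsBase R I) {B : Type u} [CommRing B] (f : R →+* B) (hf : f.FiniteType)
    (hI : I ≤ RingHom.ker f) : NoetherianSpace (PrimeSpectrum B) := by
  have := isNoetherianRing_radical hR
  let N := I.radical.map f
  have hN : N ≤ nilradical B := _root_.Ideal.map_le_iff_le_comap.2 fun x hx => by
    obtain ⟨n, hn⟩ := hx
    exact ⟨n, by rw [← map_pow]; exact hI hn⟩
  let g : R ⧸ I.radical →+* B ⧸ N :=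
    _root_.Ideal.quotientMap N f _root_.Ideal.le_comap_map
  have hg : g.FiniteType := by
    refine RingHom.FiniteType.of_comp_finiteType (f := _root_.Ideal.Quotient.mk I.radical) ?_
    rw [show g.comp (_root_.Ideal.Quotient.mk I.radical) = (_root_.Ideal.Quotient.mk N).comp f from RingHom.ext fun _ => rfl]
    exact (RingHom.FiniteType.of_surjective _ _root_.Ideal.Quotient.mk_surjective).comp hf
  have hnoeth : IsNoetherianRing (B ⧸ N) := by
    letI := g.toAlgebra
    haveI : Algebra.FiniteType (R ⧸ I.radical) (B ⧸ N) := hg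
    exact Algebra.FiniteType.isNoetherianRing (R ⧸ I.radical) (B ⧸ N)
  refine noetherianSpace_of_surjective (PrimeSpectrum.comap (_root_.Ideal.Quotient.mk N))
    (PrimeSpectrum.continuous_comap _) fun P => ?_
  have hle : N ≤ P.asIdeal := hN.trans (nilradical_le_prime P.asIdeal)
  have hP : P ∈ Set.range (PrimeSpectrum.comap (_root_.Ideal.Quotient.mk N)) := by
    rw [range_comap_of_surjective _ _ _root_.Ideal.Quotient.mk_surjective,
      _root_.Ideal.mk_ker, PrimeSpectrum.mem_zeroLocus]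
    exact hle
  exact hP

variable {R : Type u} [CommRing R] {I : _root_.Ideal R} (hR : AdicRing.IsBase R I) {𝔛 : FSch.Sys.{u}}
  (h : 𝔛.IsFormal) (p : 𝔛 ⟶ FSch.spf R I) (hft : LocallyOfFiniteType ((p : FSch.Hom _ _).app 0))

include hR h hft in
theorem noetherianSpace_affine {U : (𝔛.X 0).Opens} (hU : IsAffineOpen U) : NoetherianSpace U := by
  have := IdealLemmas.isClosedImmersion_specQuot R I 0
  have hft' : LocallyOfFiniteType (AdmLocal.toBase I p 0) := by
    haveI := hft
    haveI : LocallyOfFiniteType (FSch.spfToSpec R I 0) := inferInstanceAs (LocallyOfFiniteType (CohB1.specQuot I 0))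
    infer_instance
  have hV := OshBasic.isAffineOpen_lvU 𝔛 h 0 hU
  let f : R →+* Γ(𝔛.X 0, 𝔛.lvU h 0 U) :=
    ((AdmLocal.toBase I p 0).appLE ⊤ (𝔛.lvU h 0 U) le_top).hom.comp (Scheme.ΓSpecIso (CommRingCat.of R)).inv.hom
  have hf : f.FiniteType :=
    ((AdmLocal.toBase I p 0).finiteType_appLE (isAffineOpen_top _) hV le_top).comp
      (RingHom.FiniteType.of_surjective _ (Scheme.ΓSpecIso (CommRingCat.of R)).symm.commRingCatIsoToRingEquiv.surjective)
  have hker : I ≤ RingHom.ker f := fun a ha => by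
    refine (AdmLocal.proj_const I h p 0 U a).symm.trans ?_
    have h0 := Spf.proj_ψOf_eq_zero h I p (n := 0) (a := a) (by rwa [zero_add, pow_one])
    show Levels.proj 𝔛 h 0 U ((𝔛.Osh h).obj.map (homOfLE (le_top : U ≤ ⊤)).op (Spf.ψOf h I p a)) = 0
    rw [Unit.proj_res h 0 (le_top : U ≤ ⊤)]
    refine (congrArg _ h0).trans ?_
    exact map_zero _
  have := noetherianSpace_of_finiteType hR f hf hker
  have hN : NoetherianSpace (Spec Γ(𝔛.X 0, 𝔛.lvU h 0 U)) := this
  have e : 𝔛.lvU h 0 U = U := Opens.ext (Set.ext fun x => Unit.mem_lvU_zero h x)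
  have h1 : NoetherianSpace (𝔛.lvU h 0 U).toScheme :=
    (noetherianSpace_iff_of_homeomorph hV.isoSpec.hom.homeomorph).2 hN
  exact e ▸ h1

include hR h hft in
theorem isCompact_of_le {W O : (𝔛.X 0).Opens} (hW : IsCompact (W : Set (𝔛.X 0))) (hOW : O ≤ W) :
    IsCompact (O : Set (𝔛.X 0)) := by
  have hcov : (W : Set (𝔛.X 0)) ⊆ ⋃ V : (𝔛.X 0).affineOpens, (V.1 : Set (𝔛.X 0)) := fun x _ => by
    obtain ⟨V, hV, hxV, -⟩ := exists_isAffineOpen_mem_and_subset (U := ⊤) (x := x) trivial
    exact Set.mem_iUnion.2 ⟨⟨V, hV⟩, hxV⟩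
  obtain ⟨s, hs⟩ := hW.elim_finite_subcover (fun V : (𝔛.X 0).affineOpens => (V.1 : Set (𝔛.X 0)))
    (fun V => V.1.2) hcov
  have : NoetherianSpace (⋃ V : s, (V.1.1 : Set (𝔛.X 0))) :=
    @NoetherianSpace.iUnion _ _ _ (fun V : s => (V.1.1 : Set (𝔛.X 0))) _
      fun V => noetherianSpace_affine hR h p hft V.1.2
  have hsub : (O : Set (𝔛.X 0)) ⊆ ⋃ V : s, (V.1.1 : Set (𝔛.X 0)) := fun x hx => by
    obtain ⟨V, hV, hxV⟩ := Set.mem_iUnion₂.1 (hs (hOW hx))
    exact Set.mem_iUnion.2 ⟨⟨V, hV⟩, hxV⟩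
  have h2 := (NoetherianSpace.isCompact (Subtype.val ⁻¹' (O : Set (𝔛.X 0)) :
    Set ↥(⋃ V : s, (V.1.1 : Set (𝔛.X 0))))).image continuous_subtype_val
  rwa [Subtype.image_preimage_coe, Set.inter_eq_right.2 hsub] at h2

end Groth.Agent.Lib.FBlowAff.NoethSpace
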