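import Groth.Agent.Lib.FBlowAff.IdealExtend
import Groth.Agent.Lib.FBlowAff.NoethSpace
import Groth.Agent.Lib.FBlowAff.CohLocal
import Groth.Agent.Lib.FBlowAff.Descend
import Groth.Agent.Lib.FBlowAff.Transport

/-!
# Extending coherent open ideals of admissible formal schemes (helper5)
-/

set_option autoImplicit false
set_option linter.style.haveILetI false

universe u

open CategoryTheory CategoryTheory.Limits TopologicalSpace Opposite AlgebraicGeometry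
open Groth.Agent.H30

namespace Groth.Agent.Lib.FBlowAff.FormalExtend

variable {𝔛 : FSch.Sys.{u}} (h : 𝔛.IsFormal)

/-- Two ideal sheaves generated near each point by the same ideal of functions agree. -/
theorem eq_of_hgen {J₁ J₂ : FBlow.IdealSh (𝔛.Osh h)} {U : (𝔛.X 0).Opens} {𝔞 : _root_.Ideal (Levels.A 𝔛 h U)}
    (h₁ : CohLocal.HGen h J₁ U 𝔞) (h₂ : CohLocal.HGen h J₂ U 𝔞) (V : (𝔛.X 0).Opens) (hV : V ≤ U) :
    J₁.sect V ≤ J₂.sect V := fun s hs => J₂.mem_of_local fun y hy => by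
  obtain ⟨W, e, e', hyW, hW⟩ := h₁.2 V hV s hs y hy
  exact ⟨W, e, hyW, (_root_.Ideal.map_le_iff_le_comap.2 fun a ha => J₂.map_mem e' (h₂.1 a ha)) hW⟩

include h in
theorem quasiSeparated_level [QuasiSeparatedSpace (𝔛.X 0)] (n : ℕ) : QuasiSeparatedSpace (𝔛.X n) :=
  (quasiSeparatedSpace_congr (𝔛.levelHomeo h n)).1 inferInstance

theorem isCompact_lvU {U : (𝔛.X 0).Opens} (hU : IsCompact (U : Set (𝔛.X 0))) (n : ℕ) :
    IsCompact (𝔛.lvU h n U : Set (𝔛.X n)) := by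
  have : (𝔛.lvU h n U : Set (𝔛.X n)) = (𝔛.toX n).base '' (U : Set (𝔛.X 0)) := by
    ext z
    constructor
    · intro hz
      obtain ⟨w, hw, rfl⟩ := Unit.exists_preimage_toX h n hz
      exact ⟨w, (Unit.mem_lvU_zero h w).1 hw, rfl⟩
    · rintro ⟨w, hw, rfl⟩
      show 𝔛.gInv h n ((𝔛.toX n).base w) ∈ U
      rw [show 𝔛.gInv h n ((𝔛.toX n).base w) = w from ConcreteCategory.congr_hom (𝔛.toX_base_gInv h n) w]
      exact hw
  rw [this]
  exact hU.image (𝔛.toX n).continuous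

/-- An open of a level comes from the common space. -/
theorem exists_lvU (n : ℕ) (O : (𝔛.X n).Opens) : ∃ O₀ : (𝔛.X 0).Opens, 𝔛.lvU h n O₀ = O := by
  refine ⟨(𝔛.toX n) ⁻¹ᵁ O, Opens.ext (Set.ext fun z => ?_)⟩
  obtain ⟨w, rfl⟩ := (𝔛.levelHomeo h n).surjective z
  show (𝔛.toX n).base (𝔛.gInv h n ((𝔛.toX n).base w)) ∈ O ↔ (𝔛.toX n).base w ∈ O
  rw [show 𝔛.gInv h n ((𝔛.toX n).base w) = w from ConcreteCategory.congr_hom (𝔛.toX_base_gInv h n) w]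

theorem isAffineOpen_of_lvU {W : (𝔛.X 0).Opens} (n : ℕ) (hW : IsAffineOpen (𝔛.lvU h n W)) : IsAffineOpen W := by
  induction n with
  | zero =>
    rwa [show 𝔛.lvU h 0 W = W from Opens.ext (Set.ext fun x => Unit.mem_lvU_zero h x)] at hW
  | succ n ih =>
    have := (h n).1
    exact ih (𝔛.lvU_succ h n W ▸ hW.preimage (𝔛.ι n))

variable {R : Type u} [CommRing R] (I : _root_.Ideal R) (p : 𝔛 ⟶ FSch.spf R I)

theorem hgen_ofLevel (hp : FSch.IsAdicHom p) (hI : I.FG) (m : ℕ) (𝒜 : (𝔛.X m).IdealSheafData)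
    {U : (𝔛.X 0).Opens} (hU : IsAffineOpen U) :
    CohLocal.HGen h (FBlow.ofLevel 𝔛 h m 𝒜) U
      ((𝒜.ideal ⟨_, OshBasic.isAffineOpen_lvU 𝔛 h m hU⟩).comap (Levels.proj 𝔛 h m U).hom) := by
  obtain ⟨-, hsk⟩ := AdmLocal.spec I h p hp hI hU
  let Un : (𝔛.X m).affineOpens := ⟨_, OshBasic.isAffineOpen_lvU 𝔛 h m hU⟩
  let π := (Levels.proj 𝔛 h m U).hom
  refine ⟨fun a ha y hy => ⟨Un, le_rfl, hy, ?_⟩, fun V hV s hs y hy => ?_⟩
  · rw [show (homOfLE (le_refl Un.1)).op = 𝟙 _ from Subsingleton.elim _ _, CategoryTheory.Functor.map_id]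
    exact ha
  · have hy' : (𝔛.gInv h m) (((𝔛.toX m).base y)) = y := ConcreteCategory.congr_hom (𝔛.toX_base_gInv h m) y
    have hyn : (𝔛.toX m).base y ∈ 𝔛.lvU h m V := by
      show 𝔛.gInv h m _ ∈ V
      rw [hy']; exact hy
    obtain ⟨W', i', hyW', hW'⟩ := hs _ hyn
    obtain ⟨W, hW, hyW, hWle⟩ := exists_isAffineOpen_mem_and_subset
      (show y ∈ V ⊓ (𝔛.toX m) ⁻¹ᵁ W'.1 from ⟨hy, hyW'⟩)
    have e : W ≤ V := fun z hz => (hWle hz).1
    have eU : W ≤ U := e.trans hV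
    obtain ⟨-, hskW⟩ := AdmLocal.spec I h p hp hI hW
    let Wn : (𝔛.X m).affineOpens := ⟨_, OshBasic.isAffineOpen_lvU 𝔛 h m hW⟩
    have hWn : Wn.1 ≤ W'.1 := fun z hz => by
      obtain ⟨w, hw, rfl⟩ := Unit.exists_preimage_toX h m hz
      exact (hWle ((Unit.mem_lvU_zero h w).1 hw)).2
    have h1 : Levels.proj 𝔛 h m W (CohLocal.res h e s) ∈ 𝒜.ideal Wn := by
      rw [Unit.proj_res h m e s]
      have := (le_of_eq (𝒜.map_ideal (U := Wn) (V := W') hWn))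
        (_root_.Ideal.mem_map_of_mem ((𝔛.X m).presheaf.map (homOfLE hWn).op).hom hW')
      refine (congrArg (· ∈ 𝒜.ideal Wn) ?_).mp this
      exact FBlow.sch_map_comp_apply i' hWn _
    let 𝔞 := (𝒜.ideal Un).comap π
    have h2 : 𝒜.ideal Wn = (𝔞.map (CohLocal.res h eU)).map (Levels.proj 𝔛 h m W).hom := by
      have e1 : (Levels.proj 𝔛 h m W).hom.comp (CohLocal.res h eU) =
          ((𝔛.X m).presheaf.map (homOfLE (Sigma.lvU_mono h m eU)).op).hom.comp π :=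
        RingHom.ext fun a => Unit.proj_res h m eU a
      rw [_root_.Ideal.map_map, e1, ← _root_.Ideal.map_map,
        _root_.Ideal.map_comap_of_surjective π (hsk m).1]
      exact (𝒜.map_ideal (U := Wn) (V := Un) (Sigma.lvU_mono h m eU)).symm
    rw [h2] at h1
    obtain ⟨z, hz, hzs⟩ := (_root_.Ideal.mem_map_iff_of_surjective _ (hskW m).1).1 h1
    refine ⟨W, e, eU, hyW, ?_⟩
    have h4 : CohLocal.res h e s - z ∈ I.map (AdmLocal.const I h p W) ^ (m + 1) := by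
      rw [← (hskW m).2, RingHom.mem_ker, map_sub]
      exact sub_eq_zero.2 hzs.symm
    rw [show AdmLocal.const I h p W = (CohLocal.res h eU).comp (AdmLocal.const I h p U) from
      RingHom.ext fun a => (AdmLocal.const_res I h p eU a).symm, ← _root_.Ideal.map_map,
      ← _root_.Ideal.map_pow, ← (hsk m).2] at h4
    simpa using add_mem (_root_.Ideal.map_mono (_root_.Ideal.ker_le_comap π) h4) hz

theorem ofLevel_sect_eq_top (m : ℕ) (𝒜 : (𝔛.X m).IdealSheafData) (V : (𝔛.X 0).Opens)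
    (H : ∀ O : (𝔛.X m).affineOpens, O.1 ≤ 𝔛.lvU h m V → 𝒜.ideal O = ⊤) :
    (FBlow.ofLevel 𝔛 h m 𝒜).sect V = ⊤ := top_le_iff.1 fun s _ => by
  refine (FBlow.mem_ofLevel_iff 𝔛 h m 𝒜 V s).2 fun y hy => ?_
  obtain ⟨O, hO, hyO, hle⟩ := exists_isAffineOpen_mem_and_subset hy
  exact ⟨⟨O, hO⟩, hle, hyO, by rw [H ⟨O, hO⟩ hle]; trivial⟩

variable {ι : Type u}

/-- Compatibility of local ideals of functions. -/
def Compat (U : ι → (𝔛.X 0).Opens) (𝔞 : ∀ i, _root_.Ideal (Levels.A 𝔛 h (U i))) : Prop :=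
  ∀ i j, ∀ a ∈ 𝔞 i, ∀ y, y ∈ U i → y ∈ U j → ∃ (W : (𝔛.X 0).Opens) (e : W ≤ U i) (e' : W ≤ U j),
    y ∈ W ∧ CohLocal.res h e a ∈ (𝔞 j).map (CohLocal.res h e')

theorem compat_of_hgen (J : FBlow.IdealSh (𝔛.Osh h)) (U : ι → (𝔛.X 0).Opens)
    (𝔞 : ∀ i, _root_.Ideal (Levels.A 𝔛 h (U i))) (hgen : ∀ i, CohLocal.HGen h J (U i) (𝔞 i)) :
    Compat h U 𝔞 := fun i j a ha y hyi hyj => by
  obtain ⟨W, e, e', hy, hW⟩ := (hgen j).2 (U i ⊓ U j) inf_le_right _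
    (J.map_mem inf_le_left ((hgen i).1 a ha)) y ⟨hyi, hyj⟩
  refine ⟨W, e.trans inf_le_left, e', hy, ?_⟩
  refine (congrArg (· ∈ _) ?_).mp hW
  exact FBlow.IdealSh.map_comp_apply inf_le_left e a

variable [Finite ι] (hR : AdicRing.IsBase R I) (hp : FSch.IsAdicHom p)
  (hft : LocallyOfFiniteType ((p : FSch.Hom _ _).app 0)) [QuasiSeparatedSpace (𝔛.X 0)]

include hR hp hft in
/-- The extension. -/
theorem exists_extension (U : ι → (𝔛.X 0).Opens) (hU : ∀ i, IsAffineOpen (U i)) (m : ℕ)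
    (𝔞 : ∀ i, _root_.Ideal (Levels.A 𝔛 h (U i))) (hfg : ∀ i, (𝔞 i).FG)
    (hle : ∀ i, I.map (AdmLocal.const I h p (U i)) ^ (m + 1) ≤ 𝔞 i) (hc : Compat h U 𝔞)
    (W : (𝔛.X 0).Opens) (hW : IsCompact (W : Set (𝔛.X 0))) (hUW : ∀ i, U i ≤ W)
    (hout : ∀ x, x ∉ W → ∃ O : (𝔛.X 0).Opens, x ∈ O ∧ ∀ i, O ⊓ U i = ⊥) :
    ∃ 𝒜 : (𝔛.X m).IdealSheafData, FSch.IdealFT 𝒜 ∧
      (∀ i, CohLocal.HGen h (FBlow.ofLevel 𝔛 h m 𝒜) (U i) (𝔞 i)) ∧
      ∀ V : (𝔛.X 0).Opens, (∀ i, V ⊓ U i = ⊥) → (FBlow.ofLevel 𝔛 h m 𝒜).sect V = ⊤ := by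
  have hI := Groth.Agent.Lib.Adic.Base.isBase_fg hR
  have := quasiSeparated_level h m
  let Vn : ι → (𝔛.X m).affineOpens := fun i => ⟨_, OshBasic.isAffineOpen_lvU 𝔛 h m (hU i)⟩
  let L : ∀ i, _root_.Ideal Γ(𝔛.X m, (Vn i).1) := fun i => (𝔞 i).map (Levels.proj 𝔛 h m (U i)).hom
  have hcompat : ∀ i j, ∀ t ∈ L i, ∀ y, y ∈ (Vn i).1 → y ∈ (Vn j).1 → ∃ (O' : (𝔛.X m).affineOpens)
      (hi : O'.1 ≤ (Vn i).1) (hj : O'.1 ≤ (Vn j).1), y ∈ O'.1 ∧
      (𝔛.X m).presheaf.map (homOfLE hi).op t ∈ (L j).map ((𝔛.X m).presheaf.map (homOfLE hj).op).hom := by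
    intro i j t ht y hyi hyj
    obtain ⟨-, hsk⟩ := AdmLocal.spec I h p hp hI (hU i)
    obtain ⟨a, ha, rfl⟩ := (_root_.Ideal.mem_map_iff_of_surjective _ (hsk m).1).1 ht
    obtain ⟨W₁, e, e', hyW, hW₁⟩ := hc i j a ha (𝔛.gInv h m y) hyi hyj
    obtain ⟨W', hW', hyW', hle'⟩ := exists_isAffineOpen_mem_and_subset hyW
    have hle'' : W' ≤ W₁ := hle'
    refine ⟨⟨_, OshBasic.isAffineOpen_lvU 𝔛 h m hW'⟩, Sigma.lvU_mono h m (hle''.trans e),
      Sigma.lvU_mono h m (hle''.trans e'), hyW', ?_⟩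
    have h1 := _root_.Ideal.mem_map_of_mem (Levels.proj 𝔛 h m W').hom
      (_root_.Ideal.mem_map_of_mem (CohLocal.res h hle'') hW₁)
    rw [show CohLocal.res h hle'' (CohLocal.res h e a) = CohLocal.res h (hle''.trans e) a from
      FBlow.IdealSh.map_comp_apply e hle'' a, _root_.Ideal.map_map, _root_.Ideal.map_map] at h1
    have e1 : (((Levels.proj 𝔛 h m W').hom.comp (CohLocal.res h hle'')).comp (CohLocal.res h e')) =
        ((𝔛.X m).presheaf.map (homOfLE (Sigma.lvU_mono h m (hle''.trans e'))).op).hom.comp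
          (Levels.proj 𝔛 h m (U j)).hom := RingHom.ext fun c => by
      show Levels.proj 𝔛 h m W' ((𝔛.Osh h).obj.map (homOfLE hle'').op ((𝔛.Osh h).obj.map (homOfLE e').op c)) = _
      rw [FBlow.IdealSh.map_comp_apply e' hle'' c, Unit.proj_res h m (hle''.trans e') c]
      rfl
    rw [e1, ← _root_.Ideal.map_map] at h1
    exact (congrArg (· ∈ _) (Unit.proj_res h m (hle''.trans e) a)).mp h1
  have hbot : ∀ {A B : (𝔛.X 0).Opens}, A ⊓ B = ⊥ → 𝔛.lvU h m A ⊓ 𝔛.lvU h m B = ⊥ := fun {A B} e =>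
    eq_bot_iff.2 fun z hz => absurd (show 𝔛.gInv h m z ∈ A ⊓ B from hz) (by rw [e]; exact id)
  obtain ⟨𝒜, hft𝒜, hin, hout'⟩ := IdealExtend.exists_extension (X := 𝔛.X m) Vn L
    (fun i => (hfg i).map _) hcompat (𝔛.lvU h m W) (isCompact_lvU h hW m)
    (fun i => Sigma.lvU_mono h m (hUW i))
    (fun y hy => by
      obtain ⟨O, hO, hd⟩ := hout (𝔛.gInv h m y) hy
      exact ⟨𝔛.lvU h m O, hO, fun i => hbot (hd i)⟩)
    (fun O hO => by
      obtain ⟨O₀, rfl⟩ := exists_lvU h m O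
      refine isCompact_lvU h (NoethSpace.isCompact_of_le hR h p hft hW fun x hx => ?_) m
      have hx' : 𝔛.gInv h m ((𝔛.toX m).base x) = x := ConcreteCategory.congr_hom (𝔛.toX_base_gInv h m) x
      have h2 : 𝔛.gInv h m ((𝔛.toX m).base x) ∈ W :=
        hO (show 𝔛.gInv h m ((𝔛.toX m).base x) ∈ O₀ by rw [hx']; exact hx)
      rwa [hx'] at h2)
  refine ⟨𝒜, hft𝒜, fun i => ?_, fun V hV => ofLevel_sect_eq_top h m 𝒜 V fun O hO => hout' O fun i =>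
    eq_bot_iff.2 ((inf_le_inf_right _ hO).trans (hbot (hV i)).le)⟩
  obtain ⟨-, hsk⟩ := AdmLocal.spec I h p hp hI (hU i)
  have e : (𝒜.ideal (Vn i)).comap (Levels.proj 𝔛 h m (U i)).hom = 𝔞 i := by
    rw [hin i, _root_.Ideal.comap_map_of_surjective _ (hsk m).1, ← RingHom.ker_eq_comap_bot, (hsk m).2,
      sup_eq_left.2 (hle i)]
  have h1 := hgen_ofLevel h I p hp hI m 𝒜 (hU i)
  rwa [e] at h1

omit [Finite ι] [QuasiSeparatedSpace (𝔛.X 0)] in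
/-- Quasi-paracompactness gives the neighbourhood needed. -/
theorem exists_nhd {κ : Type u} (V : κ → (𝔛.X 0).Opens) (hcov : (⨆ k, V k) = ⊤)
    (hc : ∀ k, IsCompact (V k : Set (𝔛.X 0))) (hfin : ∀ k, Set.Finite {j | V k ⊓ V j ≠ ⊥})
    (U : (𝔛.X 0).Opens) (hU : IsCompact (U : Set (𝔛.X 0))) :
    ∃ W : (𝔛.X 0).Opens, IsCompact (W : Set (𝔛.X 0)) ∧ U ≤ W ∧
      ∀ x, x ∉ W → ∃ O : (𝔛.X 0).Opens, x ∈ O ∧ O ⊓ U = ⊥ := by
  classical
  have hcov' : (U : Set (𝔛.X 0)) ⊆ ⋃ k, (V k : Set (𝔛.X 0)) := fun x _ => by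
    obtain ⟨k, hk⟩ := Opens.mem_iSup.1 (show x ∈ ⨆ k, V k by rw [hcov]; trivial)
    exact Set.mem_iUnion.2 ⟨k, hk⟩
  obtain ⟨s, hs⟩ := hU.elim_finite_subcover (fun k => (V k : Set (𝔛.X 0))) (fun k => (V k).2) hcov'
  let S : Finset κ := s ∪ s.biUnion fun k => (hfin k).toFinset
  refine ⟨S.sup V, ?_, fun x hx => ?_, fun x hx => ?_⟩
  · rw [show ((S.sup V : (𝔛.X 0).Opens) : Set (𝔛.X 0)) = ⋃ k ∈ S, (V k : Set (𝔛.X 0)) by simp [Finset.sup_eq_iSup]]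
    exact S.isCompact_biUnion fun k _ => hc k
  · obtain ⟨k, hk, hxk⟩ := Set.mem_iUnion₂.1 (hs hx)
    exact (show V k ≤ S.sup V from Finset.le_sup (Finset.mem_union_left _ hk)) hxk
  · obtain ⟨k, hk⟩ := Opens.mem_iSup.1 (show x ∈ ⨆ k, V k by rw [hcov]; trivial)
    refine ⟨V k, hk, eq_bot_iff.2 fun z hz => absurd ?_ hx⟩
    obtain ⟨j, hj, hzj⟩ := Set.mem_iUnion₂.1 (hs hz.2)
    have hk' : k ∈ S → V k ≤ S.sup V := fun hS => Finset.le_sup hS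
    refine hk' (Finset.mem_union_right _ (Finset.mem_biUnion.2 ⟨j, hj, ?_⟩)) hk
    refine (hfin j).mem_toFinset.2 ?_
    exact fun e => by
      have : z ∈ V j ⊓ V k := ⟨hzj, hz.1⟩
      rw [e] at this
      exact this

/-- The extension of an ideal sheaf from an open of an admissible formal scheme. -/
noncomputable def below (U : (𝔛.X 0).Opens) (JU : FBlow.IdealSh ((𝔛.restrictOpen h U).Osh (Restrict.isFormal 𝔛 h U))) :
    FBlow.IdealSh (𝔛.Osh h) where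
  sect O := _root_.Ideal.comap ((FSch.Hom.sharp (𝔛.restrictOpenι h U) (Restrict.isFormal 𝔛 h U) h).hom.app (op O)).hom
    (JU.sect (((𝔛.restrictOpenι h U : FSch.Hom _ _).app 0) ⁻¹ᵁ O))
  map_mem {O O'} i s hs := by
    rw [_root_.Ideal.mem_comap] at hs ⊢
    exact (congrArg (· ∈ _) (SchIdeal.res_sharp h (Restrict.isFormal 𝔛 h U) (𝔛.restrictOpenι h U) i s)).mpr
      (JU.map_mem (Scheme.Hom.preimage_mono _ i) hs)
  mem_of_local {O s} hs := by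
    rw [_root_.Ideal.mem_comap]
    refine JU.mem_of_local fun y hy => ?_
    obtain ⟨V, i, hV, hs'⟩ := hs _ hy
    rw [_root_.Ideal.mem_comap] at hs'
    exact ⟨_, Scheme.Hom.preimage_mono _ i, hV,
      (congrArg (· ∈ _) (SchIdeal.res_sharp h (Restrict.isFormal 𝔛 h U) (𝔛.restrictOpenι h U) i s)).mp hs'⟩

end Groth.Agent.Lib.FBlowAff.FormalExtend
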