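import Groth.Prelude.Def_FBlow
import Groth.Agent.H30.FSch.Levels

/-!
# Ideal sheaves generated by global sections (helper5)
-/

set_option autoImplicit false
set_option linter.style.haveILetI false

universe u

open CategoryTheory CategoryTheory.Limits TopologicalSpace Opposite AlgebraicGeometry

namespace Groth.Agent.Lib.FBlowAff.Ideal

variable {T : TopCat.{u}} {O : Sheaf (Opens.grothendieckTopology T) CommRingCat.{u}}

/-- Restriction of a global section. -/
noncomputable def r (U : Opens T) : O.obj.obj (op ⊤) →+* O.obj.obj (op U) :=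
  (O.obj.map (homOfLE (le_top : U ≤ ⊤)).op).hom

theorem res_r {U V : Opens T} (i : V ≤ U) (a : O.obj.obj (op ⊤)) :
    O.obj.map (homOfLE i).op (r U a) = r V a :=
  FBlow.IdealSh.map_comp_apply le_top i a

/-- The ideal sheaf generated by global sections. -/
noncomputable def gens (S : Set (O.obj.obj (op (⊤ : Opens T)))) : FBlow.IdealSh O :=
  FBlow.IdealSh.gen fun W => (r W) '' S

theorem r_mem_gens {S : Set (O.obj.obj (op (⊤ : Opens T)))} {a : O.obj.obj (op ⊤)} (ha : a ∈ S)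
    (U : Opens T) : r U a ∈ (gens S).sect U :=
  FBlow.IdealSh.subset_gen _ U ⟨a, ha, rfl⟩

theorem gens_le {S : Set (O.obj.obj (op (⊤ : Opens T)))} {J : FBlow.IdealSh O}
    (h : ∀ a ∈ S, a ∈ J.sect ⊤) : gens S ≤ J :=
  FBlow.IdealSh.gen_le fun W => by
    rintro _ ⟨a, ha, rfl⟩
    exact J.map_mem le_top (h a ha)

theorem exists_span_of_mem {S : Set (O.obj.obj (op (⊤ : Opens T)))} {U : Opens T} {s : O.obj.obj (op U)}
    (hs : s ∈ (gens S).sect U) {x : T} (hx : x ∈ U) :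
    ∃ (V : Opens T) (i : V ≤ U), x ∈ V ∧ O.obj.map (homOfLE i).op s ∈ Ideal.span ((r V) '' S) := by
  obtain ⟨V, i, hxV, hV⟩ := hs x hx
  refine ⟨V, i, hxV, (Ideal.span_le.2 ?_) hV⟩
  rintro _ ⟨W, j, _, ⟨a, ha, rfl⟩, rfl⟩
  exact Ideal.subset_span ⟨a, ha, (res_r j a).symm⟩

theorem ext_of_le {J K : FBlow.IdealSh O} (h₁ : J ≤ K) (h₂ : K ≤ J) : J = K :=
  FBlow.IdealSh.ext (funext fun U => le_antisymm (h₁ U) (h₂ U))

/-- A global section regular on every open. -/
def Regular (g : O.obj.obj (op (⊤ : Opens T))) : Prop :=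
  ∀ (V : Opens T) (t : O.obj.obj (op V)), t * r V g = 0 → t = 0

theorem exists_mul_of_local' {g : O.obj.obj (op (⊤ : Opens T))} {U : Opens T}
    (hg : ∀ V : Opens T, V ≤ U → ∀ t : O.obj.obj (op V), t * r V g = 0 → t = 0)
    (s : O.obj.obj (op U))
    (h : ∀ x ∈ U, ∃ (V : Opens T) (i : V ≤ U) (t : O.obj.obj (op V)),
      x ∈ V ∧ O.obj.map (homOfLE i).op s = t * r V g) :
    ∃ t : O.obj.obj (op U), s = t * r U g := by
  choose V i t hxV ht using h
  let W : U → Opens T := fun x => V x.1 x.2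
  let O' : TopCat.Sheaf CommRingCat.{u} T := O
  have hcompat : TopCat.Presheaf.IsCompatible O'.1 W fun x => t x.1 x.2 := fun a b => by
    refine sub_eq_zero.1 (hg _ (inf_le_left.trans (i a.1 a.2)) _ ?_)
    rw [sub_mul, sub_eq_zero]
    show O.obj.map (homOfLE (inf_le_left : W a ⊓ W b ≤ W a)).op (t a.1 a.2) * r (W a ⊓ W b) g =
      O.obj.map (homOfLE (inf_le_right : W a ⊓ W b ≤ W b)).op (t b.1 b.2) * r (W a ⊓ W b) g
    conv_lhs => rw [← res_r (inf_le_left : W a ⊓ W b ≤ W a) g, ← map_mul, ← ht,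
      FBlow.IdealSh.map_comp_apply]
    conv_rhs => rw [← res_r (inf_le_right : W a ⊓ W b ≤ W b) g, ← map_mul, ← ht,
      FBlow.IdealSh.map_comp_apply]
  obtain ⟨s', hs', -⟩ := O'.existsUnique_gluing' W U (fun x => homOfLE (i x.1 x.2))
    (fun x hx => Opens.mem_iSup.2 ⟨⟨x, hx⟩, hxV x hx⟩) _ hcompat
  refine ⟨s', TopCat.Sheaf.eq_of_locally_eq' O' W U (fun x => homOfLE (i x.1 x.2))
    (fun x hx => Opens.mem_iSup.2 ⟨⟨x, hx⟩, hxV x hx⟩) s (s' * r U g) fun x => ?_⟩
  show O.obj.map (homOfLE (i x.1 x.2)).op s = O.obj.map (homOfLE (i x.1 x.2)).op (s' * r U g)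
  rw [map_mul, res_r, ht]
  exact congrArg (· * _) (hs' x).symm

theorem exists_mul_of_local {g : O.obj.obj (op (⊤ : Opens T))} (hg : Regular g) {U : Opens T}
    (s : O.obj.obj (op U))
    (h : ∀ x ∈ U, ∃ (V : Opens T) (i : V ≤ U) (t : O.obj.obj (op V)),
      x ∈ V ∧ O.obj.map (homOfLE i).op s = t * r V g) :
    ∃ t : O.obj.obj (op U), s = t * r U g :=
  exists_mul_of_local' (fun V _ => hg V) s h

theorem mem_gens_singleton {g : O.obj.obj (op (⊤ : Opens T))} (hg : Regular g) {U : Opens T}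
    {s : O.obj.obj (op U)} (hs : s ∈ (gens {g}).sect U) : ∃ t, s = t * r U g := by
  refine exists_mul_of_local hg s fun x hx => ?_
  obtain ⟨V, i, hxV, hV⟩ := exists_span_of_mem hs hx
  rw [Set.image_singleton, Ideal.mem_span_singleton'] at hV
  obtain ⟨t, ht⟩ := hV
  exact ⟨V, i, t, hxV, ht.symm⟩

theorem isInvertible_gens_singleton {g : O.obj.obj (op (⊤ : Opens T))} (hg : Regular g) :
    (gens ({g} : Set (O.obj.obj (op (⊤ : Opens T))))).IsInvertible := by
  intro x
  refine ⟨⊤, trivial, g, ?_, fun V i => ⟨fun t ht => hg V t ht, fun s hs => mem_gens_singleton hg hs⟩⟩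
  have h := r_mem_gens (Set.mem_singleton g) ⊤
  rwa [show r (⊤ : Opens T) g = g from FBlow.IdealSh.map_id_apply _ g] at h

theorem gens_eq_singleton_of_dvd {S : Set (O.obj.obj (op (⊤ : Opens T)))} {g : O.obj.obj (op ⊤)}
    (hgS : g ∈ S) (hS : ∀ a ∈ S, ∃ t, a = t * g) : gens S = gens {g} := by
  refine ext_of_le (gens_le fun a ha => ?_) (gens_le fun a ha => ?_)
  · obtain ⟨t, rfl⟩ := hS a ha
    have h := r_mem_gens (Set.mem_singleton g) ⊤
    rw [show r (⊤ : Opens T) g = g from FBlow.IdealSh.map_id_apply _ g] at h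
    exact Ideal.mul_mem_left _ _ h
  · rw [Set.mem_singleton_iff.1 ha]
    have h := r_mem_gens hgS ⊤
    rwa [show r (⊤ : Opens T) g = g from FBlow.IdealSh.map_id_apply _ g] at h

/-- When finitely many global sections generate an invertible ideal, near every point some of them
form, up to a regular factor, a unimodular family. -/
theorem exists_factor {ι : Type} [Fintype ι] (a : ι → O.obj.obj (op (⊤ : Opens T)))
    (h : (gens (Set.range a)).IsInvertible) (x : T) :
    ∃ (V : Opens T) (_ : x ∈ V) (γ : O.obj.obj (op V)) (b u : ι → O.obj.obj (op V)),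
      (∀ (W : Opens T) (i : W ≤ V) (t : O.obj.obj (op W)), t * O.obj.map (homOfLE i).op γ = 0 → t = 0) ∧
      (∀ j, r V (a j) = b j * γ) ∧ ∑ j, u j * b j = 1 := by
  obtain ⟨U, hxU, γ₀, hγ₀, hU⟩ := h x
  obtain ⟨V, i, hxV, hV⟩ := exists_span_of_mem hγ₀ hxU
  rw [← Set.range_comp, Ideal.mem_span_range_iff_exists_fun] at hV
  obtain ⟨u, hu⟩ := hV
  have hb : ∀ j, ∃ b, r V (a j) = b * O.obj.map (homOfLE i).op γ₀ := fun j =>
    (hU V i).2 _ (r_mem_gens (Set.mem_range_self (f := a) j) V)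
  choose b hb using hb
  refine ⟨V, hxV, O.obj.map (homOfLE i).op γ₀, b, u, fun W e t ht => (hU W (e.trans i)).1 t ?_, hb, ?_⟩
  · rwa [← FBlow.IdealSh.map_comp_apply i e]
  · refine sub_eq_zero.1 ((hU V i).1 _ ?_)
    rw [sub_mul, one_mul, sub_eq_zero, Finset.sum_mul]
    refine Eq.trans (Finset.sum_congr rfl fun j _ => ?_) hu
    rw [mul_assoc, ← hb]
    rfl

end Groth.Agent.Lib.FBlowAff.Ideal
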