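import Groth.Agent.Lib.FBlowAff.Unit
import Groth.Agent.Lib.FBlowAff.Ideal

/-!
# The locus where one given section generates an invertible ideal (helper5)
-/

set_option autoImplicit false
set_option linter.style.haveILetI false

universe u

open CategoryTheory CategoryTheory.Limits TopologicalSpace Opposite AlgebraicGeometry
open Groth.Agent.H30

namespace Groth.Agent.Lib.FBlowAff.Good

variable {𝔛 : FSch.Sys.{u}} (h : 𝔛.IsFormal) {ι : Type} (a : ι → Levels.A 𝔛 h ⊤) (i : ι)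

/-- On `V` the section `a i` is regular and divides all `a j`. -/
def IsGood (V : (𝔛.X 0).Opens) : Prop :=
  (∀ (W : (𝔛.X 0).Opens), W ≤ V → ∀ t : Levels.A 𝔛 h W, t * Ideal.r W (a i) = 0 → t = 0) ∧
    ∀ j, ∃ d : Levels.A 𝔛 h V, Ideal.r V (a j) = d * Ideal.r V (a i)

/-- The locus. -/
def U : (𝔛.X 0).Opens :=
  ⟨{x | ∃ V : (𝔛.X 0).Opens, x ∈ V ∧ IsGood h a i V}, isOpen_iff_forall_mem_open.2 fun _ ⟨V, hxV, hV⟩ =>
    ⟨V, fun _ hy => ⟨V, hy, hV⟩, V.2, hxV⟩⟩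

theorem mem_U {x : 𝔛.X 0} : x ∈ U h a i ↔ ∃ V : (𝔛.X 0).Opens, x ∈ V ∧ IsGood h a i V := Iff.rfl

theorem isGood_U : IsGood h a i (U h a i) := by
  have hreg : ∀ (W : (𝔛.X 0).Opens), W ≤ U h a i → ∀ t : Levels.A 𝔛 h W, t * Ideal.r W (a i) = 0 → t = 0 := by
    intro W hW t ht
    refine (Submodule.mem_bot _).1 ((FBlow.IdealSh.bot (𝔛.Osh h)).mem_of_local fun x hx => ?_)
    obtain ⟨V, hxV, hV⟩ := hW hx
    refine ⟨W ⊓ V, inf_le_left, ⟨hx, hxV⟩, (Submodule.mem_bot _).2 (hV.1 _ inf_le_right _ ?_)⟩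
    rw [← Ideal.res_r (inf_le_left : W ⊓ V ≤ W) (a i), ← map_mul, ht, map_zero]
  refine ⟨hreg, fun j => ?_⟩
  refine Ideal.exists_mul_of_local' hreg _ fun x hx => ?_
  obtain ⟨V, hxV, hV⟩ := hx
  obtain ⟨d, hd⟩ := hV.2 j
  have hVU : V ≤ U h a i := fun y hy => ⟨V, hy, hV⟩
  exact ⟨V, hVU, d, hxV, (Ideal.res_r hVU (a j)).trans hd⟩

/-- Where the `i`-th cofactor is invertible the open is good. -/
theorem isGood_of_isUnit {V : (𝔛.X 0).Opens} (γ : Levels.A 𝔛 h V) (b : ι → Levels.A 𝔛 h V)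
    (hγ : ∀ (W : (𝔛.X 0).Opens) (e : W ≤ V) (t : Levels.A 𝔛 h W),
      t * (𝔛.Osh h).obj.map (homOfLE e).op γ = 0 → t = 0)
    (hb : ∀ j, Ideal.r V (a j) = b j * γ) (hu : IsUnit (b i)) : IsGood h a i V := by
  obtain ⟨v, hv⟩ := hu.exists_left_inv
  refine ⟨fun W e t ht => ?_, fun j => ⟨b j * v, ?_⟩⟩
  · rw [← Ideal.res_r e (a i), hb, map_mul, ← mul_assoc] at ht
    exact (hu.map ((𝔛.Osh h).obj.map (homOfLE e).op).hom).mul_left_eq_zero.1 (hγ W e _ ht)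
  · rw [hb, hb, mul_assoc (b j), ← mul_assoc v, hv, one_mul]

theorem exists_isGood_of_mem_D {V : (𝔛.X 0).Opens} (γ : Levels.A 𝔛 h V) (b : ι → Levels.A 𝔛 h V)
    (hγ : ∀ (W : (𝔛.X 0).Opens) (e : W ≤ V) (t : Levels.A 𝔛 h W),
      t * (𝔛.Osh h).obj.map (homOfLE e).op γ = 0 → t = 0)
    (hb : ∀ j, Ideal.r V (a j) = b j * γ) {x : 𝔛.X 0} (hx : x ∈ Unit.D h (b i)) : x ∈ U h a i := by
  have e := Unit.D_le h (b i)
  refine ⟨Unit.D h (b i), hx, isGood_of_isUnit h a i ((𝔛.Osh h).obj.map (homOfLE e).op γ)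
    (fun j => (𝔛.Osh h).obj.map (homOfLE e).op (b j)) (fun W e' t ht => hγ W (e'.trans e) t ?_)
    (fun j => ?_) (Unit.isUnit_res_D h (b i))⟩
  · rwa [FBlow.IdealSh.map_comp_apply] at ht
  · rw [← Ideal.res_r e (a j), hb, map_mul]

variable [Fintype ι] (hinv : (Ideal.gens (Set.range a)).IsInvertible)

include hinv in
theorem exists_mem_U (x : 𝔛.X 0) : ∃ i, x ∈ U h a i := by
  obtain ⟨V, hxV, γ, b, u, hγ, hb, hsum⟩ := Ideal.exists_factor a hinv x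
  obtain ⟨j, hj⟩ := Unit.exists_mem_D h b u hsum hxV
  exact ⟨j, exists_isGood_of_mem_D h a j γ b hγ hb hj⟩

include hinv in
/-- The locus is that of the agreement of the two ideals. -/
theorem coe_U : {x : 𝔛.X 0 | ∃ V : (𝔛.X 0).Opens, x ∈ V ∧ ∀ V' : (𝔛.X 0).Opens, V' ≤ V →
    (Ideal.gens (Set.range a)).sect V' = (Ideal.gens {a i}).sect V'} = (U h a i : Set (𝔛.X 0)) := by
  ext x
  constructor
  · rintro ⟨V, hxV, hV⟩
    obtain ⟨V₁, hxV₁, γ, b, u, hγ, hb, hsum⟩ := Ideal.exists_factor a hinv x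
    have hγmem : γ ∈ (Ideal.gens (Set.range a)).sect V₁ := by
      have e : γ = ∑ j, u j * Ideal.r V₁ (a j) := by
        simp only [hb, ← mul_assoc]
        rw [← Finset.sum_mul, hsum, one_mul]
      rw [e]
      exact Submodule.sum_mem _ fun j _ =>
        _root_.Ideal.mul_mem_left _ _ (Ideal.r_mem_gens (Set.mem_range_self j) _)
    have h2 := (Ideal.gens (Set.range a)).map_mem (inf_le_right : V ⊓ V₁ ≤ V₁) hγmem
    rw [hV _ inf_le_left] at h2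
    obtain ⟨W, e, hxW, hW⟩ := Ideal.exists_span_of_mem h2 (x := x) ⟨hxV, hxV₁⟩
    rw [FBlow.IdealSh.map_comp_apply, Set.image_singleton, _root_.Ideal.mem_span_singleton'] at hW
    obtain ⟨c, hc⟩ := hW
    have hW₁ : W ≤ V₁ := e.trans inf_le_right
    refine ⟨W, hxW, isGood_of_isUnit h a i ((𝔛.Osh h).obj.map (homOfLE hW₁).op γ)
      (fun j => (𝔛.Osh h).obj.map (homOfLE hW₁).op (b j)) (fun W' e' t ht => hγ W' (e'.trans hW₁) t ?_)
      (fun j => ?_) (IsUnit.of_mul_eq_one_right c (sub_eq_zero.1 (hγ W hW₁ _ ?_)))⟩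
    · rwa [FBlow.IdealSh.map_comp_apply] at ht
    · rw [← Ideal.res_r hW₁ (a j), hb, map_mul]
    · rw [sub_mul, one_mul, sub_eq_zero, mul_assoc, ← map_mul, ← hb, Ideal.res_r]
      exact hc
  · rintro ⟨V, hxV, hV⟩
    refine ⟨V, hxV, fun V' e => le_antisymm (fun s hs => ?_) ?_⟩
    · refine (Ideal.gens {a i}).mem_of_local fun y hy => ?_
      obtain ⟨W, e', hyW, hW⟩ := Ideal.exists_span_of_mem hs hy
      refine ⟨W, e', hyW, (_root_.Ideal.span_le.2 ?_) hW⟩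
      rintro _ ⟨_, ⟨j, rfl⟩, rfl⟩
      obtain ⟨d, hd⟩ := hV.2 j
      rw [SetLike.mem_coe, ← Ideal.res_r (e'.trans e) (a j), hd, map_mul, Ideal.res_r]
      exact _root_.Ideal.mul_mem_left _ _ (Ideal.r_mem_gens (Set.mem_singleton _) W)
    · refine Ideal.gens_le (fun z hz => ?_) V'
      rw [Set.mem_singleton_iff.1 hz]
      have := Ideal.r_mem_gens (Set.mem_range_self (f := a) i) ⊤
      rwa [show Ideal.r (⊤ : (𝔛.X 0).Opens) (a i) = a i from FBlow.IdealSh.map_id_apply _ _] at this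

end Groth.Agent.Lib.FBlowAff.Good
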