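import Groth.Agent.Lib.Lim.IdealExt
import Groth.Prelude.Def_FSch3

/-!
# Extending finite type ideals from finitely many affine opens (helper5)
-/

set_option autoImplicit false
set_option linter.style.haveILetI false

universe u

open CategoryTheory CategoryTheory.Limits TopologicalSpace Opposite AlgebraicGeometry
open Groth.Agent.Lib.Lim

namespace Groth.Agent.Lib.FBlowAff.IdealExtend

variable {X : Scheme.{u}} [QuasiSeparatedSpace X]

/-- Membership in the ideal of the closure of a closed subscheme of an affine open is local. -/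
theorem mem_ker_specQuot (V O : X.affineOpens) (L : _root_.Ideal Γ(X, V.1)) (t : Γ(X, O.1))
    (H : ∀ y, y ∈ O.1 → y ∈ V.1 → ∃ (O' : X.affineOpens) (hO : O'.1 ≤ O.1) (hV : O'.1 ≤ V.1), y ∈ O'.1 ∧
      X.presheaf.map (homOfLE hO).op t ∈ L.map (X.presheaf.map (homOfLE hV).op).hom) :
    t ∈ (IdealExt.specQuot V L).ker.ideal O := by
  have := IdealExt.quasiCompact_specQuot V L
  rw [Scheme.Hom.ker_apply, RingHom.mem_ker]
  apply (Spec (CommRingCat.of (Γ(X, V.1) ⧸ L))).IsSheaf.section_ext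
  intro p hp
  have hpV : IdealExt.specQuot V L p ∈ V.1 := (IdealExt.preimage_specQuot V L).ge (x := p) trivial
  obtain ⟨O', hO, hV, hy, hmem⟩ := H _ hp hpV
  refine ⟨IdealExt.specQuot V L ⁻¹ᵁ O'.1, fun q hq => hO hq, hy, ?_⟩
  have hK : L.map (X.presheaf.map (homOfLE hV).op).hom ≤
      RingHom.ker ((IdealExt.specQuot V L).app O'.1).hom := by
    rw [_root_.Ideal.map_le_iff_le_comap]
    intro z hz
    rw [← IdealExt.ker_app_specQuot V L, RingHom.mem_ker] at hz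
    rw [_root_.Ideal.mem_comap, RingHom.mem_ker]
    exact (IdealExt.app_res (IdealExt.specQuot V L) hV z).trans ((congrArg _ hz).trans (map_zero _))
  rw [map_zero]
  exact (IdealExt.app_res (IdealExt.specQuot V L) hO t).symm.trans (hK hmem)

theorem exists_affine_le {y : X} {A B : X.Opens} (hA : y ∈ A) (hB : y ∈ B) :
    ∃ O' : X.affineOpens, O'.1 ≤ A ∧ O'.1 ≤ B ∧ y ∈ O'.1 := by
  obtain ⟨O, hO, hy, hle⟩ := exists_isAffineOpen_mem_and_subset (U := A ⊓ B) (x := y) ⟨hA, hB⟩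
  exact ⟨⟨O, hO⟩, fun z hz => (hle hz).1, fun z hz => (hle hz).2, hy⟩

/-- Compatible finite type ideals on finitely many affine opens extend to a finite type ideal, trivial
outside their union, provided the opens outside in a compact neighbourhood are compact. -/
theorem exists_extension {ι : Type u} [Finite ι] (V : ι → X.affineOpens) (L : ∀ i, _root_.Ideal Γ(X, (V i).1))
    (hL : ∀ i, (L i).FG)
    (hcompat : ∀ i j, ∀ t ∈ L i, ∀ y, y ∈ (V i).1 → y ∈ (V j).1 → ∃ (O' : X.affineOpens)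
      (hi : O'.1 ≤ (V i).1) (hj : O'.1 ≤ (V j).1), y ∈ O'.1 ∧
      X.presheaf.map (homOfLE hi).op t ∈ (L j).map (X.presheaf.map (homOfLE hj).op).hom)
    (W : X.Opens) (hW : IsCompact (W : Set X)) (hVW : ∀ i, (V i).1 ≤ W)
    (hout : ∀ x, x ∉ W → ∃ O : X.Opens, x ∈ O ∧ ∀ i, O ⊓ (V i).1 = ⊥)
    (hcpt : ∀ O : X.Opens, O ≤ W → IsCompact (O : Set X)) :
    ∃ 𝒜 : X.IdealSheafData, FSch.IdealFT 𝒜 ∧ (∀ i, 𝒜.ideal (V i) = L i) ∧
      ∀ O : X.affineOpens, (∀ i, O.1 ⊓ (V i).1 = ⊥) → 𝒜.ideal O = ⊤ := by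
  classical
  have := Fintype.ofFinite ι
  let K : X.IdealSheafData := ⨅ i, (IdealExt.specQuot (V i) (L i)).ker
  have hKV : ∀ i, K.ideal (V i) = L i := fun i => by
    refine le_antisymm ?_ fun t ht => ?_
    · rw [← IdealExt.ker_specQuot_ideal (V i) (L i)]
      exact (show K ≤ (IdealExt.specQuot (V i) (L i)).ker from iInf_le _ i) (V i)
    · rw [Scheme.IdealSheafData.ideal_iInf, iInf_apply, Submodule.mem_iInf]
      exact fun j => mem_ker_specQuot (V j) (V i) (L j) t fun y hyi hyj => hcompat i j t ht y hyi hyj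
  have hKout : ∀ O : X.affineOpens, (∀ i, O.1 ⊓ (V i).1 = ⊥) → K.ideal O = ⊤ := fun O hO => by
    refine top_le_iff.1 fun t _ => ?_
    rw [Scheme.IdealSheafData.ideal_iInf, iInf_apply, Submodule.mem_iInf]
    exact fun j => mem_ker_specQuot (V j) O (L j) t fun y hyO hyj =>
      absurd (show y ∈ O.1 ⊓ (V j).1 from ⟨hyO, hyj⟩) (by rw [hO j]; exact id)
  let E : X.Opens := ⨆ O : {O : X.Opens // O ≤ W ∧ ∀ i, O ⊓ (V i).1 = ⊥}, O.1
  have hEW : E ≤ W := iSup_le fun O => O.2.1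
  have hEcov : (E : Set X) ⊆ ⋃ T : {T : X.affineOpens // T.1 ≤ W ∧ ∀ i, T.1 ⊓ (V i).1 = ⊥}, (T.1.1 : Set X) := by
    intro y hy
    obtain ⟨O, hyO⟩ := Opens.mem_iSup.1 hy
    obtain ⟨T, hTO, -, hyT⟩ := exists_affine_le (A := O.1) (B := O.1) hyO hyO
    exact Set.mem_iUnion.2 ⟨⟨T, hTO.trans O.2.1, fun i => eq_bot_iff.2 ((inf_le_inf_right _ hTO).trans (O.2.2 i).le)⟩, hyT⟩
  obtain ⟨T, hT⟩ := (hcpt E hEW).elim_finite_subcover
    (fun T : {T : X.affineOpens // T.1 ≤ W ∧ ∀ i, T.1 ⊓ (V i).1 = ⊥} => (T.1.1 : Set X)) (fun T => T.1.1.2) hEcov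
  have hWcov : (W : Set X) ⊆ ⋃ T : {T : X.affineOpens // T.1 ≤ W}, (T.1.1 : Set X) := by
    intro y hy
    obtain ⟨T, hTW, -, hyT⟩ := exists_affine_le (A := W) (B := W) hy hy
    exact Set.mem_iUnion.2 ⟨⟨T, hTW⟩, hyT⟩
  obtain ⟨S, hS⟩ := hW.elim_finite_subcover
    (fun T : {T : X.affineOpens // T.1 ≤ W} => (T.1.1 : Set X)) (fun T => T.1.1.2) hWcov
  let lV : List X.affineOpens := (Finset.univ.image V).toList
  let lT : List X.affineOpens := (T.image Subtype.val).toList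
  let lS : List X.affineOpens := (S.image Subtype.val).toList
  have hUs : ∀ U ∈ lV ++ lT, (K.ideal U).FG := fun U hU => by
    rcases List.mem_append.1 hU with hU | hU
    · obtain ⟨i, -, rfl⟩ := Finset.mem_image.1 (Finset.mem_toList.1 hU)
      rw [hKV]; exact hL i
    · obtain ⟨U', -, rfl⟩ := Finset.mem_image.1 (Finset.mem_toList.1 hU)
      rw [hKout U'.1 U'.2.2]; exact ⟨{1}, by simp⟩
  obtain ⟨K', -, hfg, heq⟩ := IdealExt.exists_fg_list K (lV ++ lT) hUs (lV ++ lT ++ lS)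
  let Vs : Finset X.affineOpens := (lV ++ lT ++ lS).toFinset
  let 𝒜 : X.IdealSheafData := ⨅ v : Vs, (IdealExt.specQuot v.1 (K'.ideal v.1)).ker
  have hmem : ∀ (O : X.affineOpens) (t : Γ(X, O.1)),
      (∀ v ∈ Vs, ∀ y, y ∈ O.1 → y ∈ v.1 → ∃ (O' : X.affineOpens) (hO : O'.1 ≤ O.1) (hv : O'.1 ≤ v.1),
        y ∈ O'.1 ∧ X.presheaf.map (homOfLE hO).op t ∈ (K'.ideal v).map (X.presheaf.map (homOfLE hv).op).hom) →
      t ∈ 𝒜.ideal O := fun O t H => by
    rw [Scheme.IdealSheafData.ideal_iInf, iInf_apply, Submodule.mem_iInf]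
    exact fun v => mem_ker_specQuot v.1 O _ t (H v.1 v.2)
  have hin : ∀ v ∈ Vs, 𝒜.ideal v = K'.ideal v := fun v hv => by
    refine le_antisymm ?_ fun t ht => hmem v t fun w _ y hyv hyw => ?_
    · rw [← IdealExt.ker_specQuot_ideal v (K'.ideal v)]
      exact (show 𝒜 ≤ _ from iInf_le _ (⟨v, hv⟩ : Vs)) v
    · obtain ⟨O', h1, h2, hy⟩ := exists_affine_le hyv hyw
      refine ⟨O', h1, h2, hy, ?_⟩
      erw [K'.map_ideal (U := O') (V := w) h2, ← K'.map_ideal (U := O') (V := v) h1]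
      exact _root_.Ideal.mem_map_of_mem _ ht
  have hlist : ∀ U ∈ lV ++ lT, U ∈ Vs := fun U hU => List.mem_toFinset.2 (List.mem_append_left _ hU)
  have houtside : ∀ O : X.affineOpens, (∀ i, O.1 ⊓ (V i).1 = ⊥) → 𝒜.ideal O = ⊤ := fun O hO => by
    refine top_le_iff.1 fun t _ => hmem O t fun v hv y hyO hyv => ?_
    have hvW : v.1 ≤ W := by
      rcases List.mem_append.1 (List.mem_toFinset.1 hv) with hv | hv
      · rcases List.mem_append.1 hv with hv | hv
        · obtain ⟨i, -, rfl⟩ := Finset.mem_image.1 (Finset.mem_toList.1 hv); exact hVW i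
        · obtain ⟨U', -, rfl⟩ := Finset.mem_image.1 (Finset.mem_toList.1 hv); exact U'.2.1
      · obtain ⟨U', -, rfl⟩ := Finset.mem_image.1 (Finset.mem_toList.1 hv); exact U'.2
    have hyE : y ∈ E := Opens.mem_iSup.2 ⟨⟨O.1 ⊓ v.1, inf_le_right.trans hvW,
      fun i => eq_bot_iff.2 ((inf_le_inf_right _ inf_le_left).trans (hO i).le)⟩, hyO, hyv⟩
    obtain ⟨T', hT', hyT'⟩ := Set.mem_iUnion₂.1 (hT hyE)
    obtain ⟨O', h1, h2, hy⟩ := exists_affine_le (A := O.1) (B := v.1 ⊓ T'.1.1) hyO ⟨hyv, hyT'⟩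
    refine ⟨O', h1, h2.trans inf_le_left, hy, ?_⟩
    have hU' : T'.1 ∈ lV ++ lT :=
      List.mem_append_right _ (Finset.mem_toList.2 (Finset.mem_image_of_mem _ hT'))
    erw [K'.map_ideal (U := O') (V := v) (h2.trans inf_le_left),
      ← K'.map_ideal (U := O') (V := T'.1) (h2.trans inf_le_right), heq _ hU', hKout T'.1 T'.2.2,
      _root_.Ideal.map_top]
    exact Submodule.mem_top
  refine ⟨𝒜, ?_, fun i => ?_, houtside⟩
  · let J := {O : X.affineOpens // (∀ i, O.1 ⊓ (V i).1 = ⊥) ∨ ∃ v ∈ Vs, O.1 ≤ v.1}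
    refine IdealExt.isFG_of_iSup_eq_top 𝒜 (fun O : J => O.1) (top_le_iff.1 fun y _ => ?_) fun O => ?_
    · by_cases hy : y ∈ W
      · obtain ⟨U', hU', hyU'⟩ := Set.mem_iUnion₂.1 (hS hy)
        exact Opens.mem_iSup.2 ⟨⟨U'.1, Or.inr ⟨U'.1, List.mem_toFinset.2 (List.mem_append_right _
          (Finset.mem_toList.2 (Finset.mem_image_of_mem _ hU'))), le_rfl⟩⟩, hyU'⟩
      · obtain ⟨O, hyO, hO⟩ := hout y hy
        obtain ⟨O', h1, -, hy'⟩ := exists_affine_le hyO hyO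
        exact Opens.mem_iSup.2 ⟨⟨O', Or.inl fun i => eq_bot_iff.2 ((inf_le_inf_right _ h1).trans (hO i).le)⟩, hy'⟩
    · rcases O.2 with hO | ⟨v, hv, hle⟩
      · rw [houtside O.1 hO]; exact ⟨{1}, by simp⟩
      · exact IdealExt.fg_of_le (U := O.1) (V := v) hle (by rw [hin v hv]; exact hfg v (List.mem_toFinset.1 hv))
  · have h1 : V i ∈ lV ++ lT :=
      List.mem_append_left _ (Finset.mem_toList.2 (Finset.mem_image_of_mem _ (Finset.mem_univ i)))
    rw [hin _ (hlist _ h1), heq _ h1, hKV]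

end Groth.Agent.Lib.FBlowAff.IdealExtend
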