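import Groth.Agent.Lib.FBlowAff.SpfIso
import Groth.Agent.Lib.FBlowAff.Compose

/-!
# Levels of affine opens inside the spectra of their functions (helper5)
-/

set_option autoImplicit false
set_option linter.style.haveILetI false

universe u

open CategoryTheory CategoryTheory.Limits TopologicalSpace Opposite AlgebraicGeometry
open Groth.Agent.H30

namespace Groth.Agent.Lib.FBlowAff.SigmaBase

/-- Functions on an open to functions on an open over it. -/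
noncomputable abbrev τ {𝔛 𝔜 : FSch.Sys.{u}} (hX : 𝔛.IsFormal) (hY : 𝔜.IsFormal) (g : 𝔜 ⟶ 𝔛)
    {U : (𝔛.X 0).Opens} {V : (𝔜.X 0).Opens} (e : V ≤ ((g : FSch.Hom 𝔜 𝔛).app 0) ⁻¹ᵁ U) :
    Levels.A 𝔛 hX U →+* Levels.A 𝔜 hY V :=
  ((𝔜.Osh hY).obj.map (homOfLE e).op).hom.comp ((FSch.Hom.sharp g hY hX).hom.app (op U)).hom

/-- The level of a restricted morphism. -/
noncomputable abbrev res {𝔛 𝔜 : FSch.Sys.{u}} (hX : 𝔛.IsFormal) (hY : 𝔜.IsFormal) (g : 𝔜 ⟶ 𝔛)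
    {U : (𝔛.X 0).Opens} {V : (𝔜.X 0).Opens} (e : V ≤ ((g : FSch.Hom 𝔜 𝔛).app 0) ⁻¹ᵁ U) (n : ℕ) :
    (𝔜.lvU hY n V).toScheme ⟶ (𝔛.lvU hX n U).toScheme :=
  ((g : FSch.Hom 𝔜 𝔛).app n).resLE (𝔛.lvU hX n U) (𝔜.lvU hY n V)
    ((Sigma.lvU_mono hY n e).trans (FSch.Hom.lvU_preimage g hY hX n U).ge)

variable {𝔛 𝔜 : FSch.Sys.{u}} (hX : 𝔛.IsFormal) (hY : 𝔜.IsFormal) (g : 𝔜 ⟶ 𝔛)
  {U : (𝔛.X 0).Opens} {V : (𝔜.X 0).Opens} (e : V ≤ ((g : FSch.Hom 𝔜 𝔛).app 0) ⁻¹ᵁ U)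

theorem σ_natural (n : ℕ) :
    res hX hY g e n ≫ Sigma.σ hX n U = Sigma.σ hY n V ≫ Spec.map (CommRingCat.ofHom (τ hX hY g e)) := by
  rw [Sigma.σ, Sigma.σ, ← Scheme.Opens.toSpecΓ_SpecMap_appLE_assoc, Category.assoc, ← Spec.map_comp,
    ← Spec.map_comp]
  congr 2
  ext a
  refine Eq.symm ?_
  show Levels.proj 𝔜 hY n V ((𝔜.Osh hY).obj.map (homOfLE e).op ((FSch.Hom.sharp g hY hX).hom.app (op U) a)) = _
  refine (Unit.proj_res hY n e _).trans ?_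
  rw [SchIdeal.proj_sharp hX hY g n U a]
  exact ConcreteCategory.congr_hom (Scheme.Hom.appLE_map ((g : FSch.Hom 𝔜 𝔛).app n)
    (FSch.Hom.lvU_preimage g hY hX n U).ge (homOfLE (Sigma.lvU_mono hY n e)).op) _

theorem closed_of_iso {X Y Z : Scheme.{u}} (f : X ⟶ Y) (g : Y ⟶ Z) [IsClosedImmersion g] (hf : IsIso f)
    (k : X ⟶ Z) (e : k = f ≫ g) : IsClosedImmersion k ∧ k.ker = g.ker := by
  subst e
  exact ⟨inferInstance, Scheme.Hom.ker_comp_of_isIso f g⟩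

variable {R : Type u} [CommRing R] (I : _root_.Ideal R) (hI : I.FG)

include hI in
theorem σ_spec (p : 𝔛 ⟶ FSch.spf R I) (hp : FSch.IsAdicHom p) (hU : IsAffineOpen U) (n : ℕ) :
    IsClosedImmersion (Sigma.σ hX n U) ∧ (Sigma.σ hX n U).ker =
      FSch.idealSpec (Levels.A 𝔛 hX U) (SpfIso.J I hX p U) ^ (n + 1) := by
  obtain ⟨ε, hε⟩ := SpfIso.exists_iso I hX p hp hI hU
  let f : (𝔛.restrictOpen hX U).X n ⟶ Spec (CommRingCat.of (Levels.A 𝔛 hX U ⧸ SpfIso.J I hX p U ^ (n + 1))) :=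
    (ε.hom : FSch.Hom _ _).app n
  have hf : IsIso f :=
    ⟨(ε.inv : FSch.Hom _ _).app n,
      congrArg (fun φ : 𝔛.restrictOpen hX U ⟶ 𝔛.restrictOpen hX U => (φ : FSch.Hom _ _).app n) ε.hom_inv_id,
      congrArg (fun φ : FSch.spf (Levels.A 𝔛 hX U) (SpfIso.J I hX p U) ⟶ FSch.spf (Levels.A 𝔛 hX U) (SpfIso.J I hX p U) =>
        (φ : FSch.Hom _ _).app n) ε.inv_hom_id⟩
  have := IdealLemmas.isClosedImmersion_specQuot (Levels.A 𝔛 hX U) (SpfIso.J I hX p U) n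
  have e1 : Sigma.σ hX n U = f ≫ CohB1.specQuot (SpfIso.J I hX p U) n := (hε n).symm
  obtain ⟨h1, h2⟩ := closed_of_iso f (CohB1.specQuot (SpfIso.J I hX p U) n) hf _ e1
  exact ⟨h1, h2.trans (IdealLemmas.ker_specQuot (Levels.A 𝔛 hX U) (SpfIso.J I hX p U) n)⟩

theorem map_J (p : 𝔛 ⟶ FSch.spf R I) :
    (SpfIso.J I hX p U).map (τ hX hY g e) = SpfIso.J I hY (g ≫ p) V := by
  rw [SpfIso.J, SpfIso.J, _root_.Ideal.map_map]
  congr 1
  exact RingHom.ext fun a => (Compose.const_comp I hX hY g p U e a).symm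

include hI in
theorem isPullback_σ (p : 𝔛 ⟶ FSch.spf R I) (hp : FSch.IsAdicHom p) (hg : FSch.IsAdicHom (g ≫ p))
    (hU : IsAffineOpen U) (hV : IsAffineOpen V) (n : ℕ) :
    IsPullback (Sigma.σ hY n V) (res hX hY g e n) (Spec.map (CommRingCat.ofHom (τ hX hY g e)))
      (Sigma.σ hX n U) := by
  obtain ⟨hciU, hkU⟩ := σ_spec hX I hI p hp hU n
  obtain ⟨hciV, hkV⟩ := σ_spec hY I hI (g ≫ p) hg hV n
  refine isPullback_of_isClosedImmersion _ _ _ _ (σ_natural hX hY g e n).symm ?_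
  rw [hkU, hkV, Groth.Agent.Lib.Ideal.Comap.comap_pow]
  congr 1
  exact (IdealLemmas.comap_idealSpec (Levels.A 𝔜 hY V) (Levels.A 𝔛 hX U) _ _).trans
    (congrArg _ (map_J hX hY g e I p))

end Groth.Agent.Lib.FBlowAff.SigmaBase
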