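import Groth.Agent.Lib.FBlowAff.FormalExtend
import Groth.Agent.Lib.FBlowAff.MulInv
import Groth.Agent.Lib.FBlowAff.SigmaBase
import Groth.Agent.Lib.Lim.IdealExt

/-!
# Locally generated ideals: products, inverse images, levels (helper5)
-/

set_option autoImplicit false
set_option linter.style.haveILetI false

universe u

open CategoryTheory CategoryTheory.Limits TopologicalSpace Opposite AlgebraicGeometry
open Groth.Agent.H30

namespace Groth.Agent.Lib.FBlowAff.IdealLevel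

variable {𝔛 : FSch.Sys.{u}} (h : 𝔛.IsFormal)

/-- Near `y` a section lies in the ideal generated by functions on `U`. -/
def Near (U : (𝔛.X 0).Opens) (𝔠 : _root_.Ideal (Levels.A 𝔛 h U)) (V : (𝔛.X 0).Opens) (y : 𝔛.X 0)
    (t : Levels.A 𝔛 h V) : Prop :=
  ∃ (W : (𝔛.X 0).Opens) (e : W ≤ V) (e' : W ≤ U), y ∈ W ∧ CohLocal.res h e t ∈ 𝔠.map (CohLocal.res h e')

variable {h}

theorem res_mem {U : (𝔛.X 0).Opens} {𝔠 : _root_.Ideal (Levels.A 𝔛 h U)} {A B C : (𝔛.X 0).Opens} (i : B ≤ A)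
    (j : C ≤ B) (t : Levels.A 𝔛 h A) (eB : B ≤ U)
    (ht : CohLocal.res h i t ∈ 𝔠.map (CohLocal.res h eB)) :
    CohLocal.res h (j.trans i) t ∈ 𝔠.map (CohLocal.res h (j.trans eB)) := by
  have := _root_.Ideal.mem_map_of_mem (CohLocal.res h j) ht
  rw [_root_.Ideal.map_map, show (CohLocal.res h j).comp (CohLocal.res h eB) = CohLocal.res h (j.trans eB) from
    RingHom.ext fun a => FBlow.IdealSh.map_comp_apply eB j a] at this
  exact (congrArg (· ∈ _) (FBlow.IdealSh.map_comp_apply i j t)).mp this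

theorem near_span {U V : (𝔛.X 0).Opens} {𝔠 : _root_.Ideal (Levels.A 𝔛 h U)} (hV : V ≤ U) {y : 𝔛.X 0} (hy : y ∈ V)
    {S : Set (Levels.A 𝔛 h V)} (hS : ∀ t ∈ S, Near h U 𝔠 V y t) {t : Levels.A 𝔛 h V}
    (ht : t ∈ _root_.Ideal.span S) : Near h U 𝔠 V y t := by
  refine Submodule.span_induction (p := fun t _ => Near h U 𝔠 V y t) hS
    ⟨V, le_rfl, hV, hy, by rw [map_zero]; exact zero_mem _⟩ ?_ ?_ ht
  · rintro a b _ _ ⟨W₁, e₁, e₁', hy₁, h₁⟩ ⟨W₂, e₂, e₂', hy₂, h₂⟩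
    refine ⟨W₁ ⊓ W₂, inf_le_left.trans e₁, inf_le_left.trans e₁', ⟨hy₁, hy₂⟩, ?_⟩
    rw [map_add]
    exact add_mem (res_mem e₁ inf_le_left a e₁' h₁) (res_mem e₂ inf_le_right b e₂' h₂)
  · rintro c a _ ⟨W, e, e', hyW, hW⟩
    refine ⟨W, e, e', hyW, ?_⟩
    rw [smul_eq_mul, map_mul]
    exact _root_.Ideal.mul_mem_left _ _ hW

/-- Generation by functions for a generated ideal sheaf. -/
theorem hgen_gen (S : ∀ W : (𝔛.X 0).Opens, Set (Levels.A 𝔛 h W)) {U : (𝔛.X 0).Opens}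
    {𝔠 : _root_.Ideal (Levels.A 𝔛 h U)} (h1 : ∀ a ∈ 𝔠, a ∈ (FBlow.IdealSh.gen (O := 𝔛.Osh h) S).sect U)
    (h2 : ∀ (V W : (𝔛.X 0).Opens), V ≤ U → ∀ (j : V ≤ W), ∀ t ∈ S W, ∀ y ∈ V,
      Near h U 𝔠 V y (CohLocal.res h j t)) :
    CohLocal.HGen h (FBlow.IdealSh.gen (O := 𝔛.Osh h) S) U 𝔠 := by
  refine ⟨h1, fun V hV s hs y hy => ?_⟩
  obtain ⟨V₁, e₁, hy₁, hs₁⟩ := hs y hy
  obtain ⟨W, e, e', hyW, hW⟩ := near_span (e₁.trans hV) hy₁
    (S := FBlow.IdealSh.seed S V₁) (fun t ht => by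
      obtain ⟨W', j', t', ht', rfl⟩ := ht
      exact h2 V₁ W' (e₁.trans hV) j' t' ht' y hy₁) hs₁
  exact ⟨W, e.trans e₁, e', hyW, (congrArg (· ∈ _) (FBlow.IdealSh.map_comp_apply e₁ e s)).mp hW⟩

theorem hgen_mul {J K : FBlow.IdealSh (𝔛.Osh h)} {U : (𝔛.X 0).Opens} {𝔞 𝔟 : _root_.Ideal (Levels.A 𝔛 h U)}
    (hJ : CohLocal.HGen h J U 𝔞) (hK : CohLocal.HGen h K U 𝔟) :
    CohLocal.HGen h (FBlow.IdealSh.mul J K) U (𝔞 * 𝔟) := by
  refine hgen_gen _ (fun a ha => ?_) fun V W hV j t ht y hy => ?_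
  · exact Submodule.mul_induction_on ha (fun x hx z hz => MulInv.mem_mul (hJ.1 x hx) (hK.1 z hz))
      fun x z hx hz => add_mem hx hz
  · obtain ⟨a, ha, b, hb, rfl⟩ := ht
    obtain ⟨W₁, e₁, e₁', hy₁, h₁⟩ := hJ.2 V hV _ (J.map_mem j ha) y hy
    obtain ⟨W₂, e₂, e₂', hy₂, h₂⟩ := hK.2 V hV _ (K.map_mem j hb) y hy
    refine ⟨W₁ ⊓ W₂, inf_le_left.trans e₁, inf_le_left.trans e₁', ⟨hy₁, hy₂⟩, ?_⟩
    rw [map_mul, map_mul, _root_.Ideal.map_mul]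
    exact _root_.Ideal.mul_mem_mul (res_mem e₁ inf_le_left _ e₁' h₁) (res_mem e₂ inf_le_right _ e₂' h₂)

theorem hgen_idealMap {𝔜 : FSch.Sys.{u}} (hY : 𝔜.IsFormal) (g : 𝔜 ⟶ 𝔛) {K : FBlow.IdealSh (𝔛.Osh h)}
    {U : (𝔛.X 0).Opens} {𝔞 : _root_.Ideal (Levels.A 𝔛 h U)} (hgen : CohLocal.HGen h K U 𝔞)
    {U' : (𝔜.X 0).Opens} (hU' : U' ≤ ((g : FSch.Hom 𝔜 𝔛).app 0) ⁻¹ᵁ U) :
    CohLocal.HGen hY (FBlow.idealMap g hY h K) U' (𝔞.map (SigmaBase.τ h hY g hU')) := by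
  refine hgen_gen _ (fun a ha => ?_) fun V W hV j t ht y hy => ?_
  · refine (show 𝔞.map (SigmaBase.τ h hY g hU') ≤ (FBlow.idealMap g hY h K).sect U' from
      _root_.Ideal.map_le_iff_le_comap.2 fun c hc => ?_) ha
    exact FBlow.IdealSh.image_mem_map _ _ K (hgen.1 c hc) (V := U') hU'
  · obtain ⟨W₀, j₀, a, ha, rfl⟩ := ht
    obtain ⟨W₁, d, d', hyW₁, hW₁⟩ := hgen.2 (W₀ ⊓ U) inf_le_right _ (K.map_mem inf_le_left ha)
      (((g : FSch.Hom 𝔜 𝔛).app 0).base y) ⟨j₀ (j hy), hU' (hV hy)⟩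
    let W' := V ⊓ ((g : FSch.Hom 𝔜 𝔛).app 0) ⁻¹ᵁ W₁
    refine ⟨W', inf_le_left, inf_le_left.trans hV, ⟨hy, hyW₁⟩, ?_⟩
    let τ₁ := SigmaBase.τ h hY g (inf_le_right : W' ≤ ((g : FSch.Hom 𝔜 𝔛).app 0) ⁻¹ᵁ W₁)
    have h2 := _root_.Ideal.mem_map_of_mem τ₁ hW₁
    rw [_root_.Ideal.map_map, show τ₁.comp (CohLocal.res h d') =
      (CohLocal.res hY ((inf_le_left : W' ≤ V).trans hV)).comp (SigmaBase.τ h hY g hU') from RingHom.ext fun c => by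
        show (𝔜.Osh hY).obj.map (homOfLE _).op ((FSch.Hom.sharp g hY h).hom.app (op W₁)
          ((𝔛.Osh h).obj.map (homOfLE d').op c)) = (𝔜.Osh hY).obj.map (homOfLE _).op
          ((𝔜.Osh hY).obj.map (homOfLE hU').op ((FSch.Hom.sharp g hY h).hom.app (op U) c))
        refine (congrArg _ (SchIdeal.res_sharp h hY g d' c)).trans ?_
        exact (FBlow.IdealSh.map_comp_apply (Scheme.Hom.preimage_mono _ d') inf_le_right _).trans
          (FBlow.IdealSh.map_comp_apply hU' ((inf_le_left : W' ≤ V).trans hV) _).symm,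
      ← _root_.Ideal.map_map] at h2
    refine (congrArg (· ∈ _) ?_).mp h2
    show (𝔜.Osh hY).obj.map (homOfLE _).op ((FSch.Hom.sharp g hY h).hom.app (op W₁)
        ((𝔛.Osh h).obj.map (homOfLE d).op ((𝔛.Osh h).obj.map (homOfLE inf_le_left).op a))) =
      (𝔜.Osh hY).obj.map (homOfLE _).op ((𝔜.Osh hY).obj.map (homOfLE j).op
        ((𝔜.Osh hY).obj.map (homOfLE j₀).op ((FSch.Hom.sharp g hY h).hom.app (op W₀) a)))
    rw [FBlow.IdealSh.map_comp_apply inf_le_left d a]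
    refine (congrArg _ (SchIdeal.res_sharp h hY g (d.trans inf_le_left) a)).trans ?_
    refine (FBlow.IdealSh.map_comp_apply (Scheme.Hom.preimage_mono _ (d.trans inf_le_left)) inf_le_right _).trans ?_
    exact ((FBlow.IdealSh.map_comp_apply j inf_le_left _).trans
      (FBlow.IdealSh.map_comp_apply j₀ (inf_le_left.trans j) _)).symm

/-- The `(N+1)`-st power of an ideal sheaf. -/
noncomputable def pw (J : FBlow.IdealSh (𝔛.Osh h)) : ℕ → FBlow.IdealSh (𝔛.Osh h)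
  | 0 => J
  | N + 1 => FBlow.IdealSh.mul J (pw J N)

theorem hgen_pw {J : FBlow.IdealSh (𝔛.Osh h)} {U : (𝔛.X 0).Opens} {𝔞 : _root_.Ideal (Levels.A 𝔛 h U)}
    (hJ : CohLocal.HGen h J U 𝔞) : ∀ N, CohLocal.HGen h (pw J N) U (𝔞 ^ (N + 1))
  | 0 => by rw [zero_add, pow_one]; exact hJ
  | N + 1 => by rw [pow_succ']; exact hgen_mul hJ (hgen_pw hJ N)

theorem idealMap_pw {𝔜 : FSch.Sys.{u}} (hY : 𝔜.IsFormal) (g : 𝔜 ⟶ 𝔛) (J : FBlow.IdealSh (𝔛.Osh h)) :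
    ∀ N, FBlow.idealMap g hY h (pw J N) = pw (FBlow.idealMap g hY h J) N
  | 0 => rfl
  | N + 1 => by
    show FBlow.idealMap g hY h (FBlow.IdealSh.mul J (pw J N)) = _
    rw [MulInv.idealMap_mul, idealMap_pw hY g J N]
    rfl

theorem isInvertible_pw {J : FBlow.IdealSh (𝔛.Osh h)} (hJ : J.IsInvertible) : ∀ N, (pw J N).IsInvertible
  | 0 => hJ
  | N + 1 => MulInv.isInvertible_mul hJ (isInvertible_pw hJ N)

variable {R : Type u} [CommRing R] (I : _root_.Ideal R) (p : 𝔛 ⟶ FSch.spf R I)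

theorem map_const_le {U U' : (𝔛.X 0).Opens} (e : U' ≤ U) {k : ℕ} {𝔞 : _root_.Ideal (Levels.A 𝔛 h U)}
    (hk : I.map (AdmLocal.const I h p U) ^ k ≤ 𝔞) :
    I.map (AdmLocal.const I h p U') ^ k ≤ 𝔞.map (CohLocal.res h e) := by
  rw [show AdmLocal.const I h p U' = (CohLocal.res h e).comp (AdmLocal.const I h p U) from
    RingHom.ext fun a => (AdmLocal.const_res I h p e a).symm, ← _root_.Ideal.map_map, ← _root_.Ideal.map_pow]
  exact _root_.Ideal.map_mono hk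

theorem hgen_res {J : FBlow.IdealSh (𝔛.Osh h)} {U U' : (𝔛.X 0).Opens} {𝔞 : _root_.Ideal (Levels.A 𝔛 h U)}
    (hgen : CohLocal.HGen h J U 𝔞) (e : U' ≤ U) : CohLocal.HGen h J U' (𝔞.map (CohLocal.res h e)) := by
  refine ⟨fun a ha => (_root_.Ideal.map_le_iff_le_comap.2 fun c hc => J.map_mem e (hgen.1 c hc)) ha,
    fun V hV s hs y hy => ?_⟩
  obtain ⟨W, d, d', hyW, hW⟩ := hgen.2 V (hV.trans e) s hs y hy
  refine ⟨W, d, d.trans hV, hyW, ?_⟩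
  rw [_root_.Ideal.map_map]
  rwa [show (CohLocal.res h (d.trans hV)).comp (CohLocal.res h e) = CohLocal.res h d' from
    RingHom.ext fun c => FBlow.IdealSh.map_comp_apply e (d.trans hV) c]

theorem locGen_mul {J K : FBlow.IdealSh (𝔛.Osh h)} (hJ : CohLocal.LocGen h I p J) (hK : CohLocal.LocGen h I p K) :
    CohLocal.LocGen h I p (FBlow.IdealSh.mul J K) := by
  intro x
  obtain ⟨U₁, k₁, 𝔞, hx₁, -, hfg₁, hle₁, hg₁⟩ := hJ x
  obtain ⟨U₂, k₂, 𝔟, hx₂, -, hfg₂, hle₂, hg₂⟩ := hK x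
  obtain ⟨U, hU, hxU, hUle⟩ := exists_isAffineOpen_mem_and_subset (U := U₁ ⊓ U₂) (x := x) ⟨hx₁, hx₂⟩
  have e₁ : U ≤ U₁ := fun z hz => (hUle hz).1
  have e₂ : U ≤ U₂ := fun z hz => (hUle hz).2
  exact ⟨U, k₁ + k₂, 𝔞.map (CohLocal.res h e₁) * 𝔟.map (CohLocal.res h e₂), hxU, hU,
    (hfg₁.map _).mul (hfg₂.map _), by
      rw [pow_add]; exact _root_.Ideal.mul_mono (map_const_le I p e₁ hle₁) (map_const_le I p e₂ hle₂),
    hgen_mul (hgen_res hg₁ e₁) (hgen_res hg₂ e₂)⟩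

theorem locGen_pw {J : FBlow.IdealSh (𝔛.Osh h)} (hJ : CohLocal.LocGen h I p J) :
    ∀ N, CohLocal.LocGen h I p (pw J N)
  | 0 => hJ
  | N + 1 => locGen_mul I p hJ (locGen_pw hJ N)

theorem eq_of_local {J₁ J₂ : FBlow.IdealSh (𝔛.Osh h)}
    (H : ∀ x : 𝔛.X 0, ∃ U : (𝔛.X 0).Opens, x ∈ U ∧ ∀ V : (𝔛.X 0).Opens, V ≤ U → J₁.sect V ≤ J₂.sect V) :
    J₁ ≤ J₂ := fun V s hs => J₂.mem_of_local fun y hy => by
  obtain ⟨U, hyU, hle⟩ := H y
  exact ⟨V ⊓ U, inf_le_left, ⟨hy, hyU⟩, hle _ inf_le_right (J₁.map_mem inf_le_left hs)⟩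

/-- Membership in ideal data on an affine open is local. -/
theorem mem_ideal_of_memData {X : Scheme.{u}} (𝒬 : X.IdealSheafData) (O : X.affineOpens) {t : Γ(X, O.1)}
    (ht : FBlow.MemData 𝒬 O.1 t) : t ∈ 𝒬.ideal O := by
  rw [← 𝒬.ker_subschemeι_app O, RingHom.mem_ker]
  apply 𝒬.subscheme.IsSheaf.section_ext
  intro q hq
  obtain ⟨O', i, hy, hmem⟩ := ht _ hq
  refine ⟨𝒬.subschemeι ⁻¹ᵁ O'.1, fun z hz => i hz, hy, ?_⟩
  rw [← 𝒬.ker_subschemeι_app O', RingHom.mem_ker] at hmem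
  rw [map_zero]
  exact (Lim.IdealExt.app_res 𝒬.subschemeι i t).symm.trans hmem

theorem fg_comap (hp : FSch.IsAdicHom p) (hI : I.FG) (m : ℕ) {U : (𝔛.X 0).Opens} (hU : IsAffineOpen U)
    {K : _root_.Ideal (Levels.B 𝔛 h m U)} (hK : K.FG) :
    (K.comap (Levels.proj 𝔛 h m U).hom).FG ∧
      I.map (AdmLocal.const I h p U) ^ (m + 1) ≤ K.comap (Levels.proj 𝔛 h m U).hom := by
  classical
  obtain ⟨-, hsk⟩ := AdmLocal.spec I h p hp hI hU
  let π := (Levels.proj 𝔛 h m U).hom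
  have hle : I.map (AdmLocal.const I h p U) ^ (m + 1) ≤ K.comap π := by
    rw [← (hsk m).2]
    exact _root_.Ideal.ker_le_comap π
  refine ⟨?_, hle⟩
  obtain ⟨S, rfl⟩ := hK
  choose lift hlift using (hsk m).1
  have e : (_root_.Ideal.span (lift '' (S : Set _))).map π = _root_.Ideal.span (S : Set _) := by
    rw [_root_.Ideal.map_span, Set.image_image]
    congr 1
    exact (Set.image_congr fun b _ => hlift b).trans (Set.image_id' _)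
  rw [← e, _root_.Ideal.comap_map_of_surjective π (hsk m).1, ← RingHom.ker_eq_comap_bot, (hsk m).2]
  exact Submodule.FG.sup ⟨S.image lift, by rw [Finset.coe_image]⟩ (hI.map _).pow

theorem locGen_ofLevel (hp : FSch.IsAdicHom p) (hI : I.FG) (m : ℕ) (𝒜 : (𝔛.X m).IdealSheafData)
    (hft : FSch.IdealFT 𝒜) : CohLocal.LocGen h I p (FBlow.ofLevel 𝔛 h m 𝒜) := fun x => by
  obtain ⟨U, hU, hxU, -⟩ := exists_isAffineOpen_mem_and_subset (U := ⊤) (x := x) trivial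
  obtain ⟨hfg, hle⟩ := fg_comap I p hp hI m hU (hft ⟨_, OshBasic.isAffineOpen_lvU 𝔛 h m hU⟩)
  exact ⟨U, m + 1, _, hxU, hU, hfg, hle, FormalExtend.hgen_ofLevel h I p hp hI m 𝒜 hU⟩

/-- A locally generated ideal on a quasi-compact space comes from a level. -/
theorem exists_level (hR : AdicRing.IsBase R I) (hp : FSch.IsAdicHom p)
    (hft : LocallyOfFiniteType ((p : FSch.Hom _ _).app 0)) [QuasiSeparatedSpace (𝔛.X 0)] [CompactSpace (𝔛.X 0)]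
    {K : FBlow.IdealSh (𝔛.Osh h)} (hK : CohLocal.LocGen h I p K) :
    ∃ (m : ℕ) (𝒬 : (𝔛.X m).IdealSheafData), FSch.IdealFT 𝒬 ∧ K = FBlow.ofLevel 𝔛 h m 𝒬 := by
  classical
  choose U k 𝔞 hxU hU hfg hle hgen using hK
  obtain ⟨s, hs⟩ := isCompact_univ.elim_finite_subcover (fun x => (U x : Set (𝔛.X 0))) (fun x => (U x).2)
    fun x _ => Set.mem_iUnion.2 ⟨x, hxU x⟩
  obtain ⟨𝒬, hft𝒬, hgen', -⟩ := FormalExtend.exists_extension h I p hR hp hft (fun x : s => U x.1)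
    (fun x => hU x.1) (s.sup k) (fun x => 𝔞 x.1) (fun x => hfg x.1)
    (fun x => (_root_.Ideal.pow_le_pow_right ((Finset.le_sup x.2).trans (Nat.le_succ _))).trans (hle x.1))
    (FormalExtend.compat_of_hgen h K _ _ fun x => hgen x.1) ⊤ CompactSpace.isCompact_univ (fun _ => le_top)
    fun y hy => absurd trivial hy
  refine ⟨s.sup k, 𝒬, hft𝒬, Ideal.ext_of_le (eq_of_local fun x => ?_) (eq_of_local fun x => ?_)⟩
  all_goals obtain ⟨x', hx', hxx'⟩ := Set.mem_iUnion₂.1 (hs (Set.mem_univ x))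
  · exact ⟨U x', hxx', FormalExtend.eq_of_hgen h (hgen x') (hgen' ⟨x', hx'⟩)⟩
  · exact ⟨U x', hxx', FormalExtend.eq_of_hgen h (hgen' ⟨x', hx'⟩) (hgen x')⟩

end Groth.Agent.Lib.FBlowAff.IdealLevel
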