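import Groth.Agent.Lib.FBlowAff.Spf
import Groth.Agent.Lib.Adic.Bosch.Blow

/-!
# A finite extension inside the generic fibre as an admissible formal blowing-up (helper5)
-/

set_option autoImplicit false
set_option linter.style.haveILetI false

universe u

open CategoryTheory CategoryTheory.Limits TopologicalSpace Opposite AlgebraicGeometry
open Groth.Agent.H30
open scoped TensorProduct

namespace Groth.Agent.Lib.FBlowAff.Integral

section Sheaf

variable {T : TopCat.{u}} {O : Sheaf (Opens.grothendieckTopology T) CommRingCat.{u}}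
  {A : Type u} [CommRing A] (ψ : A →+* O.obj.obj (op (⊤ : Opens T)))

/-- If the integral equations of the quotients hold and the ideal is invertible, the first
generator is regular and generates. -/
theorem regular_and_dvd {n : ℕ} (c : A) (g : Fin n → A)
    (hinv : (Ideal.gens (ψ '' insert c (Set.range g))).IsInvertible)
    (hint : ∀ i, ∃ p : Polynomial A, p.Monic ∧ (p.scaleRoots c).eval (g i) = 0) :
    Ideal.Regular (ψ c) ∧ ∀ i, ∃ d, ψ (g i) = d * ψ c := by
  let a : Fin (n + 1) → O.obj.obj (op (⊤ : Opens T)) := ψ ∘ Fin.cons c g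
  have ha : ψ '' insert c (Set.range g) = Set.range a := by
    rw [Set.range_comp, Fin.range_cons]
  have hloc : ∀ x : T, ∃ (V : Opens T) (_ : x ∈ V), (∀ (W : Opens T) (_ : W ≤ V) (t : O.obj.obj (op W)),
      t * Ideal.r W (ψ c) = 0 → t = 0) ∧ ∀ i, ∃ d, Ideal.r V (ψ (g i)) = d * Ideal.r V (ψ c) := by
    intro x
    obtain ⟨V, hxV, γ, b, w, hγ, hb, hsum⟩ := Ideal.exists_factor a (ha ▸ hinv) x
    have hγ' : ∀ (m : ℕ) (z : O.obj.obj (op V)), z * γ ^ m = 0 → z = 0 := by
      intro m
      induction m with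
      | zero => intro z hz; rwa [pow_zero, mul_one] at hz
      | succ m ih =>
        intro z hz
        rw [pow_succ, ← mul_assoc] at hz
        exact ih z (hγ V le_rfl _ (by rwa [FBlow.IdealSh.map_id_apply]))
    let χ : A →+* O.obj.obj (op V) := (Ideal.r V).comp ψ
    have h0 : χ c = b 0 * γ := hb 0
    have hi : ∀ i : Fin n, χ (g i) = b i.succ * γ := fun i => by
      rw [← hb i.succ]
      simp [a, χ]
    have hrad : ∀ j, b j ∈ (_root_.Ideal.span {b 0}).radical := by
      refine Fin.cases (_root_.Ideal.le_radical (_root_.Ideal.mem_span_singleton_self _)) fun i => ?_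
      obtain ⟨p, hp, hp0⟩ := hint i
      refine ⟨p.natDegree, ?_⟩
      have h1 : (p.scaleRoots c).eval₂ χ (χ (g i)) = 0 := by
        rw [Polynomial.eval₂_at_apply, hp0, map_zero]
      rw [Polynomial.eval₂_eq_sum_range, Polynomial.natDegree_scaleRoots] at h1
      have h2 : (∑ j ∈ Finset.range (p.natDegree + 1),
          χ (p.coeff j) * b 0 ^ (p.natDegree - j) * b i.succ ^ j) * γ ^ p.natDegree = 0 := by
        rw [Finset.sum_mul]
        refine Eq.trans (Finset.sum_congr rfl fun j hj => ?_) h1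
        have hj' : j ≤ p.natDegree := Nat.lt_succ_iff.1 (Finset.mem_range.1 hj)
        rw [Polynomial.coeff_scaleRoots, map_mul, map_pow, h0, hi, mul_pow, mul_pow]
        conv_lhs => rw [← Nat.sub_add_cancel hj', pow_add]
        rw [Nat.sub_add_cancel hj']
        ring
      have h3 := hγ' _ _ h2
      rw [Finset.sum_range_succ, Nat.sub_self, pow_zero, mul_one, hp.coeff_natDegree, map_one,
        one_mul, add_eq_zero_iff_neg_eq] at h3
      rw [← h3]
      refine neg_mem (Submodule.sum_mem _ fun j hj => _root_.Ideal.mul_mem_right _ _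
        (_root_.Ideal.mul_mem_left _ _ (_root_.Ideal.pow_mem_of_mem _
          (_root_.Ideal.mem_span_singleton_self _) _ ?_)))
      exact Nat.sub_pos_of_lt (Finset.mem_range.1 hj)
    have h1 : (1 : O.obj.obj (op V)) ∈ (_root_.Ideal.span {b 0}).radical :=
      hsum ▸ Submodule.sum_mem _ fun j _ => _root_.Ideal.mul_mem_left _ _ (hrad j)
    rw [← _root_.Ideal.eq_top_iff_one, _root_.Ideal.radical_eq_top,
      _root_.Ideal.span_singleton_eq_top] at h1
    obtain ⟨v, hv⟩ := h1.exists_left_inv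
    refine ⟨V, hxV, fun W j t ht => ?_, fun i => ⟨b i.succ * v, ?_⟩⟩
    · have e : Ideal.r W (ψ c) = O.obj.map (homOfLE j).op (b 0) * O.obj.map (homOfLE j).op γ := by
        rw [← map_mul, ← h0]
        exact (Ideal.res_r j (ψ c)).symm
      rw [e, ← mul_assoc] at ht
      have h2 := hγ W j _ ht
      have hu : IsUnit (O.obj.map (homOfLE j).op (b 0)) := h1.map (O.obj.map (homOfLE j).op).hom
      exact hu.mul_left_eq_zero.1 h2
    · show χ (g i) = _ * χ c
      rw [hi, h0, mul_assoc, ← mul_assoc v, hv, one_mul]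
  have hreg : Ideal.Regular (ψ c) := fun U t ht => by
    choose V hxV hV hd using hloc
    refine (Submodule.mem_bot _).1 ((FBlow.IdealSh.bot O).mem_of_local fun x hx => ?_)
    refine ⟨U ⊓ V x, inf_le_left, ⟨hx, hxV x⟩, (Submodule.mem_bot _).2 (hV x _ inf_le_right _ ?_)⟩
    rw [← Ideal.res_r (inf_le_left : U ⊓ V x ≤ U) (ψ c), ← map_mul, ht, map_zero]
  refine ⟨hreg, fun i => ?_⟩
  obtain ⟨d, hd⟩ := Ideal.exists_mul_of_local hreg (U := ⊤) (ψ (g i)) fun x _ => by
    obtain ⟨V, hxV, -, hd⟩ := hloc x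
    obtain ⟨d, hd⟩ := hd i
    exact ⟨V, le_top, d, hxV, hd⟩
  exact ⟨d, hd.trans (congrArg _ (FBlow.IdealSh.map_id_apply _ _))⟩

end Sheaf

section Main

open Groth.Agent.Lib.Adic.Bosch

theorem eval_scaleRoots_eq_zero {A K : Type u} [CommRing A] [CommRing K] [Algebra A K]
    (hinj : Function.Injective (algebraMap A K)) {p : Polynomial A} {x : K}
    (hp : p.eval₂ (algebraMap A K) x = 0) {c a : A} (ha : algebraMap A K a = algebraMap A K c * x) :
    (p.scaleRoots c).eval a = 0 := by
  refine hinj ?_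
  rw [map_zero, ← Polynomial.eval₂_at_apply, ha]
  exact Polynomial.scaleRoots_eval₂_eq_zero _ hp


/-- Adjoining quotients `g i / cA` satisfying monic equations is an admissible blowing-up. -/
theorem isAdmBlowUp_of {A A' : Type u} [CommRing A] [CommRing A'] (I : _root_.Ideal A) (I' : _root_.Ideal A')
    (ι : A →+* A') (hle : I ≤ I'.comap ι) (hII : I.map ι = I') (hinj : Function.Injective ι)
    {n : ℕ} (cA : A) (g : Fin n → A) (F : Fin n → A')
    (hgF : ∀ i, ι (g i) = F i * ι cA)
    (hgen : ∀ x, x ∈ Subring.closure (Set.range ι ∪ Set.range F))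
    (hshift : ∃ e : ℕ, ∀ (N : ℕ) (x : A'), ι cA * x ∈ I' ^ (N + e) → x ∈ I' ^ N)
    (hint : ∀ i, ∃ p : Polynomial A, p.Monic ∧ (p.scaleRoots cA).eval (g i) = 0)
    (hX : (FSch.spf A I).IsFormal) (h' : (FSch.spf A' I').IsFormal) :
    FBlow.IsAdmBlowUp (FSch.spfMap I' I ι hle) h' hX
      (FBlow.schIdealMap (FSch.spf A I) hX (FSch.spfToSpec A I) (FSch.spfToSpec_comm A I)
        (FBlow.IdealSh.ofData (FSch.idealSpec A (_root_.Ideal.span (insert cA (Set.range g)))))) := by
  classical
  let cA' := ι cA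
  have hιc : ι cA = cA' := rfl
  refine ⟨Groth.Agent.H30.Spf.isAdicHom_spfMap_of_map_eq I' I ι hle hII, ?_, ?_⟩
  · rw [SchIdeal.idealMap_spec]
    have hψ : SchIdeal.φq h' _ (SchIdeal.comp_comm (FSch.spfMap I' I ι hle)
        (fun n => FSch.spfToSpec A I n) (FSch.spfToSpec_comm A I)) = (Spf.φ I' h').comp ι :=
      Spf.ψOf_spfMap I' h' I ι hle
    rw [hψ]
    have hS : Ideal.gens ((Spf.φ I' h').comp ι '' insert cA (Set.range g)) =
        Ideal.gens {Spf.φ I' h' cA'} := by
      refine Ideal.gens_eq_singleton_of_dvd ⟨cA, Set.mem_insert _ _, rfl⟩ ?_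
      rintro _ ⟨x, hx, rfl⟩
      rcases hx with rfl | ⟨i, rfl⟩
      · exact ⟨1, by rw [one_mul]; exact rfl⟩
      · exact ⟨Spf.φ I' h' (F i), by rw [← map_mul, ← hgF]; rfl⟩
    rw [hS]
    exact Ideal.isInvertible_gens_singleton (Spf.regular_φ I' h' hshift)
  · intro 𝔜 hY b _ hinv
    rw [SchIdeal.idealMap_spec] at hinv
    let ψ := Spf.ψOf hY I b
    obtain ⟨hreg, hdvd⟩ := regular_and_dvd ψ cA g hinv hint
    let P : A' → Levels.A 𝔜 hY ⊤ → Prop := fun x d =>
      ∃ (N : ℕ) (a : A), ι a = cA' ^ N * x ∧ ψ a = ψ cA ^ N * d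
    have hpow : ∀ (N : ℕ) (d : Levels.A 𝔜 hY ⊤), ψ cA ^ N * d = 0 → d = 0 := by
      intro N
      induction N with
      | zero => intro d hd; rwa [pow_zero, one_mul] at hd
      | succ N ih =>
        intro d hd
        rw [pow_succ, mul_assoc] at hd
        refine hreg ⊤ d ?_
        rw [mul_comm, show Ideal.r (⊤ : (𝔜.X 0).Opens) (ψ cA) = ψ cA from FBlow.IdealSh.map_id_apply _ _]
        exact ih _ hd
    have huniq : ∀ x d d', P x d → P x d' → d = d' := by
      rintro x d d' ⟨N, a, ha, hd⟩ ⟨M, a', ha', hd'⟩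
      have h1 : cA ^ M * a = cA ^ N * a' := hinj (by
        rw [map_mul, map_mul, map_pow, map_pow, hιc, ha, ha', mul_left_comm])
      have h2 := congrArg ψ h1
      rw [map_mul, map_mul, map_pow, map_pow, hd, hd', ← mul_assoc, ← mul_assoc, ← pow_add,
        ← pow_add, add_comm N M, ← sub_eq_zero, ← mul_sub] at h2
      exact sub_eq_zero.1 (hpow _ _ h2)
    have halg : ∀ a, P (ι a) (ψ a) := fun a => ⟨0, a, by rw [pow_zero, one_mul], by rw [pow_zero, one_mul]⟩
    have hadd : ∀ x y d d', P x d → P y d' → P (x + y) (d + d') := by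
      rintro x y d d' ⟨N, a, ha, hd⟩ ⟨M, a', ha', hd'⟩
      refine ⟨N + M, cA ^ M * a + cA ^ N * a', ?_, ?_⟩
      · rw [map_add, map_mul, map_mul, map_pow, map_pow, hιc, ha, ha']; ring
      · rw [map_add, map_mul, map_mul, map_pow, map_pow, hd, hd']; ring
    have hmul : ∀ x y d d', P x d → P y d' → P (x * y) (d * d') := by
      rintro x y d d' ⟨N, a, ha, hd⟩ ⟨M, a', ha', hd'⟩
      refine ⟨N + M, a * a', ?_, ?_⟩
      · rw [map_mul, ha, ha']; ring
      · rw [map_mul, hd, hd']; ring
    have hex : ∀ x : A', ∃ d, P x d := by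
      intro x
      have hx := hgen x
      induction hx using Subring.closure_induction with
      | mem z hz =>
        rcases hz with ⟨a, rfl⟩ | ⟨i, rfl⟩
        · exact ⟨ψ a, halg a⟩
        · obtain ⟨d, hd⟩ := hdvd i
          exact ⟨d, 1, g i, by rw [pow_one, mul_comm]; exact hgF i, by rw [pow_one, mul_comm]; exact hd⟩
      | zero => exact ⟨0, by simpa using halg 0⟩
      | one => exact ⟨1, by simpa using halg 1⟩
      | add x y hx hy ihx ihy =>
        obtain ⟨d, hd⟩ := ihx
        obtain ⟨d', hd'⟩ := ihy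
        exact ⟨d + d', hadd _ _ _ _ hd hd'⟩
      | neg x hx ihx =>
        obtain ⟨d, hd⟩ := ihx
        refine ⟨ψ (-1) * d, ?_⟩
        simpa using hmul _ _ _ _ (halg (-1)) hd
      | mul x y hx hy ihx ihy =>
        obtain ⟨d, hd⟩ := ihx
        obtain ⟨d', hd'⟩ := ihy
        exact ⟨d * d', hmul _ _ _ _ hd hd'⟩
    choose h hh using hex
    let hh' : A' →+* Levels.A 𝔜 hY ⊤ :=
      { toFun := h
        map_one' := huniq _ _ _ (hh 1) (by simpa using halg 1)
        map_mul' := fun x y => huniq _ _ _ (hh _) (hmul _ _ _ _ (hh x) (hh y))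
        map_zero' := huniq _ _ _ (hh 0) (by simpa using halg 0)
        map_add' := fun x y => huniq _ _ _ (hh _) (hadd _ _ _ _ (hh x) (hh y)) }
    have hι : hh'.comp ι = ψ := RingHom.ext fun a => huniq _ _ _ (hh (ι a)) (halg a)
    obtain ⟨k, hk⟩ := Spf.exists_ψOf_eq hY I' hh' fun m x hx => by
      rw [← hII, ← _root_.Ideal.map_pow] at hx
      refine Submodule.span_induction (p := fun x _ => Levels.proj 𝔜 hY m ⊤ (hh' x) = 0) ?_ (by simp)
        (fun x y _ _ hx hy => by rw [map_add, map_add, hx, hy, add_zero])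
        (fun r x _ hx => by rw [smul_eq_mul, map_mul, map_mul, hx, mul_zero]) hx
      rintro _ ⟨a, ha, rfl⟩
      rw [show hh' (ι a) = ψ a from RingHom.congr_fun hι a]
      exact Spf.proj_ψOf_eq_zero hY I b ha
    refine ⟨k, Spf.ψOf_injective hY I ?_, fun k' hk' => Spf.ψOf_injective hY I' ?_⟩
    · rw [Spf.ψOf_comp_spfMap, hk, hι]
    · have e : (Spf.ψOf hY I' k').comp ι = ψ := by
        rw [← Spf.ψOf_comp_spfMap hY I' I ι hle k', hk']
      refine RingHom.ext fun x => ?_
      rw [hk]
      refine huniq _ _ _ ?_ (hh x)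
      obtain ⟨N, a, ha, -⟩ := hh x
      refine ⟨N, a, ha, ?_⟩
      rw [← RingHom.congr_fun e a, RingHom.comp_apply, ha, map_mul, map_pow, ← hιc,
        ← RingHom.comp_apply (Spf.ψOf hY I' k') ι cA, e]


theorem isAdmBlowUp' {R : Type u} [CommRing R] (t : R)
    (A : Type u) [CommRing A] [Algebra R A] {K : Type u} [CommRing K] [Algebra A K] [Algebra R K]
    [IsScalarTower R A K] (hinjK : Function.Injective (algebraMap A K)) {n : ℕ} {f : Fin n → K}
    (hf : ∀ i, IsIntegral A (f i)) (c : R) (hdvd : ∃ (m : ℕ) (d : R), d * c = t ^ m)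
    (hcreg : ∀ x : ↥(Algebra.adjoin A (Set.range f)), algebraMap R _ c * x = 0 → x = 0)
    (g : Fin n → A) (hg : ∀ i, algebraMap A K (g i) = c • f i)
    (hX : (FSch.spf A ((_root_.Ideal.span {t}).map (algebraMap R A))).IsFormal)
    (h' : (FSch.spf ↥(Algebra.adjoin A (Set.range f))
      ((_root_.Ideal.span {t}).map (algebraMap R ↥(Algebra.adjoin A (Set.range f))))).IsFormal)
    (hle : ((_root_.Ideal.span {t}).map (algebraMap R A)) ≤
      ((_root_.Ideal.span {t}).map (algebraMap R ↥(Algebra.adjoin A (Set.range f)))).comap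
        (algebraMap A ↥(Algebra.adjoin A (Set.range f)))) :
    FBlow.IsAdmBlowUp (FSch.spfMap ((_root_.Ideal.span {t}).map (algebraMap R ↥(Algebra.adjoin A (Set.range f))))
      ((_root_.Ideal.span {t}).map (algebraMap R A)) (algebraMap A ↥(Algebra.adjoin A (Set.range f))) hle) h' hX
      (FBlow.schIdealMap (FSch.spf A ((_root_.Ideal.span {t}).map (algebraMap R A))) hX
        (FSch.spfToSpec A ((_root_.Ideal.span {t}).map (algebraMap R A)))
        (FSch.spfToSpec_comm A ((_root_.Ideal.span {t}).map (algebraMap R A)))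
        (FBlow.IdealSh.ofData (FSch.idealSpec A
          (_root_.Ideal.span (insert (algebraMap R A c) (Set.range g)))))) := by
  classical
  let A' := ↥(Algebra.adjoin A (Set.range f))
  let I := (_root_.Ideal.span {t}).map (algebraMap R A)
  let I' := (_root_.Ideal.span {t}).map (algebraMap R A')
  let ι := algebraMap A A'
  have hII : I.map ι = I' := by
    show ((_root_.Ideal.span {t}).map (algebraMap R A)).map (algebraMap A A') = (_root_.Ideal.span {t}).map (algebraMap R A')
    rw [_root_.Ideal.map_map, ← IsScalarTower.algebraMap_eq]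
  let cA : A := algebraMap R A c
  let cA' : A' := algebraMap R A' c
  have hιc : ι cA = cA' := (IsScalarTower.algebraMap_apply R A A' c).symm
  let F : Fin n → A' := fun i => ⟨f i, Algebra.subset_adjoin (Set.mem_range_self i)⟩
  have hgF : ∀ i, ι (g i) = F i * cA' := fun i => Subtype.ext (by
    rw [MulMemClass.coe_mul, mul_comm]
    exact (hg i).trans (Algebra.smul_def c (f i)))
  have hshift : ∃ e : ℕ, ∀ (N : ℕ) (x : A'), cA' * x ∈ I' ^ (N + e) → x ∈ I' ^ N := by
    obtain ⟨m, d, hd⟩ := hdvd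
    refine ⟨m, fun N x hx => ?_⟩
    simp only [I'] at hx ⊢
    rw [_root_.Ideal.map_span, Set.image_singleton, _root_.Ideal.span_singleton_pow,
      _root_.Ideal.mem_span_singleton'] at hx ⊢
    obtain ⟨y, hy⟩ := hx
    refine ⟨algebraMap R A' d * y, sub_eq_zero.1 (hcreg _ ?_)⟩
    rw [pow_add, ← map_pow (algebraMap R A') t m, ← hd, map_mul] at hy
    linear_combination hy
  refine isAdmBlowUp_of I I' ι hle hII (fun a b h => hinjK (congrArg Subtype.val h))
    cA g F (fun i => by rw [hgF, hιc]) ?_ (by rw [hιc]; exact hshift) (fun i => ?_) hX h'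
  · rintro ⟨x, hx⟩
    induction hx using Algebra.adjoin_induction with
    | mem z hz =>
      obtain ⟨i, rfl⟩ := hz
      exact Subring.subset_closure (Or.inr ⟨i, rfl⟩)
    | algebraMap a => exact Subring.subset_closure (Or.inl ⟨a, rfl⟩)
    | add x y hx hy ihx ihy => exact add_mem ihx ihy
    | mul x y hx hy ihx ihy => exact mul_mem ihx ihy
  · obtain ⟨p, hp, hp0⟩ := hf i
    refine ⟨p, hp, eval_scaleRoots_eq_zero hinjK hp0 ?_⟩
    rw [hg, Algebra.smul_def, IsScalarTower.algebraMap_apply R A K]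

theorem isAdmBlowUp {R : Type u} [CommRing R] [IsDomain R] [ValuationRing R] [Ring.KrullDimLE 1 R]
    (t : R) [IsAdicComplete (_root_.Ideal.span {t}) R]
    (A : Type u) [CommRing A] [Algebra R A] (hA : AdicRing.Admissible R (_root_.Ideal.span {t}) A)
    {n : ℕ} {f : Fin n → A ⊗[R] FractionRing R}
    (hA' : AdicRing.Admissible R (_root_.Ideal.span {t}) ↥(Algebra.adjoin A (Set.range f)))
    (hf : ∀ i, IsIntegral A (f i))
    (c : R) (hc : c ≠ 0) (g : Fin n → A)
    (hg : ∀ i, algebraMap A (A ⊗[R] FractionRing R) (g i) = c • f i)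
    (hX : (FSch.spf A ((_root_.Ideal.span {t}).map (algebraMap R A))).IsFormal)
    (h' : (FSch.spf ↥(Algebra.adjoin A (Set.range f))
      ((_root_.Ideal.span {t}).map (algebraMap R ↥(Algebra.adjoin A (Set.range f))))).IsFormal)
    (hle : ((_root_.Ideal.span {t}).map (algebraMap R A)) ≤
      ((_root_.Ideal.span {t}).map (algebraMap R ↥(Algebra.adjoin A (Set.range f)))).comap
        (algebraMap A ↥(Algebra.adjoin A (Set.range f)))) :
    FBlow.IsAdmBlowUp (FSch.spfMap ((_root_.Ideal.span {t}).map (algebraMap R ↥(Algebra.adjoin A (Set.range f))))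
      ((_root_.Ideal.span {t}).map (algebraMap R A)) (algebraMap A ↥(Algebra.adjoin A (Set.range f))) hle) h' hX
      (FBlow.schIdealMap (FSch.spf A ((_root_.Ideal.span {t}).map (algebraMap R A))) hX
        (FSch.spfToSpec A ((_root_.Ideal.span {t}).map (algebraMap R A)))
        (FSch.spfToSpec_comm A ((_root_.Ideal.span {t}).map (algebraMap R A)))
        (FBlow.IdealSh.ofData (FSch.idealSpec A
          (_root_.Ideal.span (insert (algebraMap R A c) (Set.range g)))))) := by
  refine isAdmBlowUp' t A (Blow.injective_generic hA.2) hf c ?_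
    (fun x hx => Blow.regular_of_ne_zero hA'.2 hc hx) g hg hX h' hle
  obtain ⟨m, hm⟩ := IdealFG.exists_pow_mem (a := t) Groth.Agent.Lib.Adic.Valuation.mem_maximalIdeal hc
  exact ⟨m, _root_.Ideal.mem_span_singleton'.1 hm⟩

end Main

end Groth.Agent.Lib.FBlowAff.Integral
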