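import Groth.Agent.Lib.FBlowAff.SpfIso
import Groth.Agent.Lib.FBlowAff.Completion
import Groth.Agent.Lib.FBlowAff.Compose
import Groth.Agent.Lib.BlowUpExists.Exists

/-!
# Admissible formal blowing-ups over small affine opens (helper5)
-/

set_option autoImplicit false
set_option linter.style.haveILetI false

universe u

open CategoryTheory CategoryTheory.Limits TopologicalSpace Opposite AlgebraicGeometry
open Groth.Agent.H30

namespace Groth.Agent.Lib.FBlowAff.LocalBlow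

variable {𝔛 : FSch.Sys.{u}} (h : 𝔛.IsFormal) (J : FBlow.IdealSh (𝔛.Osh h))

/-- A blowing-up of the part of `𝔛` over `U`, seen over `𝔛`. -/
structure IsBlowOn (U : (𝔛.X 0).Opens) {𝔅 : FSch.Sys.{u}} (hB : 𝔅.IsFormal) (c : 𝔅 ⟶ 𝔛) : Prop where
  adic : FSch.IsAdicHom c
  inv : (FBlow.idealMap c hB h J).IsInvertible
  mem : ∀ z, ((c : FSch.Hom 𝔅 𝔛).app 0).base z ∈ U
  univ : ∀ (𝔜 : FSch.Sys.{u}) (hY : 𝔜.IsFormal) (g : 𝔜 ⟶ 𝔛), FSch.IsAdicHom g →
    (FBlow.idealMap g hY h J).IsInvertible → (∀ z, ((g : FSch.Hom 𝔜 𝔛).app 0).base z ∈ U) →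
    ∃! k : 𝔜 ⟶ 𝔅, k ≫ c = g

variable {h J}

theorem mem_of_comp {𝔜 𝔅 : FSch.Sys.{u}} {c : 𝔅 ⟶ 𝔛} {k : 𝔜 ⟶ 𝔅} {g : 𝔜 ⟶ 𝔛} (e : k ≫ c = g)
    (z : 𝔜.X 0) : ((c : FSch.Hom 𝔅 𝔛).app 0).base (((k : FSch.Hom 𝔜 𝔅).app 0).base z) =
      ((g : FSch.Hom 𝔜 𝔛).app 0).base z := by
  subst e
  rfl

/-- The part over a smaller open. -/
theorem restrict {U V : (𝔛.X 0).Opens} (hVU : V ≤ U) {𝔅 : FSch.Sys.{u}} {hB : 𝔅.IsFormal} {c : 𝔅 ⟶ 𝔛}
    (hc : IsBlowOn h J U hB c) :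
    IsBlowOn h J V (Restrict.isFormal 𝔅 hB (((c : FSch.Hom 𝔅 𝔛).app 0) ⁻¹ᵁ V))
      (𝔅.restrictOpenι hB (((c : FSch.Hom 𝔅 𝔛).app 0) ⁻¹ᵁ V) ≫ c) := by
  let W := ((c : FSch.Hom 𝔅 𝔛).app 0) ⁻¹ᵁ V
  refine ⟨Transport.isAdicHom_comp (Restrict.isAdicHom_ι 𝔅 hB W) hc.adic, ?_,
    fun z => Transport.ι_mem hB W z, fun 𝔜 hY g hg hgJ hgV => ?_⟩
  · rw [← Transport.idealMap_comp h hB (Restrict.isFormal 𝔅 hB W) (𝔅.restrictOpenι hB W) c J]
    exact Transport.isInvertible_restrict hB W hc.inv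
  · obtain ⟨k, hk, huk⟩ := hc.univ 𝔜 hY g hg hgJ fun z => hVU (hgV z)
    obtain ⟨v, hv⟩ := Transport.exists_factor_restrict hB W k hY fun z => by
      show ((c : FSch.Hom 𝔅 𝔛).app 0).base _ ∈ V
      rw [mem_of_comp hk]
      exact hgV z
    refine ⟨v, show v ≫ _ ≫ c = g by rw [← Category.assoc, hv, hk], fun v' hv' => ?_⟩
    refine Transport.ι_mono hB W ?_
    rw [hv]
    exact huk _ (show (v' ≫ _) ≫ c = g by rw [Category.assoc]; exact hv')

/-- Two blowing-ups over one open are isomorphic over `𝔛`. -/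
theorem exists_iso {U : (𝔛.X 0).Opens} {𝔅 𝔅' : FSch.Sys.{u}} {hB : 𝔅.IsFormal} {hB' : 𝔅'.IsFormal}
    {c : 𝔅 ⟶ 𝔛} {c' : 𝔅' ⟶ 𝔛} (hc : IsBlowOn h J U hB c) (hc' : IsBlowOn h J U hB' c') :
    ∃ e : 𝔅 ≅ 𝔅', e.hom ≫ c' = c := by
  obtain ⟨f, hf, -⟩ := hc'.univ 𝔅 hB c hc.adic hc.inv hc.mem
  obtain ⟨g, hg, -⟩ := hc.univ 𝔅' hB' c' hc'.adic hc'.inv hc'.mem
  exact ⟨⟨f, g, (hc.univ 𝔅 hB c hc.adic hc.inv hc.mem).unique
      (show (f ≫ g) ≫ c = c by rw [Category.assoc, hg, hf]) (Category.id_comp c),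
    (hc'.univ 𝔅' hB' c' hc'.adic hc'.inv hc'.mem).unique
      (show (g ≫ f) ≫ c' = c' by rw [Category.assoc, hf, hg]) (Category.id_comp c')⟩, hf⟩

/-- Over a smaller open the comparison is an open immersion on the preimage. -/
theorem exists_openImm {U V : (𝔛.X 0).Opens} (hVU : V ≤ U) {𝔅 𝔅' : FSch.Sys.{u}} {hB : 𝔅.IsFormal}
    {hB' : 𝔅'.IsFormal} {c : 𝔅 ⟶ 𝔛} {c' : 𝔅' ⟶ 𝔛} (hc : IsBlowOn h J U hB c)
    (hc' : IsBlowOn h J V hB' c') (k : 𝔅' ⟶ 𝔅) (hk : k ≫ c = c') (n : ℕ) :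
    IsOpenImmersion ((k : FSch.Hom 𝔅' 𝔅).app n) ∧
      Set.range ((k : FSch.Hom 𝔅' 𝔅).app n).base =
        (((c : FSch.Hom 𝔅 𝔛).app n) ⁻¹ᵁ 𝔛.lvU h n V : Set (𝔅.X n)) := by
  let W := ((c : FSch.Hom 𝔅 𝔛).app 0) ⁻¹ᵁ V
  obtain ⟨e, he⟩ := exists_iso hc' (restrict hVU hc)
  have hke : k = e.hom ≫ 𝔅.restrictOpenι hB W :=
    (hc.univ 𝔅' hB' c' hc'.adic hc'.inv fun z => hVU (hc'.mem z)).unique hk
      (show (e.hom ≫ _) ≫ c = c' by rw [Category.assoc]; exact he)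
  have : IsIso ((e.hom : FSch.Hom _ _).app n) :=
    ⟨(e.inv : FSch.Hom _ _).app n, congrArg (fun φ : 𝔅' ⟶ 𝔅' => (φ : FSch.Hom _ _).app n) e.hom_inv_id,
      congrArg (fun φ : 𝔅.restrictOpen hB W ⟶ 𝔅.restrictOpen hB W => (φ : FSch.Hom _ _).app n) e.inv_hom_id⟩
  have happ : (k : FSch.Hom 𝔅' 𝔅).app n =
      (e.hom : FSch.Hom _ _).app n ≫ (𝔅.restrictOpenι hB W : FSch.Hom _ _).app n := by
    rw [hke]; rfl
  have : IsOpenImmersion ((𝔅.restrictOpenι hB W : FSch.Hom _ _).app n) :=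
    inferInstanceAs (IsOpenImmersion (𝔅.lvU hB n W).ι)
  have : IsOpenImmersion ((e.hom : FSch.Hom _ _).app n) := inferInstance
  rw [happ]
  refine ⟨inferInstance, ?_⟩
  rw [Scheme.Hom.comp_base, TopCat.coe_comp, Set.range_comp,
    Function.Surjective.range_eq ((e.hom : FSch.Hom _ _).app n).surjective, Set.image_univ]
  exact (Scheme.Opens.range_ι (𝔅.lvU hB n W)).trans
    (congrArg (fun O : (𝔅.X n).Opens => (O : Set (𝔅.X n))) (FSch.Hom.lvU_preimage c hB h n V).symm)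

theorem exists_spf_completion_iso (A : Type u) [CommRing A] (𝔍 : _root_.Ideal A) :
    ∃ ε : FSch.spf A 𝔍 ≅ FSch.completionAlong (Spec (CommRingCat.of A)) (FSch.idealSpec A 𝔍),
      ∀ n, (ε.hom : FSch.Hom _ _).app n ≫
        FSch.completionToX (Spec (CommRingCat.of A)) (FSch.idealSpec A 𝔍) n = CohB1.specQuot 𝔍 n := by
  let K := FSch.idealSpec A 𝔍
  let q := fun n => FSch.completionToX (Spec (CommRingCat.of A)) K n
  let s := fun n => CohB1.specQuot 𝔍 n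
  have := fun n => IdealLemmas.isClosedImmersion_specQuot A 𝔍 n
  have hker : ∀ n, (q n).ker = (s n).ker := fun n => by
    rw [IdealLemmas.ker_completionToX, IdealLemmas.ker_specQuot]
  have hiso : ∀ n, IsIso (IsClosedImmersion.lift (q n) (s n) (hker n).le) := fun n =>
    IsClosedImmersion.isIso_lift (q n) (s n) (hker n)
  let app : ∀ n, (FSch.spf A 𝔍).X n ≅ (FSch.completionAlong (Spec (CommRingCat.of A)) K).X n :=
    fun n => @asIso _ _ _ _ (IsClosedImmersion.lift (q n) (s n) (hker n).le) (hiso n)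
  have happ : ∀ n, (app n).hom ≫ q n = s n := fun n => IsClosedImmersion.lift_fac _ _ _
  have hcomm : ∀ n, (app n).hom ≫ (FSch.completionAlong (Spec (CommRingCat.of A)) K).ι n =
      (FSch.spf A 𝔍).ι n ≫ (app (n + 1)).hom := fun n => by
    refine (cancel_mono (q (n + 1))).1 ?_
    exact ((Category.assoc _ _ _).trans ((congrArg ((app n).hom ≫ ·)
      (IdealLemmas.completionToX_comp (Spec (CommRingCat.of A)) K n)).trans (happ n))).trans
      (((Category.assoc _ _ _).trans ((congrArg ((FSch.spf A 𝔍).ι n ≫ ·) (happ (n + 1))).trans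
        (CohB1.specQuotTrans_specQuot 𝔍 n))).symm)
  let f : FSch.spf A 𝔍 ⟶ FSch.completionAlong (Spec (CommRingCat.of A)) K :=
    ⟨fun n => (app n).hom, hcomm⟩
  let g : FSch.completionAlong (Spec (CommRingCat.of A)) K ⟶ FSch.spf A 𝔍 :=
    ⟨fun n => (app n).inv, fun n => by rw [Iso.inv_comp_eq, ← Category.assoc, Iso.eq_comp_inv, hcomm]⟩
  exact ⟨⟨f, g, FSch.Hom.ext (funext fun n => (app n).hom_inv_id),
    FSch.Hom.ext (funext fun n => (app n).inv_hom_id)⟩, happ⟩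

section Exists

variable {R : Type u} [CommRing R] (I : _root_.Ideal R) (p : 𝔛 ⟶ FSch.spf R I)

theorem exists_completion_iso (hp : FSch.IsAdicHom p) (hI : I.FG) {U : (𝔛.X 0).Opens} (hU : IsAffineOpen U)
    (hC : (FSch.completionAlong (Spec (CommRingCat.of (Levels.A 𝔛 h U)))
      (FSch.idealSpec (Levels.A 𝔛 h U) (SpfIso.J I h p U))).IsFormal) :
    ∃ ε : 𝔛.restrictOpen h U ≅ FSch.completionAlong (Spec (CommRingCat.of (Levels.A 𝔛 h U)))
        (FSch.idealSpec (Levels.A 𝔛 h U) (SpfIso.J I h p U)),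
      ∀ n, (ε.hom : FSch.Hom _ _).app n ≫
        FSch.completionToX (Spec (CommRingCat.of (Levels.A 𝔛 h U)))
          (FSch.idealSpec (Levels.A 𝔛 h U) (SpfIso.J I h p U)) n = SpfIso.fam h U n := by
  obtain ⟨e, he⟩ := SpfIso.exists_iso I h p hp hI hU
  obtain ⟨ε, hε⟩ := exists_spf_completion_iso (Levels.A 𝔛 h U) (SpfIso.J I h p U)
  refine ⟨e ≪≫ ε, fun n => ?_⟩
  exact (Category.assoc _ _ _).trans ((congrArg (_ ≫ ·) (hε n)).trans (he n))

/-- The blowing-up over a small affine open. -/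
theorem exists_isBlowOn (hp : FSch.IsAdicHom p) (hI : I.FG) {U : (𝔛.X 0).Opens} (hU : IsAffineOpen U)
    {k : ℕ} {𝔞 : _root_.Ideal (Levels.A 𝔛 h U)} (hle : I.map (AdmLocal.const I h p U) ^ k ≤ 𝔞)
    (hgen : CohLocal.HGen h J U 𝔞) :
    ∃ (𝔅 : FSch.Sys.{u}) (hB : 𝔅.IsFormal) (c : 𝔅 ⟶ 𝔛), IsBlowOn h J U hB c := by
  let A := Levels.A 𝔛 h U
  let K := FSch.idealSpec A (SpfIso.J I h p U)
  obtain ⟨P, q, hq⟩ := Groth.Agent.Lib.BlowUpExists.exists_isBlowUp (Spec (CommRingCat.of A)) (FSch.idealSpec A 𝔞)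
  have hC : (FSch.completionAlong (Spec (CommRingCat.of A)) K).IsFormal :=
    IdealLemmas.isFormal_of_levels _ K (FSch.completionToX (Spec (CommRingCat.of A)) K)
      (IdealLemmas.completionToX_comp _ K) (IdealLemmas.ker_completionToX _ K)
  have hP : (FSch.completionAlong P (K.comap q)).IsFormal :=
    IdealLemmas.isFormal_of_levels _ (K.comap q) (FSch.completionToX P (K.comap q))
      (IdealLemmas.completionToX_comp _ _) (IdealLemmas.ker_completionToX _ _)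
  have hpc : FSch.PowCompat q (K.comap q) K := fun n => (Groth.Agent.Lib.Ideal.Comap.comap_pow q K (n + 1)).le
  obtain ⟨hadic, hinv, huniv⟩ := Completion.isAdmBlowUp (SpfIso.J I h p U) 𝔞 hle q hq hpc hC hP
  obtain ⟨ε, hε⟩ := exists_completion_iso I p hp hI hU hC
  have hW := Restrict.isFormal 𝔛 h U
  have hX' := SpfIso.idealMap_eq h hC ε.hom (FSch.completionToX _ K)
    (IdealLemmas.completionToX_comp _ K) hε J 𝔞 hgen
  let b := FSch.completionMap q (K.comap q) K hpc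
  refine ⟨_, hP, (b ≫ ε.inv) ≫ 𝔛.restrictOpenι h U, ?_, ?_, fun z => Transport.ι_mem h U _, ?_⟩
  · exact Transport.isAdicHom_comp (Transport.isAdicHom_comp hadic (Transport.isAdicHom_of_isIso ε.symm))
      (Restrict.isAdicHom_ι 𝔛 h U)
  · rw [← Transport.idealMap_comp h hW hP (b ≫ ε.inv) (𝔛.restrictOpenι h U) J, ← hX',
      Transport.idealMap_comp hC hW hP (b ≫ ε.inv) ε.hom, Category.assoc, ε.inv_hom_id, Category.comp_id]
    exact hinv
  · intro 𝔜 hY g hg hgJ hgU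
    obtain ⟨v, hv⟩ := Transport.exists_factor_restrict h U g hY hgU
    have hvadic : FSch.IsAdicHom v := Compose.isAdicHom_of_comp (hv.symm ▸ hg) (Restrict.isAdicHom_ι 𝔛 h U)
    obtain ⟨k', hk', huk'⟩ := huniv 𝔜 hY (v ≫ ε.hom)
      (Transport.isAdicHom_comp hvadic (Transport.isAdicHom_of_isIso ε)) (by
        rw [← Transport.idealMap_comp hC hW hY v ε.hom, hX',
          Transport.idealMap_comp h hW hY v (𝔛.restrictOpenι h U) J, hv]
        exact hgJ)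
    refine ⟨k', show k' ≫ (b ≫ ε.inv) ≫ _ = g by
      rw [Category.assoc, ← Category.assoc, hk', Category.assoc, ε.hom_inv_id_assoc, hv],
      fun k'' hk'' => huk' k'' ?_⟩
    have h1 : k'' ≫ b ≫ ε.inv = v := Transport.ι_mono h U (by rw [hv, ← hk'', Category.assoc])
    show k'' ≫ b = v ≫ ε.hom
    rw [← h1, Category.assoc, Category.assoc, ε.inv_hom_id, Category.comp_id]

end Exists

end Groth.Agent.Lib.FBlowAff.LocalBlow
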