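import Groth.Agent.Lib.FBlowAff.CohLocal
import Groth.Agent.Lib.FBlowAff.Transport

/-!
# An affine open of an admissible formal scheme is a formal spectrum (helper5)
-/

set_option autoImplicit false
set_option linter.style.haveILetI false

universe u

open CategoryTheory CategoryTheory.Limits TopologicalSpace Opposite AlgebraicGeometry
open Groth.Agent.H30

namespace Groth.Agent.Lib.FBlowAff.SpfIso

variable {R : Type u} [CommRing R] (I : _root_.Ideal R) {𝔛 : FSch.Sys.{u}} (h : 𝔛.IsFormal)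
  (p : 𝔛 ⟶ FSch.spf R I) (U : (𝔛.X 0).Opens)

/-- The restricted level over the spectrum of the functions on the open. -/
noncomputable abbrev fam (n : ℕ) : (𝔛.restrictOpen h U).X n ⟶ Spec (CommRingCat.of (Levels.A 𝔛 h U)) :=
  Sigma.σ h n U

theorem fam_comm (n : ℕ) : (𝔛.restrictOpen h U).ι n ≫ fam h U (n + 1) = fam h U n := Sigma.σ_ι h n U

theorem appTop_σ (n : ℕ) (a : Levels.A 𝔛 h U) :
    (fam h U n).appTop ((Scheme.ΓSpecIso (CommRingCat.of (Levels.A 𝔛 h U))).inv a) =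
      (𝔛.lvU h n U).topIso.inv (Levels.proj 𝔛 h n U a) := by
  have e : (Scheme.ΓSpecIso (Levels.A 𝔛 h U)).inv ≫ (Sigma.σ h n U).appTop =
      Levels.proj 𝔛 h n U ≫ (𝔛.lvU h n U).topIso.inv := by
    rw [Sigma.σ, Scheme.Hom.comp_appTop, ← Category.assoc, ← Scheme.ΓSpecIso_inv_naturality,
      Category.assoc, Scheme.Opens.toSpecΓ_appTop, Iso.inv_hom_id_assoc]
  exact ConcreteCategory.congr_hom e a

theorem φq_fam (a : Levels.A 𝔛 h U) :
    SchIdeal.φq (Restrict.isFormal 𝔛 h U) (fam h U) (fam_comm h U) a =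
      ((𝔛.restrictOpen h U).Osh (Restrict.isFormal 𝔛 h U)).obj.map
        (homOfLE (Restrict.preimage_self 𝔛 h U).ge).op
        ((FSch.Hom.sharp (𝔛.restrictOpenι h U) (Restrict.isFormal 𝔛 h U) h).hom.app (op U) a) := by
  refine SchIdeal.ext_proj (Restrict.isFormal 𝔛 h U) (V := ⊤) _ _ fun n => ?_
  rw [Spf.proj_φq_eq, Unit.proj_res (Restrict.isFormal 𝔛 h U) n (Restrict.preimage_self 𝔛 h U).ge,
    SchIdeal.proj_sharp h (Restrict.isFormal 𝔛 h U) (𝔛.restrictOpenι h U) n U a]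
  refine (congrArg _ (appTop_σ h U n a)).trans ?_
  have e : ∀ (O : (𝔛.X n).Opens) (T : O.toScheme.Opens) (hT : T ≤ ⊤) (T' : O.toScheme.Opens) (hT' : T ≤ T')
      (hT'' : T' ≤ O.ι ⁻¹ᵁ O),
      O.topIso.inv ≫ O.toScheme.presheaf.map (homOfLE hT).op =
        O.ι.appLE O T' hT'' ≫ O.toScheme.presheaf.map (homOfLE hT').op := by
    intro O T hT T' hT' hT''
    simp only [Scheme.Opens.topIso_inv, Scheme.Opens.ι_appLE]
    erw [← Functor.map_comp, ← Functor.map_comp]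
    rfl
  exact ConcreteCategory.congr_hom (e (𝔛.lvU h n U) _ le_top _
    (Sigma.lvU_mono (Restrict.isFormal 𝔛 h U) n (Restrict.preimage_self 𝔛 h U).ge)
    (FSch.Hom.lvU_preimage (𝔛.restrictOpenι h U) (Restrict.isFormal 𝔛 h U) h n U).ge)
    (Levels.proj 𝔛 h n U a)

variable (hp : FSch.IsAdicHom p) (hI : I.FG) {U} (hU : IsAffineOpen U)

/-- The ideal of definition of the functions on the open. -/
noncomputable abbrev J (U : (𝔛.X 0).Opens) : _root_.Ideal (Levels.A 𝔛 h U) := I.map (AdmLocal.const I h p U)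

include hp hI hU in
theorem exists_iso : ∃ e : 𝔛.restrictOpen h U ≅ FSch.spf (Levels.A 𝔛 h U) (J I h p U),
    ∀ n, (e.hom : FSch.Hom _ _).app n ≫ FSch.spfToSpec (Levels.A 𝔛 h U) (J I h p U) n = fam h U n := by
  obtain ⟨-, hsk⟩ := AdmLocal.spec I h p hp hI hU
  let eq : ∀ n, Levels.A 𝔛 h U ⧸ J I h p U ^ (n + 1) ≃+* Levels.B 𝔛 h n U := fun n =>
    (_root_.Ideal.quotEquivOfEq (hsk n).2.symm).trans
      (RingHom.quotientKerEquivOfSurjective (hsk n).1)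
  let cI : ∀ n, CommRingCat.of (Levels.A 𝔛 h U ⧸ J I h p U ^ (n + 1)) ≅ Levels.B 𝔛 h n U := fun n =>
    (eq n).toCommRingCatIso
  let app : ∀ n, (𝔛.restrictOpen h U).X n ≅ (FSch.spf (Levels.A 𝔛 h U) (J I h p U)).X n := fun n =>
    (OshBasic.isAffineOpen_lvU 𝔛 h n hU).isoSpec ≪≫ (Scheme.Spec.mapIso (cI n).op)
  have happ : ∀ n, (app n).hom ≫ CohB1.specQuot (J I h p U) n = fam h U n := fun n => by
    show (_ ≫ Spec.map (cI n).hom) ≫ Spec.map _ = _
    rw [Category.assoc, ← Spec.map_comp]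
    rfl
  have hcomm : ∀ n, (app n).hom ≫ (FSch.spf (Levels.A 𝔛 h U) (J I h p U)).ι n =
      (𝔛.restrictOpen h U).ι n ≫ (app (n + 1)).hom := fun n => by
    have := IdealLemmas.isClosedImmersion_specQuot (Levels.A 𝔛 h U) (J I h p U) (n + 1)
    refine (cancel_mono (CohB1.specQuot (J I h p U) (n + 1))).1 ?_
    exact ((Category.assoc _ _ _).trans ((congrArg ((app n).hom ≫ ·)
      (CohB1.specQuotTrans_specQuot (J I h p U) n)).trans (happ n))).trans
      (((Category.assoc _ _ _).trans ((congrArg ((𝔛.restrictOpen h U).ι n ≫ ·) (happ (n + 1))).trans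
        (fam_comm h U n))).symm)
  let f : 𝔛.restrictOpen h U ⟶ FSch.spf (Levels.A 𝔛 h U) (J I h p U) := ⟨fun n => (app n).hom, hcomm⟩
  let g : FSch.spf (Levels.A 𝔛 h U) (J I h p U) ⟶ 𝔛.restrictOpen h U := ⟨fun n => (app n).inv, fun n => by
    rw [Iso.inv_comp_eq, ← Category.assoc, Iso.eq_comp_inv, hcomm]⟩
  exact ⟨⟨f, g, FSch.Hom.ext (funext fun n => (app n).hom_inv_id),
    FSch.Hom.ext (funext fun n => (app n).inv_hom_id)⟩, happ⟩

omit I p in
theorem idealMap_eq {𝔚 : FSch.Sys.{u}} (hW : 𝔚.IsFormal) (e : 𝔛.restrictOpen h U ⟶ 𝔚)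
    (q : ∀ n, 𝔚.X n ⟶ Spec (CommRingCat.of (Levels.A 𝔛 h U)))
    (hq : ∀ n, 𝔚.ι n ≫ q (n + 1) = q n) (he : ∀ n, (e : FSch.Hom _ _).app n ≫ q n = fam h U n)
    (J' : FBlow.IdealSh (𝔛.Osh h)) (𝔞 : _root_.Ideal (Levels.A 𝔛 h U)) (hgen : CohLocal.HGen h J' U 𝔞) :
    FBlow.idealMap e (Restrict.isFormal 𝔛 h U) hW
        (FBlow.schIdealMap 𝔚 hW q hq (FBlow.IdealSh.ofData (FSch.idealSpec (Levels.A 𝔛 h U) 𝔞))) =
      FBlow.idealMap (𝔛.restrictOpenι h U) (Restrict.isFormal 𝔛 h U) h J' := by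
  have hU' := Restrict.isFormal 𝔛 h U
  let j := 𝔛.restrictOpenι h U
  have h1 := SchIdeal.idealMap_spec (Restrict.isFormal 𝔛 h U) hW e q hq (𝔞 : Set (Levels.A 𝔛 h U))
  rw [_root_.Ideal.span_eq] at h1
  rw [h1]
  have hφ : ∀ a, SchIdeal.φq (Restrict.isFormal 𝔛 h U) (SchIdeal.comp e q) (SchIdeal.comp_comm e q hq) a =
      ((𝔛.restrictOpen h U).Osh (Restrict.isFormal 𝔛 h U)).obj.map
        (homOfLE (Restrict.preimage_self 𝔛 h U).ge).op
        ((FSch.Hom.sharp j (Restrict.isFormal 𝔛 h U) h).hom.app (op U) a) := fun a => by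
    rw [← φq_fam]
    refine SchIdeal.ext_proj _ _ _ fun n => ?_
    rw [Spf.proj_φq_eq, Spf.proj_φq_eq]
    show ((𝔛.restrictOpen h U).X n).presheaf.map _ (((e : FSch.Hom _ _).app n ≫ q n).appTop _) = _
    rw [he n]
  refine Ideal.ext_of_le (Ideal.gens_le ?_) (FBlow.IdealSh.map_le fun T s hs V i => ?_)
  · rintro _ ⟨a, ha, rfl⟩
    rw [hφ]
    exact FBlow.IdealSh.image_mem_map ((j : FSch.Hom _ 𝔛).app 0).base _ J' (hgen.1 a ha) _
  · refine FBlow.IdealSh.mem_of_local _ fun y hy => ?_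
    obtain ⟨W, e1, e2, hxW, hWm⟩ := hgen.2 (T ⊓ U) inf_le_right _ (J'.map_mem inf_le_left hs)
      (((j : FSch.Hom _ 𝔛).app 0).base y) ⟨i hy, Transport.ι_mem h U y⟩
    refine ⟨V ⊓ ((j : FSch.Hom _ 𝔛).app 0) ⁻¹ᵁ W, inf_le_left, ⟨hy, hxW⟩, ?_⟩
    have h2 : (FSch.Hom.sharp j (Restrict.isFormal 𝔛 h U) h).hom.app (op W)
        ((𝔛.Osh h).obj.map (homOfLE e1).op ((𝔛.Osh h).obj.map (homOfLE (inf_le_left : T ⊓ U ≤ T)).op s)) ∈
        (Ideal.gens (SchIdeal.φq (Restrict.isFormal 𝔛 h U) (SchIdeal.comp e q) (SchIdeal.comp_comm e q hq) ''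
          (𝔞 : Set (Levels.A 𝔛 h U)))).sect (((j : FSch.Hom _ 𝔛).app 0) ⁻¹ᵁ W) := by
      refine (show 𝔞.map (CohLocal.res h e2) ≤ _root_.Ideal.comap
        ((FSch.Hom.sharp j (Restrict.isFormal 𝔛 h U) h).hom.app (op W)).hom
        ((Ideal.gens (SchIdeal.φq (Restrict.isFormal 𝔛 h U) (SchIdeal.comp e q) (SchIdeal.comp_comm e q hq) ''
          (𝔞 : Set (Levels.A 𝔛 h U)))).sect (((j : FSch.Hom _ 𝔛).app 0) ⁻¹ᵁ W)) from ?_) hWm
      rw [_root_.Ideal.map_le_iff_le_comap]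
      intro a ha
      rw [_root_.Ideal.mem_comap, _root_.Ideal.mem_comap]
      refine (congrArg (· ∈ _) ?_).mpr (Ideal.r_mem_gens (Set.mem_image_of_mem _ ha) _)
      rw [hφ]
      refine (SchIdeal.res_sharp h (Restrict.isFormal 𝔛 h U) j e2 a).trans ?_
      exact (FBlow.IdealSh.map_comp_apply (Restrict.preimage_self 𝔛 h U).ge le_top _).symm
    have h3 := (Ideal.gens _).map_mem (inf_le_right : V ⊓ ((j : FSch.Hom _ 𝔛).app 0) ⁻¹ᵁ W ≤ _) h2
    refine (congrArg (· ∈ _) ?_).mpr h3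
    rw [FBlow.IdealSh.map_comp_apply, show (𝔛.Osh h).obj.map (homOfLE e1).op
        ((𝔛.Osh h).obj.map (homOfLE (inf_le_left : T ⊓ U ≤ T)).op s) =
        (𝔛.Osh h).obj.map (homOfLE (e1.trans inf_le_left)).op s from FBlow.IdealSh.map_comp_apply _ _ _]
    refine Eq.trans ?_ (congrArg _ (SchIdeal.res_sharp h (Restrict.isFormal 𝔛 h U) j (e1.trans inf_le_left) s)).symm
    exact (FBlow.IdealSh.map_comp_apply (Scheme.Hom.preimage_mono _ (e1.trans inf_le_left)) inf_le_right _).symm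

end Groth.Agent.Lib.FBlowAff.SpfIso
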