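import Groth.Agent.Lib.FBlowAff.Main
import Groth.Agent.Lib.FBlowAff.SpfIso
import Groth.Agent.Lib.FBlowAff.ChartAdm

/-!
# Chart neighbourhoods on admissible formal blowing-ups (helper5)
-/

set_option autoImplicit false
set_option linter.style.haveILetI false

universe u

open CategoryTheory CategoryTheory.Limits TopologicalSpace Opposite AlgebraicGeometry
open Groth.Agent.H30

namespace Groth.Agent.Lib.FBlowAff.LocalChart

variable {R : Type u} [CommRing R] (I : _root_.Ideal R) {𝔛 : FSch.Sys.{u}} (h : 𝔛.IsFormal)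
  (p : 𝔛 ⟶ FSch.spf R I)

theorem isFormal_spf (A : Type u) [CommRing A] (J : _root_.Ideal A) : (FSch.spf A J).IsFormal :=
  have : ∀ n, IsClosedImmersion (FSch.spfToSpec A J n) := fun n =>
    IdealLemmas.isClosedImmersion_specQuot A J n
  IdealLemmas.isFormal_of_levels _ (FSch.idealSpec A J) (fun n => FSch.spfToSpec A J n)
    (fun n => CohB1.specQuotTrans_specQuot J n) (IdealLemmas.ker_specQuot A J)

/-- The structure map to the base on an affine open, through its functions. -/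
theorem ι_comp_p {U : (𝔛.X 0).Opens} (e : 𝔛.restrictOpen h U ⟶ FSch.spf (Levels.A 𝔛 h U) (SpfIso.J I h p U))
    (he : ∀ n, (e : FSch.Hom _ _).app n ≫ FSch.spfToSpec (Levels.A 𝔛 h U) (SpfIso.J I h p U) n =
      SpfIso.fam h U n)
    (hle : I ≤ (SpfIso.J I h p U).comap (AdmLocal.const I h p U)) :
    𝔛.restrictOpenι h U ≫ p = e ≫ FSch.spfMap (SpfIso.J I h p U) I (AdmLocal.const I h p U) hle := by
  refine Spf.ψOf_injective (Restrict.isFormal 𝔛 h U) I (RingHom.ext fun a => ?_)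
  rw [Spf.ψOf_comp_spfMap, RingHom.comp_apply, Main.ψOf_comp I (Restrict.isFormal 𝔛 h U) h]
  have h2 : Spf.ψOf (Restrict.isFormal 𝔛 h U) _ e (AdmLocal.const I h p U a) =
      SchIdeal.φq (Restrict.isFormal 𝔛 h U) (SpfIso.fam h U) (SpfIso.fam_comm h U)
        (AdmLocal.const I h p U a) := by
    refine SchIdeal.ext_proj _ _ _ fun n => ?_
    rw [Spf.ψOf, Spf.proj_φq_eq, Spf.proj_φq_eq]
    show ((𝔛.restrictOpen h U).X n).presheaf.map _ (((e : FSch.Hom _ _).app n ≫ FSch.spfToSpec _ _ n).appTop _) = _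
    rw [he n]
  rw [h2, SpfIso.φq_fam]
  show _ = ((𝔛.restrictOpen h U).Osh (Restrict.isFormal 𝔛 h U)).obj.map _
    ((FSch.Hom.sharp (𝔛.restrictOpenι h U) (Restrict.isFormal 𝔛 h U) h).hom.app (op U)
      (Ideal.r U (Spf.ψOf h I p a)))
  rw [← Restrict.r_res]
  exact ((Ideal.res_r (O := (𝔛.restrictOpen h U).Osh (Restrict.isFormal 𝔛 h U))
    (Restrict.preimage_self 𝔛 h U).ge (Restrict.res 𝔛 h U (Spf.ψOf h I p a))).trans
    (FBlow.IdealSh.map_id_apply (O := (𝔛.restrictOpen h U).Osh (Restrict.isFormal 𝔛 h U)) le_rfl _)).symm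

/-- The composite to the base of a chart. -/
theorem comp_eq {U : (𝔛.X 0).Opens} {𝔛' : FSch.Sys.{u}} (h' : 𝔛'.IsFormal) (b : 𝔛' ⟶ 𝔛)
    (e : 𝔛.restrictOpen h U ⟶ FSch.spf (Levels.A 𝔛 h U) (SpfIso.J I h p U))
    (he : ∀ n, (e : FSch.Hom _ _).app n ≫ FSch.spfToSpec (Levels.A 𝔛 h U) (SpfIso.J I h p U) n =
      SpfIso.fam h U n)
    {B : Type u} [CommRing B] {JB : _root_.Ideal B} (β : Levels.A 𝔛 h U →+* B) (α : R →+* B)
    (hα : β.comp (AdmLocal.const I h p U) = α) (hle₂ : SpfIso.J I h p U ≤ JB.comap β)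
    (u : FSch.spf B JB ⟶ 𝔛'.restrictOpen h' (((b : FSch.Hom 𝔛' 𝔛).app 0) ⁻¹ᵁ U))
    (hu : u ≫ FSch.Hom.restrictOpen b h' h U ≫ e = FSch.spfMap JB (SpfIso.J I h p U) β hle₂)
    (hle : I ≤ JB.comap α) :
    u ≫ 𝔛'.restrictOpenι h' (((b : FSch.Hom 𝔛' 𝔛).app 0) ⁻¹ᵁ U) ≫ b ≫ p = FSch.spfMap JB I α hle := by
  rw [← Category.assoc (𝔛'.restrictOpenι h' _), ← FSch.Hom.restrictOpen_ι b h' h U, Category.assoc,
    ι_comp_p I h p e he _root_.Ideal.le_comap_map,
    ← Category.assoc (FSch.Hom.restrictOpen b h' h U), ← Category.assoc u, hu]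
  refine Spf.ψOf_injective (isFormal_spf _ _) I ?_
  rw [Spf.ψOf_comp_spfMap, Spf.ψOf_spfMap, Spf.ψOf_spfMap, RingHom.comp_assoc, hα]

/-- Near every point an admissible formal blowing-up is the formal spectrum of an admissible algebra. -/
theorem exists_chart (hR : AdicRing.IsBase R I) (hp : FSch.IsAdicHom p)
    (hft : LocallyOfFiniteType ((p : FSch.Hom _ _).app 0))
    (htf : ∀ (U : (𝔛.X 0).Opens) (s : (𝔛.Osh h).obj.obj (op U)),
      (∀ a ∈ (FBlow.IdealSh.ker (𝔛.OshProj h 0)).sect U, a * s = 0) → s = 0)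
    (J : FBlow.IdealSh (𝔛.Osh h)) (hJ : CohLocal.LocGen h I p J)
    {𝔛' : FSch.Sys.{u}} (h' : 𝔛'.IsFormal) (b : 𝔛' ⟶ 𝔛) (hb : FBlow.IsAdmBlowUp b h' h J)
    (x' : 𝔛'.X 0) :
    ∃ (B : Type u) (_ : CommRing B) (_ : Algebra R B) (_ : AdicRing.Admissible R I B)
      (hle : I ≤ (I.map (algebraMap R B)).comap (algebraMap R B))
      (v : FSch.spf B (I.map (algebraMap R B)) ⟶ 𝔛'),
      (∀ n, IsOpenImmersion ((v : FSch.Hom _ 𝔛').app n)) ∧
      x' ∈ Set.range ((v : FSch.Hom _ 𝔛').app 0).base ∧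
      v ≫ b ≫ p = FSch.spfMap (I.map (algebraMap R B)) I (algebraMap R B) hle := by
  have hI := Groth.Agent.Lib.Adic.Base.isBase_fg hR
  obtain ⟨U, k, 𝔞, hxU, hU, hfg, hk, hgen⟩ :=
    hJ (((b : FSch.Hom 𝔛' 𝔛).app 0).base x')
  letI : Algebra R (Levels.A 𝔛 h U) := (AdmLocal.const I h p U).toAlgebra
  have hA : AdicRing.Admissible R I (Levels.A 𝔛 h U) := AdmLocal.admissible I h p hp hI hU hR hft htf
  obtain ⟨e, he⟩ := SpfIso.exists_iso I h p hp hI hU
  have hX := isFormal_spf (Levels.A 𝔛 h U) (SpfIso.J I h p U)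
  obtain ⟨r, g, hg⟩ := Submodule.fg_iff_exists_fin_generating_family.1 hfg
  let f : Fin (r + 1) → Levels.A 𝔛 h U := Fin.cons 0 g
  have hspan : _root_.Ideal.span (Set.range f) = 𝔞 := by
    rw [Fin.range_cons, _root_.Ideal.span_insert_zero]
    exact hg
  let U' := ((b : FSch.Hom 𝔛' 𝔛).app 0) ⁻¹ᵁ U
  let hU' := Restrict.isFormal 𝔛' h' U'
  let b₂ := FSch.Hom.restrictOpen b h' h U ≫ e.hom
  have hb₂ : FBlow.IsAdmBlowUp b₂ hU' hX
      (FBlow.schIdealMap (FSch.spf (Levels.A 𝔛 h U) (SpfIso.J I h p U)) hX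
        (FSch.spfToSpec _ (SpfIso.J I h p U)) (FSch.spfToSpec_comm _ (SpfIso.J I h p U))
        (FBlow.IdealSh.ofData (FSch.idealSpec _ (_root_.Ideal.span (Set.range f))))) := by
    refine Transport.isAdmBlowUp_comp_iso hX _ hU' _ _ (Transport.isAdmBlowUp_restrict h U h' b hb) e _ ?_
    rw [hspan]
    exact SpfIso.idealMap_eq h hX e.hom _ _ he J 𝔞 hgen
  have hinv := hb₂.2.1
  rw [Main.idealMap_range] at hinv
  obtain ⟨i, hi⟩ := Good.exists_mem_U hU' (fun j => Spf.ψOf hU' _ b₂ (f j)) hinv ⟨x', (Unit.mem_lvU_zero h' x').2 hxU⟩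
  have hopen : (I ^ k).map (algebraMap R (Levels.A 𝔛 h U)) ≤ _root_.Ideal.span (Set.range f) := by
    rw [_root_.Ideal.map_pow, hspan]; exact hk
  have hle₂ : I.map (algebraMap R (Levels.A 𝔛 h U)) ≤
      (I.map (algebraMap R (AdicRing.chartAdm I f i))).comap
        (algebraMap (Levels.A 𝔛 h U) (AdicRing.chartAdm I f i)) :=
    _root_.Ideal.map_le_iff_le_comap.1 (Chart.map_ideal f i).le
  obtain ⟨u, hu, huoi, hurange⟩ := Main.exists_chart hI f hopen hX hU' b₂ hb₂ i (isFormal_spf _ _) hle₂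
  refine ⟨AdicRing.chartAdm I f i, inferInstance, inferInstance, ChartAdm.admissible hR hA f hopen i,
    _root_.Ideal.le_comap_map, u ≫ 𝔛'.restrictOpenι h' U', fun n => ?_, ?_, ?_⟩
  · rw [FSch.comp_app]
    exact MorphismProperty.comp_mem @IsOpenImmersion _ _ (huoi n)
      (inferInstanceAs (IsOpenImmersion (𝔛'.lvU h' n U').ι))
  · have hx : (⟨x', (Unit.mem_lvU_zero h' x').2 hxU⟩ : (𝔛'.restrictOpen h' U').X 0) ∈
        Set.range ((u : FSch.Hom _ (𝔛'.restrictOpen h' U')).app 0).base := hurange.symm ▸ hi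
    obtain ⟨z, hz⟩ := hx
    exact ⟨z, congrArg Subtype.val hz⟩
  · rw [Category.assoc]
    exact comp_eq I h p h' b e.hom he (algebraMap (Levels.A 𝔛 h U) (AdicRing.chartAdm I f i))
      (algebraMap R (AdicRing.chartAdm I f i))
      (IsScalarTower.algebraMap_eq R (Levels.A 𝔛 h U) (AdicRing.chartAdm I f i)).symm hle₂ u hu
      _root_.Ideal.le_comap_map

end Groth.Agent.Lib.FBlowAff.LocalChart
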