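import Groth.Agent.Lib.FBlowAff.Spf
import Groth.Agent.S13342
import Groth.Agent.Lib.FBlowAff.Unit

/-!
# Functions on the formal system induced on an open (helper5)
-/

set_option autoImplicit false
set_option linter.style.haveILetI false

universe u

open CategoryTheory CategoryTheory.Limits TopologicalSpace Opposite AlgebraicGeometry
open Groth.Agent.H30

namespace Groth.Agent.Lib.FBlowAff.Restrict

variable (𝔛 : FSch.Sys.{u}) (h : 𝔛.IsFormal) (U : (𝔛.X 0).Opens)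

theorem isFormal : (𝔛.restrictOpen h U).IsFormal := (Groth.Agent.S13342.result 𝔛 h U).1

theorem isAdicHom_ι : FSch.IsAdicHom (𝔛.restrictOpenι h U) := by
  intro n
  refine IsOpenImmersion.isPullback _ ((𝔛.lvU h n U).ι) ((𝔛.lvU h (n + 1) U).ι) _
    (Scheme.Hom.resLE_comp_ι _ (𝔛.lvU_le h n U)).symm ?_
  rw [Scheme.Opens.opensRange_ι, Scheme.Opens.opensRange_ι]
  exact 𝔛.lvU_succ h n U

theorem preimage_self :
    ((𝔛.restrictOpenι h U : FSch.Hom _ _).app 0) ⁻¹ᵁ U = (⊤ : ((𝔛.restrictOpen h U).X 0).Opens) := by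
  refine top_le_iff.1 fun z _ => ?_
  have hz : ((𝔛.lvU h 0 U).ι.base z) ∈ 𝔛.lvU h 0 U := z.2
  exact (Unit.mem_lvU_zero h _).1 hz

theorem exists_eq_preimage (W : ((𝔛.restrictOpen h U).X 0).Opens) :
    ∃ W' : (𝔛.X 0).Opens, W' ≤ U ∧ ((𝔛.restrictOpenι h U : FSch.Hom _ _).app 0) ⁻¹ᵁ W' = W := by
  refine ⟨(𝔛.lvU h 0 U).ι ''ᵁ W, ?_, (𝔛.lvU h 0 U).ι.preimage_image_eq W⟩
  rintro _ ⟨z, -, rfl⟩
  exact (Unit.mem_lvU_zero h _).1 z.2

theorem isIso_appLE (n : ℕ) {W' : (𝔛.X 0).Opens} (hW : W' ≤ U) :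
    IsIso (((𝔛.restrictOpenι h U : FSch.Hom _ _).app n).appLE (𝔛.lvU h n W')
      ((𝔛.restrictOpen h U).lvU (isFormal 𝔛 h U) n (((𝔛.restrictOpenι h U : FSch.Hom _ _).app 0) ⁻¹ᵁ W'))
      (FSch.Hom.lvU_preimage (𝔛.restrictOpenι h U) (isFormal 𝔛 h U) h n W').ge) := by
  have hpre := (FSch.Hom.lvU_preimage (𝔛.restrictOpenι h U) (isFormal 𝔛 h U) h n W')
  have hoi : IsOpenImmersion ((𝔛.restrictOpenι h U : FSch.Hom _ _).app n) :=
    inferInstanceAs (IsOpenImmersion (𝔛.lvU h n U).ι)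
  have hle : 𝔛.lvU h n W' ≤ ((𝔛.restrictOpenι h U : FSch.Hom _ _).app n).opensRange := by
    intro z hz
    exact ⟨⟨z, hW hz⟩, rfl⟩
  have : IsIso (((𝔛.restrictOpenι h U : FSch.Hom _ _).app n).app (𝔛.lvU h n W')) :=
    Scheme.Hom.isIso_app _ _ hle
  rw [Scheme.Hom.appLE]
  exact IsIso.comp_isIso' inferInstance (by
    rw [show (homOfLE (FSch.Hom.lvU_preimage (𝔛.restrictOpenι h U) (isFormal 𝔛 h U) h n W').ge).op =
      (eqToIso hpre.symm).hom.op from Subsingleton.elim _ _]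
    infer_instance)

/-- Functions on an open below `U` are those on its trace. -/
theorem bijective_sharp {W' : (𝔛.X 0).Opens} (hW : W' ≤ U) :
    Function.Bijective ((FSch.Hom.sharp (𝔛.restrictOpenι h U) (isFormal 𝔛 h U) h).hom.app (op W')) := by
  have hbij : ∀ n, Function.Bijective (((𝔛.restrictOpenι h U : FSch.Hom _ _).app n).appLE (𝔛.lvU h n W')
      ((𝔛.restrictOpen h U).lvU (isFormal 𝔛 h U) n (((𝔛.restrictOpenι h U : FSch.Hom _ _).app 0) ⁻¹ᵁ W'))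
      (FSch.Hom.lvU_preimage (𝔛.restrictOpenι h U) (isFormal 𝔛 h U) h n W').ge) := fun n =>
    have := isIso_appLE 𝔛 h U n hW
    ConcreteCategory.bijective_of_isIso _
  refine ⟨(injective_iff_map_eq_zero _).2 fun t ht => Levels.ext_of_proj t fun n => (hbij n).1 ?_, fun s => ?_⟩
  · rw [map_zero]
    refine ((SchIdeal.proj_sharp h (isFormal 𝔛 h U) (𝔛.restrictOpenι h U) n W' t).symm.trans ?_)
    rw [ht]
    exact map_zero _
  · choose y hy using fun n => (hbij n).2 (Levels.proj (𝔛.restrictOpen h U) (isFormal 𝔛 h U) n _ s)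
    obtain ⟨t, ht⟩ := Levels.exists_of_compatible (𝔛 := 𝔛) (h := h) (V := W') y fun n => (hbij n).1 (by
      rw [hy n]
      conv_rhs => rw [← Levels.proj_trans (𝔛.restrictOpen h U) (isFormal 𝔛 h U) n]
      show _ = Levels.trans (𝔛.restrictOpen h U) (isFormal 𝔛 h U) n _
        (Levels.proj (𝔛.restrictOpen h U) (isFormal 𝔛 h U) (n + 1) _ s)
      rw [← hy (n + 1)]
      exact ConcreteCategory.congr_hom
        ((FSch.appLE_comp_appLE_of_eq _ _ _ ((𝔛.restrictOpenι h U : FSch.Hom _ _).comm n) _ _ _ _ _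
          (((𝔛.restrictOpen h U).lvU_le (isFormal 𝔛 h U) n _).trans
            (Scheme.Hom.preimage_mono ((𝔛.restrictOpen h U).ι n)
              (FSch.Hom.lvU_preimage (𝔛.restrictOpenι h U) (isFormal 𝔛 h U) h (n + 1) W').ge))).trans
        (FSch.appLE_comp_appLE_of_eq _ _ _ rfl _ _ _ _ _ _).symm) (y (n + 1)))
    refine ⟨t, SchIdeal.ext_proj (isFormal 𝔛 h U) (V := ((𝔛.restrictOpenι h U : FSch.Hom _ _).app 0) ⁻¹ᵁ W')
      _ s fun n => ?_⟩
    refine (SchIdeal.proj_sharp h (isFormal 𝔛 h U) (𝔛.restrictOpenι h U) n W' t).trans ?_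
    rw [ht, hy]

/-- The map on global functions. -/
noncomputable abbrev res : Levels.A 𝔛 h ⊤ →+* Levels.A (𝔛.restrictOpen h U) (isFormal 𝔛 h U) ⊤ :=
  ((FSch.Hom.sharp (𝔛.restrictOpenι h U) (isFormal 𝔛 h U) h).hom.app (op ⊤)).hom

theorem r_res (W' : (𝔛.X 0).Opens) (a : Levels.A 𝔛 h ⊤) :
    Ideal.r (((𝔛.restrictOpenι h U : FSch.Hom _ _).app 0) ⁻¹ᵁ W') (res 𝔛 h U a) =
      (FSch.Hom.sharp (𝔛.restrictOpenι h U) (isFormal 𝔛 h U) h).hom.app (op W') (Ideal.r W' a) :=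
  (SchIdeal.res_sharp h (isFormal 𝔛 h U) (𝔛.restrictOpenι h U) (le_top : W' ≤ ⊤) a).symm

theorem regular_res {a : Levels.A 𝔛 h ⊤}
    (hreg : ∀ (W : (𝔛.X 0).Opens), W ≤ U → ∀ t : Levels.A 𝔛 h W, t * Ideal.r W a = 0 → t = 0) :
    Ideal.Regular (res 𝔛 h U a) := by
  intro W t ht
  obtain ⟨W', hW, rfl⟩ := exists_eq_preimage 𝔛 h U W
  obtain ⟨t', rfl⟩ := (bijective_sharp 𝔛 h U hW).2 t
  rw [r_res] at ht
  have h0 : t' = 0 := hreg W' hW t' ((bijective_sharp 𝔛 h U hW).1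
    (((map_mul _ t' (Ideal.r W' a)).trans ht).trans (map_zero _).symm))
  rw [h0]
  exact map_zero _

theorem exists_dvd_res {a c : Levels.A 𝔛 h ⊤} (hd : ∃ d, Ideal.r U c = d * Ideal.r U a) :
    ∃ d, res 𝔛 h U c = d * res 𝔛 h U a := by
  obtain ⟨d, hd⟩ := hd
  have e : (⊤ : ((𝔛.restrictOpen h U).X 0).Opens) ≤ ((𝔛.restrictOpenι h U : FSch.Hom _ _).app 0) ⁻¹ᵁ U :=
    (preimage_self 𝔛 h U).ge
  refine ⟨((𝔛.restrictOpen h U).Osh (isFormal 𝔛 h U)).obj.map (homOfLE e).op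
    ((FSch.Hom.sharp (𝔛.restrictOpenι h U) (isFormal 𝔛 h U) h).hom.app (op U) d), ?_⟩
  have h1 := congrArg ((FSch.Hom.sharp (𝔛.restrictOpenι h U) (isFormal 𝔛 h U) h).hom.app (op U)) hd
  rw [map_mul, ← r_res, ← r_res] at h1
  have h2 := congrArg (((𝔛.restrictOpen h U).Osh (isFormal 𝔛 h U)).obj.map (homOfLE e).op) h1
  erw [map_mul, Ideal.res_r, Ideal.res_r] at h2
  rwa [show Ideal.r (⊤ : ((𝔛.restrictOpen h U).X 0).Opens) (res 𝔛 h U c) = res 𝔛 h U c from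
      FBlow.IdealSh.map_id_apply _ _,
    show Ideal.r (⊤ : ((𝔛.restrictOpen h U).X 0).Opens) (res 𝔛 h U a) = res 𝔛 h U a from
      FBlow.IdealSh.map_id_apply _ _] at h2

end Groth.Agent.Lib.FBlowAff.Restrict
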