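import Groth.Agent.Lib.FBlowAff.Good
import Groth.Agent.Lib.FBlowAff.Restrict
import Groth.Agent.Lib.FBlowAff.Chart
import Groth.Agent.Lib.Adic.Base

/-!
# The charts of an admissible formal blowing-up of a formal spectrum (helper5)
-/

set_option autoImplicit false
set_option linter.style.haveILetI false

universe u

open CategoryTheory CategoryTheory.Limits TopologicalSpace Opposite AlgebraicGeometry
open Groth.Agent.H30

namespace Groth.Agent.Lib.FBlowAff.Main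

theorem ψOf_comp {A : Type u} [CommRing A] (J : _root_.Ideal A) {𝔛 𝔜 : FSch.Sys.{u}} (hY : 𝔜.IsFormal)
    (hX : 𝔛.IsFormal) (g : 𝔜 ⟶ 𝔛) (b : 𝔛 ⟶ FSch.spf A J) (a : A) :
    Spf.ψOf hY J (g ≫ b) a = (FSch.Hom.sharp g hY hX).hom.app (op ⊤) (Spf.ψOf hX J b a) :=
  (SchIdeal.sharp_sch hX hY g _ (SchIdeal.comp_comm b _ (FSch.spfToSpec_comm A J)) ⊤
    ((Scheme.ΓSpecIso (CommRingCat.of A)).inv a)).symm

theorem idealMap_range {A : Type u} [CommRing A] (J : _root_.Ideal A) {𝔜 : FSch.Sys.{u}} (hY : 𝔜.IsFormal)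
    (hX : (FSch.spf A J).IsFormal) (g : 𝔜 ⟶ FSch.spf A J) {ι : Type} (f : ι → A) :
    FBlow.idealMap g hY hX (FBlow.schIdealMap (FSch.spf A J) hX (FSch.spfToSpec A J) (FSch.spfToSpec_comm A J)
      (FBlow.IdealSh.ofData (FSch.idealSpec A (_root_.Ideal.span (Set.range f))))) =
      Ideal.gens (Set.range fun j => Spf.ψOf hY J g (f j)) := by
  rw [SchIdeal.idealMap_spec, ← Set.range_comp]
  rfl

theorem idealMap_single {A : Type u} [CommRing A] (J : _root_.Ideal A) {𝔜 : FSch.Sys.{u}} (hY : 𝔜.IsFormal)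
    (hX : (FSch.spf A J).IsFormal) (g : 𝔜 ⟶ FSch.spf A J) (a : A) :
    FBlow.idealMap g hY hX (FBlow.schIdealMap (FSch.spf A J) hX (FSch.spfToSpec A J) (FSch.spfToSpec_comm A J)
      (FBlow.IdealSh.ofData (FSch.idealSpec A (_root_.Ideal.span {a})))) =
      Ideal.gens {Spf.ψOf hY J g a} := by
  rw [SchIdeal.idealMap_spec, Set.image_singleton]
  rfl

theorem invertible_of {A : Type u} [CommRing A] (J : _root_.Ideal A) {𝔜 : FSch.Sys.{u}} (hY : 𝔜.IsFormal)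
    (hX : (FSch.spf A J).IsFormal) (g : 𝔜 ⟶ FSch.spf A J) {ι : Type} (f : ι → A) (i : ι)
    (hreg : Ideal.Regular (Spf.ψOf hY J g (f i)))
    (hdvd : ∀ j, ∃ d, Spf.ψOf hY J g (f j) = d * Spf.ψOf hY J g (f i)) :
    (FBlow.idealMap g hY hX (FBlow.schIdealMap (FSch.spf A J) hX (FSch.spfToSpec A J) (FSch.spfToSpec_comm A J)
      (FBlow.IdealSh.ofData (FSch.idealSpec A (_root_.Ideal.span (Set.range f)))))).IsInvertible := by
  rw [idealMap_range, Ideal.gens_eq_singleton_of_dvd (Set.mem_range_self i)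
    (by rintro _ ⟨j, rfl⟩; exact hdvd j)]
  exact Ideal.isInvertible_gens_singleton hreg

theorem isAdicHom_comp {𝔛 𝔜 ℨ : FSch.Sys.{u}} {g : 𝔛 ⟶ 𝔜} {b : 𝔜 ⟶ ℨ} (hg : FSch.IsAdicHom g)
    (hb : FSch.IsAdicHom b) : FSch.IsAdicHom (g ≫ b) :=
  fun n => (hg n).paste_vert (hb n)

/-- The point of the chart lies in the good locus. -/
theorem mem_U_of_chart {A : Type u} [CommRing A] (J : _root_.Ideal A) {𝔛 𝔜 : FSch.Sys.{u}}
    (hY : 𝔜.IsFormal) (hX : 𝔛.IsFormal) (g : 𝔜 ⟶ 𝔛) (b : 𝔛 ⟶ FSch.spf A J) {ι : Type} [Fintype ι]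
    (f : ι → A) (hinv : (Ideal.gens (Set.range fun j => Spf.ψOf hX J b (f j))).IsInvertible) (i : ι)
    (hreg : Ideal.Regular (Spf.ψOf hY J (g ≫ b) (f i)))
    (hdvd : ∀ j, ∃ d, Spf.ψOf hY J (g ≫ b) (f j) = d * Spf.ψOf hY J (g ≫ b) (f i)) (z : 𝔜.X 0) :
    ((g : FSch.Hom 𝔜 𝔛).app 0).base z ∈ Good.U hX (fun j => Spf.ψOf hX J b (f j)) i := by
  obtain ⟨V, hxV, γ, c, w, hγ, hc, hsum⟩ :=
    Ideal.exists_factor _ hinv (((g : FSch.Hom 𝔜 𝔛).app 0).base z)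
  let V' := ((g : FSch.Hom 𝔜 𝔛).app 0) ⁻¹ᵁ V
  let σ : Levels.A 𝔛 hX V →+* Levels.A 𝔜 hY V' := ((FSch.Hom.sharp g hY hX).hom.app (op V)).hom
  have hσ : ∀ j, Ideal.r V' (Spf.ψOf hY J (g ≫ b) (f j)) = σ (c j) * σ γ := fun j => by
    rw [← map_mul, ← hc, ψOf_comp J hY hX]
    exact (SchIdeal.res_sharp hX hY g (le_top : V ≤ ⊤) _).symm
  have hreg' : ∀ t, t * σ γ = 0 → t = 0 := fun t ht => hreg V' t (by
    rw [hσ, mul_comm (σ (c i)), ← mul_assoc, ht, zero_mul])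
  choose d hd using hdvd
  have hci : ∀ j, σ (c j) = Ideal.r V' (d j) * σ (c i) := fun j => sub_eq_zero.1 (hreg' _ (by
    rw [sub_mul, mul_assoc, ← hσ, ← hσ, ← map_mul, ← hd, sub_self]))
  have h1 := congrArg σ hsum
  rw [map_sum, map_one] at h1
  have hu : IsUnit (σ (c i)) := IsUnit.of_mul_eq_one_right (∑ j, σ (w j) * Ideal.r V' (d j)) (by
    rw [Finset.sum_mul, ← h1]
    exact Finset.sum_congr rfl fun j _ => by rw [map_mul, hci j, mul_assoc])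
  refine Good.exists_isGood_of_mem_D hX (fun j => Spf.ψOf hX J b (f j)) i γ c hγ hc ?_
  have hu0 := hu.map (Levels.proj 𝔜 hY 0 V').hom
  erw [SchIdeal.proj_sharp hX hY g 0 V (c i)] at hu0
  have hz : z ∈ (𝔜.X 0).basicOpen (((g : FSch.Hom 𝔜 𝔛).app 0).appLE (𝔛.lvU hX 0 V) (𝔜.lvU hY 0 V')
      (FSch.Hom.lvU_preimage g hY hX 0 V).ge (Levels.proj 𝔛 hX 0 V (c i))) := by
    rw [Scheme.basicOpen_of_isUnit _ hu0]
    exact (Unit.mem_lvU_zero hY z).2 hxV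
  rw [Scheme.Hom.appLE, CommRingCat.comp_apply, Scheme.basicOpen_res] at hz
  have h3 := hz.2
  rw [← Scheme.preimage_basicOpen] at h3
  exact h3

theorem range_eq {T : Scheme.{u}} {X : Scheme.{u}} (W : X.Opens) (e : T ⟶ W.toScheme) [IsIso e] :
    Set.range (e ≫ W.ι).base = (W : Set X) := by
  ext x
  constructor
  · rintro ⟨z, rfl⟩
    exact (e.base z).2
  · intro hx
    obtain ⟨z, hz⟩ := (Scheme.homeoOfIso (asIso e)).surjective ⟨x, hx⟩
    exact ⟨z, congrArg Subtype.val hz⟩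

/-- An algebra with the universal property of the chart embeds as the good locus. -/
theorem exists_chart_of {A B : Type u} [CommRing A] [CommRing B] (J : _root_.Ideal A) (JB : _root_.Ideal B)
    (α : A →+* B) (hle : J ≤ JB.comap α) (hJB : J.map α = JB) {ι : Type} [Fintype ι] (f : ι → A) (i : ι)
    (hshift : ∃ e : ℕ, ∀ (N : ℕ) (x : B), α (f i) * x ∈ JB ^ (N + e) → x ∈ JB ^ N)
    (hdvd : ∀ j, ∃ z, α (f j) = z * α (f i))
    (hX : (FSch.spf A J).IsFormal) (hi : (FSch.spf B JB).IsFormal)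
    (hlift : ∀ (𝔜 : FSch.Sys.{u}) (hY : 𝔜.IsFormal) (g : 𝔜 ⟶ FSch.spf A J),
      Ideal.Regular (Spf.ψOf hY J g (f i)) →
      (∀ j, ∃ d, Spf.ψOf hY J g (f j) = d * Spf.ψOf hY J g (f i)) →
      ∃! k : 𝔜 ⟶ FSch.spf B JB, k ≫ FSch.spfMap JB J α hle = g)
    {𝔛' : FSch.Sys.{u}} (h' : 𝔛'.IsFormal) (b : 𝔛' ⟶ FSch.spf A J)
    (hb : FBlow.IsAdmBlowUp b h' hX (FBlow.schIdealMap (FSch.spf A J) hX
      (FSch.spfToSpec A J) (FSch.spfToSpec_comm A J)
      (FBlow.IdealSh.ofData (FSch.idealSpec A (_root_.Ideal.span (Set.range f)))))) :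
    ∃ u : FSch.spf B JB ⟶ 𝔛',
      u ≫ b = FSch.spfMap JB J α hle ∧
      (∀ n, IsOpenImmersion ((u : FSch.Hom _ 𝔛').app n)) ∧
      Set.range ((u : FSch.Hom _ 𝔛').app 0).base =
        (Good.U h' (fun j => Spf.ψOf h' J b (f j)) i : Set (𝔛'.X 0)) := by
  obtain ⟨hadic, hinv, huniv⟩ := hb
  rw [idealMap_range] at hinv
  let β := FSch.spfMap JB J α hle
  have hψβ : ∀ a, Spf.ψOf hi _ β a = Spf.φ _ hi (α a) := fun a =>
    RingHom.congr_fun (Spf.ψOf_spfMap JB hi J α hle) a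
  have hregB : Ideal.Regular (Spf.ψOf hi _ β (f i)) := by
    rw [hψβ]; exact Spf.regular_φ _ hi hshift
  have hdvdB : ∀ j, ∃ d, Spf.ψOf hi _ β (f j) = d * Spf.ψOf hi _ β (f i) := fun j => by
    obtain ⟨z, hz⟩ := hdvd j
    exact ⟨Spf.φ _ hi z, by rw [hψβ, hψβ, hz, map_mul]⟩
  obtain ⟨u, hu, -⟩ := huniv _ hi β
    (Groth.Agent.H30.Spf.isAdicHom_spfMap_of_map_eq _ _ _ hle hJB)
    (invertible_of _ hi hX β f i hregB hdvdB)
  let U := Good.U h' (fun j => Spf.ψOf h' _ b (f j)) i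
  let hU := Restrict.isFormal 𝔛' h' U
  let j := 𝔛'.restrictOpenι h' U
  -- the morphism into the open
  have hmem : ∀ z, ((u : FSch.Hom _ 𝔛').app 0).base z ∈ U := fun z =>
    mem_U_of_chart _ hi h' u b f hinv i (by rw [hu]; exact hregB) (by rw [hu]; exact hdvdB) z
  have hrange : ∀ n, Set.range ((u : FSch.Hom _ 𝔛').app n).base ⊆ (𝔛'.lvU h' n U : Set (𝔛'.X n)) := by
    rintro n _ ⟨z, rfl⟩
    have hz : z ∈ ((u : FSch.Hom _ 𝔛').app n) ⁻¹ᵁ 𝔛'.lvU h' n U := by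
      rw [FSch.Hom.lvU_preimage u hi h' n U]
      exact hmem _
    exact hz
  let v0 : ∀ n, (FSch.spf B JB).X n ⟶ (𝔛'.lvU h' n U).toScheme := fun n =>
    IsOpenImmersion.lift (𝔛'.lvU h' n U).ι ((u : FSch.Hom _ 𝔛').app n)
      (by rw [Scheme.Opens.range_ι]; exact hrange n)
  have hv0 : ∀ n, v0 n ≫ (𝔛'.lvU h' n U).ι = (u : FSch.Hom _ 𝔛').app n := fun n =>
    IsOpenImmersion.lift_fac _ _ _
  let v : FSch.spf B JB ⟶ 𝔛'.restrictOpen h' U :=
    ⟨v0, fun n => by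
      refine (cancel_mono (𝔛'.lvU h' (n + 1) U).ι).1 ?_
      show (v0 n ≫ (𝔛'.ι n).resLE (𝔛'.lvU h' (n + 1) U) (𝔛'.lvU h' n U) (𝔛'.lvU_le h' n U)) ≫ _ =
        ((FSch.spf B JB).ι n ≫ v0 (n + 1)) ≫ _
      rw [Category.assoc, Category.assoc, Scheme.Hom.resLE_comp_ι, ← Category.assoc, hv0, hv0]
      exact (u : FSch.Hom _ 𝔛').comm n⟩
  have hv : v ≫ j = u := FSch.Hom.ext (funext fun n => hv0 n)
  -- the retraction
  obtain ⟨hgood1, hgood2⟩ := Good.isGood_U h' (fun j => Spf.ψOf h' _ b (f j)) i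
  have hψj : ∀ a, Spf.ψOf hU _ (j ≫ b) a = Restrict.res 𝔛' h' U (Spf.ψOf h' _ b a) := fun a =>
    ψOf_comp _ hU h' j b a
  have hregU : Ideal.Regular (Spf.ψOf hU _ (j ≫ b) (f i)) := by
    rw [hψj]; exact Restrict.regular_res 𝔛' h' U hgood1
  have hdvdU : ∀ l, ∃ d, Spf.ψOf hU _ (j ≫ b) (f l) = d * Spf.ψOf hU _ (j ≫ b) (f i) := fun l => by
    rw [hψj, hψj]; exact Restrict.exists_dvd_res 𝔛' h' U (hgood2 l)
  obtain ⟨k, hk, -⟩ := hlift _ hU (j ≫ b) hregU hdvdU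
  have h1 : v ≫ k = 𝟙 _ := by
    obtain ⟨k₀, -, hk₀⟩ := hlift _ hi β hregB hdvdB
    rw [hk₀ (v ≫ k) (by show (v ≫ k) ≫ β = β; rw [Category.assoc, hk, ← Category.assoc, hv, hu]),
      hk₀ (𝟙 _) (Category.id_comp _)]
  have h2 : k ≫ v = 𝟙 _ := by
    have e : (k ≫ v) ≫ j = j := by
      rw [Category.assoc, hv]
      obtain ⟨w, -, hw⟩ := huniv _ hU (j ≫ b) (isAdicHom_comp (Restrict.isAdicHom_ι 𝔛' h' U) hadic)
        (invertible_of _ hU hX (j ≫ b) f i hregU hdvdU)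
      rw [hw (k ≫ u) (by show (k ≫ u) ≫ b = j ≫ b; rw [Category.assoc, hu, hk]), hw j rfl]
    refine FSch.Hom.ext (funext fun n => (cancel_mono (𝔛'.lvU h' n U).ι).1 ?_)
    exact (congrArg (fun φ : _ ⟶ 𝔛' => (φ : FSch.Hom _ 𝔛').app n) e).trans (Category.id_comp _).symm
  have hiso : ∀ n, IsIso ((v : FSch.Hom _ (𝔛'.restrictOpen h' U)).app n) := fun n =>
    ⟨(k : FSch.Hom _ _).app n, congrArg (fun φ : _ ⟶ _ => (φ : FSch.Hom _ _).app n) h1,
      congrArg (fun φ : _ ⟶ _ => (φ : FSch.Hom _ _).app n) h2⟩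
  have hiso0 : ∀ n, IsIso (v0 n) := hiso
  refine ⟨u, hu, fun n => ?_, ?_⟩
  · have := hiso0 n
    show IsOpenImmersion ((u : FSch.Hom _ 𝔛').app n)
    rw [← hv0 n]
    infer_instance
  · have := hiso0 0
    rw [← hv0 0]
    refine (range_eq (𝔛'.lvU h' 0 U) (v0 0)).trans ?_
    ext x
    exact Unit.mem_lvU_zero h' x

variable {R : Type u} [CommRing R] {I : _root_.Ideal R} {A : Type u} [CommRing A] [Algebra R A]

/-- The chart embeds as the good locus. -/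
theorem exists_chart (hI : I.FG) {r : ℕ} (f : Fin (r + 1) → A) {k : ℕ}
    (hopen : (I ^ k).map (algebraMap R A) ≤ _root_.Ideal.span (Set.range f))
    (hX : (FSch.spf A (I.map (algebraMap R A))).IsFormal)
    {𝔛' : FSch.Sys.{u}} (h' : 𝔛'.IsFormal) (b : 𝔛' ⟶ FSch.spf A (I.map (algebraMap R A)))
    (hb : FBlow.IsAdmBlowUp b h' hX (FBlow.schIdealMap (FSch.spf A (I.map (algebraMap R A))) hX
      (FSch.spfToSpec A (I.map (algebraMap R A))) (FSch.spfToSpec_comm A (I.map (algebraMap R A)))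
      (FBlow.IdealSh.ofData (FSch.idealSpec A (_root_.Ideal.span (Set.range f))))))
    (i : Fin (r + 1))
    (hi : (FSch.spf (AdicRing.chartAdm I f i) (I.map (algebraMap R (AdicRing.chartAdm I f i)))).IsFormal)
    (hle : (I.map (algebraMap R A)) ≤
      (I.map (algebraMap R (AdicRing.chartAdm I f i))).comap (algebraMap A (AdicRing.chartAdm I f i))) :
    ∃ u : FSch.spf (AdicRing.chartAdm I f i) (I.map (algebraMap R (AdicRing.chartAdm I f i))) ⟶ 𝔛',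
      u ≫ b = FSch.spfMap (I.map (algebraMap R (AdicRing.chartAdm I f i))) (I.map (algebraMap R A))
        (algebraMap A (AdicRing.chartAdm I f i)) hle ∧
      (∀ n, IsOpenImmersion ((u : FSch.Hom _ 𝔛').app n)) ∧
      Set.range ((u : FSch.Hom _ 𝔛').app 0).base =
        (Good.U h' (fun j => Spf.ψOf h' _ b (f j)) i : Set (𝔛'.X 0)) := by
  exact exists_chart_of _ _ _ hle (Chart.map_ideal f i) f i (Chart.shift f i hopen)
    (Chart.exists_dvd_gen (I := I) f i) hX hi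
    (fun 𝔜 hY g h1 h2 => Chart.existsUnique_lift f i hY hI g h1 h2 hle) h' b hb

end Groth.Agent.Lib.FBlowAff.Main
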