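import Groth.Agent.Lib.FBlowAff.BlowProps
import Groth.Agent.Lib.FBlowAff.SigmaBase

/-!
# The affine pieces of an admissible formal blowing-up (helper5)
-/

set_option autoImplicit false
set_option linter.style.haveILetI false

universe u

open CategoryTheory CategoryTheory.Limits TopologicalSpace Opposite AlgebraicGeometry
open Groth.Agent.H30

namespace Groth.Agent.Lib.FBlowAff.Pieces

theorem res_sharp_congr {𝔛 𝔜 : FSch.Sys.{u}} (hX : 𝔛.IsFormal) (hY : 𝔜.IsFormal) {g g' : 𝔜 ⟶ 𝔛} (e : g = g')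
    {U : (𝔛.X 0).Opens} {V : (𝔜.X 0).Opens} (i : V ≤ ((g : FSch.Hom 𝔜 𝔛).app 0) ⁻¹ᵁ U)
    (i' : V ≤ ((g' : FSch.Hom 𝔜 𝔛).app 0) ⁻¹ᵁ U) (a : Levels.A 𝔛 hX U) :
    (𝔜.Osh hY).obj.map (homOfLE i).op ((FSch.Hom.sharp g hY hX).hom.app (op U) a) =
      (𝔜.Osh hY).obj.map (homOfLE i').op ((FSch.Hom.sharp g' hY hX).hom.app (op U) a) := by
  subst e
  rfl

theorem injective_appLE {𝔛 𝔜 : FSch.Sys.{u}} (hX : 𝔛.IsFormal) (hY : 𝔜.IsFormal) (v : 𝔜 ⟶ 𝔛)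
    (hv : ∀ n, IsOpenImmersion ((v : FSch.Hom 𝔜 𝔛).app n)) {W : (𝔛.X 0).Opens}
    (hW : (W : Set (𝔛.X 0)) ⊆ Set.range ((v : FSch.Hom 𝔜 𝔛).app 0).base) (n : ℕ) :
    Function.Injective (((v : FSch.Hom 𝔜 𝔛).app n).appLE (𝔛.lvU hX n W)
      (𝔜.lvU hY n (((v : FSch.Hom 𝔜 𝔛).app 0) ⁻¹ᵁ W)) (FSch.Hom.lvU_preimage v hY hX n W).ge) := by
  have := hv n
  have hi : IsIso (((v : FSch.Hom 𝔜 𝔛).app n).app (𝔛.lvU hX n W)) :=
    Scheme.Hom.isIso_app _ _ fun z hz => OpenImm.lvU_subset_range hX v hW n hz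
  have hpre := FSch.Hom.lvU_preimage v hY hX n W
  have : IsIso (((v : FSch.Hom 𝔜 𝔛).app n).appLE (𝔛.lvU hX n W)
      (𝔜.lvU hY n (((v : FSch.Hom 𝔜 𝔛).app 0) ⁻¹ᵁ W)) hpre.ge) := by
    rw [Scheme.Hom.appLE]
    exact IsIso.comp_isIso' inferInstance (by
      rw [show (homOfLE hpre.ge).op = (eqToIso hpre.symm).hom.op from Subsingleton.elim _ _]
      infer_instance)
  exact (ConcreteCategory.bijective_of_isIso _).1

variable {R : Type u} [CommRing R] {I : _root_.Ideal R}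

theorem ψOf_iso {𝔛 : FSch.Sys.{u}} (h : 𝔛.IsFormal) {U : (𝔛.X 0).Opens} {S : _root_.Ideal (Levels.A 𝔛 h U)}
    (e : 𝔛.restrictOpen h U ⟶ FSch.spf (Levels.A 𝔛 h U) S)
    (he : ∀ n, (e : FSch.Hom _ _).app n ≫ FSch.spfToSpec _ S n = SpfIso.fam h U n) (a : Levels.A 𝔛 h U) :
    Spf.ψOf (Restrict.isFormal 𝔛 h U) _ e a =
      ((𝔛.restrictOpen h U).Osh (Restrict.isFormal 𝔛 h U)).obj.map (homOfLE (Restrict.preimage_self 𝔛 h U).ge).op
        ((FSch.Hom.sharp (𝔛.restrictOpenι h U) (Restrict.isFormal 𝔛 h U) h).hom.app (op U) a) := by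
  rw [← SpfIso.φq_fam]
  refine SchIdeal.ext_proj _ _ _ fun n => ?_
  rw [Spf.ψOf, Spf.proj_φq_eq, Spf.proj_φq_eq]
  show ((𝔛.restrictOpen h U).X n).presheaf.map _ (((e : FSch.Hom _ _).app n ≫ FSch.spfToSpec _ _ n).appTop _) = _
  rw [he n]

theorem φ_factor {A B : Type u} [CommRing A] [CommRing B] (K : _root_.Ideal A) (L : _root_.Ideal B) {𝔜 : FSch.Sys.{u}}
    (hY : 𝔜.IsFormal) (hB : (FSch.spf B L).IsFormal) (α : A →+* B) (hle : K ≤ L.comap α) (g : FSch.spf B L ⟶ 𝔜)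
    (e : 𝔜 ⟶ FSch.spf A K) (hg : g ≫ e = FSch.spfMap L K α hle) (a : A) :
    Spf.φ L hB (α a) = (FSch.Hom.sharp g hB hY).hom.app (op ⊤) (Spf.ψOf hY K e a) := by
  rw [← Main.ψOf_comp K hB hY g e a, hg, Spf.ψOf_spfMap]
  rfl

theorem sharp_τ {𝔛 𝔛' 𝔅 : FSch.Sys.{u}} (h : 𝔛.IsFormal) (h' : 𝔛'.IsFormal) (hB : 𝔅.IsFormal) (b : 𝔛' ⟶ 𝔛)
    {U : (𝔛.X 0).Opens} (v : 𝔅 ⟶ 𝔛') (g : 𝔅 ⟶ 𝔛.restrictOpen h U) (hvb : v ≫ b = g ≫ 𝔛.restrictOpenι h U)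
    {P : (𝔛'.X 0).Opens} (eP : P ≤ ((b : FSch.Hom 𝔛' 𝔛).app 0) ⁻¹ᵁ U) (a : Levels.A 𝔛 h U) :
    (FSch.Hom.sharp v hB h').hom.app (op P) (SigmaBase.τ h h' b eP a) =
      Ideal.r (((v : FSch.Hom 𝔅 𝔛').app 0) ⁻¹ᵁ P)
        ((FSch.Hom.sharp g hB (Restrict.isFormal 𝔛 h U)).hom.app (op ⊤)
          (((𝔛.restrictOpen h U).Osh (Restrict.isFormal 𝔛 h U)).obj.map
            (homOfLE (Restrict.preimage_self 𝔛 h U).ge).op
            ((FSch.Hom.sharp (𝔛.restrictOpenι h U) (Restrict.isFormal 𝔛 h U) h).hom.app (op U) a))) := by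
  have i' : ((v : FSch.Hom 𝔅 𝔛').app 0) ⁻¹ᵁ P ≤
      ((g ≫ 𝔛.restrictOpenι h U : 𝔅 ⟶ 𝔛) : FSch.Hom 𝔅 𝔛).app 0 ⁻¹ᵁ U := fun z _ =>
    Transport.ι_mem h U (((g : FSch.Hom _ _).app 0).base z)
  let x := (FSch.Hom.sharp (𝔛.restrictOpenι h U) (Restrict.isFormal 𝔛 h U) h).hom.app (op U) a
  refine (SchIdeal.res_sharp h' hB v eP _).trans ?_
  refine (congrArg _ (Transport.sharp_comp h h' hB v b U a).symm).trans ?_
  refine (res_sharp_congr h hB hvb _ i' a).trans ?_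
  rw [Transport.sharp_comp h (Restrict.isFormal 𝔛 h U) hB g (𝔛.restrictOpenι h U) U a]
  refine Eq.trans ?_ (congrArg _ (SchIdeal.res_sharp (Restrict.isFormal 𝔛 h U) hB g
    (Restrict.preimage_self 𝔛 h U).ge x)).symm
  exact (FBlow.IdealSh.map_comp_apply (O := 𝔅.Osh hB)
    (Scheme.Hom.preimage_mono ((g : FSch.Hom _ _).app 0) (Restrict.preimage_self 𝔛 h U).ge) le_top _).symm

theorem sharp_τ_φ {𝔛 𝔛' : FSch.Sys.{u}} (h : 𝔛.IsFormal) (h' : 𝔛'.IsFormal) {U : (𝔛.X 0).Opens}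
    {S : _root_.Ideal (Levels.A 𝔛 h U)} {B : Type u} [CommRing B] (L : _root_.Ideal B) (hB : (FSch.spf B L).IsFormal)
    (b : 𝔛' ⟶ 𝔛) (v : FSch.spf B L ⟶ 𝔛') (g : FSch.spf B L ⟶ 𝔛.restrictOpen h U)
    (hvb : v ≫ b = g ≫ 𝔛.restrictOpenι h U) (e : 𝔛.restrictOpen h U ⟶ FSch.spf (Levels.A 𝔛 h U) S)
    (he : ∀ n, (e : FSch.Hom _ _).app n ≫ FSch.spfToSpec _ S n = SpfIso.fam h U n)
    (α : Levels.A 𝔛 h U →+* B) (hle : S ≤ L.comap α) (hg : g ≫ e = FSch.spfMap L S α hle)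
    {P : (𝔛'.X 0).Opens} (eP : P ≤ ((b : FSch.Hom 𝔛' 𝔛).app 0) ⁻¹ᵁ U) (a : Levels.A 𝔛 h U) :
    (FSch.Hom.sharp v hB h').hom.app (op P) (SigmaBase.τ h h' b eP a) =
      Ideal.r (((v : FSch.Hom _ 𝔛').app 0) ⁻¹ᵁ P) (Spf.φ L hB (α a)) := by
  rw [φ_factor S L (Restrict.isFormal 𝔛 h U) hB α hle g e hg a, ψOf_iso h e he a]
  exact sharp_τ h h' hB b v g hvb eP a

theorem restrict_swap {𝔛 𝔛' 𝔅 : FSch.Sys.{u}} (h : 𝔛.IsFormal) (h' : 𝔛'.IsFormal) (b : 𝔛' ⟶ 𝔛)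
    (U : (𝔛.X 0).Opens) (w : 𝔅 ⟶ 𝔛'.restrictOpen h' (((b : FSch.Hom 𝔛' 𝔛).app 0) ⁻¹ᵁ U)) :
    (w ≫ 𝔛'.restrictOpenι h' _) ≫ b = (w ≫ FSch.Hom.restrictOpen b h' h U) ≫ 𝔛.restrictOpenι h U := by
  rw [Category.assoc, Category.assoc, FSch.Hom.restrictOpen_ι]

theorem eq_mul_of_map {S T B C : Type u} [CommRing S] [CommRing T] [CommRing B] [CommRing C] (σ : S →+* T)
    (hσ : Function.Injective σ) (φ : B →+* C) (ρ : C →+* T) {x y d : S} {a b z : B} (hx : σ x = ρ (φ a))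
    (hy : σ y = ρ (φ b)) (hd : σ d = ρ (φ z)) (h : a = z * b) : x = d * y :=
  hσ (by rw [map_mul, hx, hy, hd, h, map_mul, map_mul])

theorem map_congr_sub {S T B C : Type u} [CommRing T] [CommRing B] [CommRing C] [CommRing S] (σ : S →+* T)
    (φ : B →+* C) (ρ : C →+* T) {d : S} {a b z z' : B} (hreg : ∀ w, w * b = 0 → w = 0) (hd : σ d = ρ (φ z))
    (h : a = z * b) (h' : a = z' * b) : σ d = ρ (φ z') := by
  rw [hd, sub_eq_zero.1 (hreg (z - z') (by rw [sub_mul, sub_eq_zero]; exact h.symm.trans h'))]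

theorem exists_d {A S T B C : Type u} [CommRing A] [CommRing S] [CommRing T] [CommRing B] [CommRing C]
    (α : A →+* B) (τ : A →+* S) (σ : S →+* T) (hσ : Function.Bijective σ) (φ : B →+* C) (ρ : C →+* T)
    (hkey : ∀ a, σ (τ a) = ρ (φ (α a))) (a b : A) (hdvd : ∃ z, α a = z * α b)
    (hreg : ∀ w, w * α b = 0 → w = 0) :
    ∃ d, τ a = d * τ b ∧ ∀ z, α a = z * α b → σ d = ρ (φ z) := by
  obtain ⟨z, hz⟩ := hdvd
  obtain ⟨d, hd⟩ := hσ.2 (ρ (φ z))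
  exact ⟨d, eq_mul_of_map σ hσ.1 φ ρ (hkey a) (hkey b) hd hz, fun z' hz' => map_congr_sub σ φ ρ hreg hd hz hz'⟩

theorem exists_num {A S : Type u} [CommRing A] [CommRing S] (τ : A →+* S) {r : ℕ} (f : Fin (r + 1) → A)
    (i : Fin (r + 1)) (d : Fin (r + 1) → S) (hd : ∀ j, τ (f j) = d j * τ (f i))
    (Q : MvPolynomial {j // j ≠ i} A) :
    ∃ (N : ℕ), ∃ a ∈ _root_.Ideal.span (Set.range f) ^ N,
      τ a = MvPolynomial.eval₂Hom τ (fun j => d j.1) Q * τ (f i) ^ N := by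
  induction Q using MvPolynomial.induction_on with
  | C a => exact ⟨0, a, by simp, by simp⟩
  | add Q₁ Q₂ h₁ h₂ =>
    obtain ⟨N₁, a₁, ha₁, e₁⟩ := h₁
    obtain ⟨N₂, a₂, ha₂, e₂⟩ := h₂
    refine ⟨N₁ + N₂, a₁ * f i ^ N₂ + f i ^ N₁ * a₂, add_mem ?_ ?_, ?_⟩
    · rw [pow_add]
      exact _root_.Ideal.mul_mem_mul ha₁ (_root_.Ideal.pow_mem_pow (_root_.Ideal.subset_span (Set.mem_range_self i)) _)
    · rw [pow_add]
      exact _root_.Ideal.mul_mem_mul (_root_.Ideal.pow_mem_pow (_root_.Ideal.subset_span (Set.mem_range_self i)) _) ha₂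
    · rw [map_add, map_add, map_mul, map_mul, map_pow, map_pow, e₁, e₂, pow_add]
      ring
  | mul_X Q j hQ =>
    obtain ⟨N, a, ha, ea⟩ := hQ
    refine ⟨N + 1, a * f j.1, by
      rw [pow_succ]; exact _root_.Ideal.mul_mem_mul ha (_root_.Ideal.subset_span (Set.mem_range_self j.1)), ?_⟩
    rw [map_mul, map_mul, ea, hd j.1, MvPolynomial.eval₂Hom_X', pow_succ]
    ring

theorem ψOf_restrict {𝔛 𝔛' : FSch.Sys.{u}} (h : 𝔛.IsFormal) (h' : 𝔛'.IsFormal) (b : 𝔛' ⟶ 𝔛)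
    {U : (𝔛.X 0).Opens} {S : _root_.Ideal (Levels.A 𝔛 h U)}
    (e : 𝔛.restrictOpen h U ⟶ FSch.spf (Levels.A 𝔛 h U) S)
    (he : ∀ n, (e : FSch.Hom _ _).app n ≫ FSch.spfToSpec _ S n = SpfIso.fam h U n)
    {P : (𝔛'.X 0).Opens} (eP : P ≤ ((b : FSch.Hom 𝔛' 𝔛).app 0) ⁻¹ᵁ U) (a : Levels.A 𝔛 h U) :
    Ideal.r (((𝔛'.restrictOpenι h' (((b : FSch.Hom 𝔛' 𝔛).app 0) ⁻¹ᵁ U) : FSch.Hom _ _).app 0) ⁻¹ᵁ P)
        (Spf.ψOf (Restrict.isFormal 𝔛' h' _) _ (FSch.Hom.restrictOpen b h' h U ≫ e) a) =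
      (FSch.Hom.sharp (𝔛'.restrictOpenι h' (((b : FSch.Hom 𝔛' 𝔛).app 0) ⁻¹ᵁ U)) (Restrict.isFormal 𝔛' h' _)
        h').hom.app (op P) (SigmaBase.τ h h' b eP a) := by
  rw [Main.ψOf_comp _ (Restrict.isFormal 𝔛' h' _) (Restrict.isFormal 𝔛 h U) (FSch.Hom.restrictOpen b h' h U) e a,
    ψOf_iso h e he a]
  exact (sharp_τ h h' _ b _ (FSch.Hom.restrictOpen b h' h U) (FSch.Hom.restrictOpen_ι b h' h U).symm eP a).symm

theorem mem_U_of_mem_D {𝔛' : FSch.Sys.{u}} (h' : 𝔛'.IsFormal) {U' P : (𝔛'.X 0).Opens} (eP : P ≤ U') {n : ℕ}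
    (g : Fin n → Levels.A (𝔛'.restrictOpen h' U') (Restrict.isFormal 𝔛' h' U') ⊤) (x : Fin n → Levels.A 𝔛' h' P)
    (hg : ∀ l, Ideal.r (((𝔛'.restrictOpenι h' U' : FSch.Hom _ 𝔛').app 0) ⁻¹ᵁ P) (g l) =
      (FSch.Hom.sharp (𝔛'.restrictOpenι h' U') (Restrict.isFormal 𝔛' h' U') h').hom.app (op P) (x l))
    (i j : Fin n) (d : Fin n → Levels.A 𝔛' h' P) (hd : ∀ l, x l = d l * x i)
    (hreg : ∀ (W : (𝔛'.X 0).Opens) (e : W ≤ P) (t : Levels.A 𝔛' h' W), t * CohLocal.res h' e (x i) = 0 → t = 0)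
    (z : (𝔛'.restrictOpen h' U').X 0)
    (hz : z ∈ ((𝔛'.restrictOpenι h' U' : FSch.Hom _ 𝔛').app 0) ⁻¹ᵁ Unit.D h' (d j)) :
    z ∈ Good.U (Restrict.isFormal 𝔛' h' U') g j := by
  have hU' := Restrict.isFormal 𝔛' h' U'
  have hWP : Unit.D h' (d j) ≤ P := Unit.D_le h' _
  let W' := ((𝔛'.restrictOpenι h' U' : FSch.Hom _ 𝔛').app 0) ⁻¹ᵁ Unit.D h' (d j)
  let sι : Levels.A 𝔛' h' (Unit.D h' (d j)) →+* Levels.A (𝔛'.restrictOpen h' U') hU' W' :=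
    ((FSch.Hom.sharp (𝔛'.restrictOpenι h' U') hU' h').hom.app (op (Unit.D h' (d j)))).hom
  refine ⟨W', hz, Good.isGood_of_isUnit hU' _ j (sι (CohLocal.res h' hWP (x i)))
    (fun l => sι (CohLocal.res h' hWP (d l))) (fun V e' t ht => ?_) (fun l => ?_)
    ((Unit.isUnit_res_D h' (d j)).map sι)⟩
  · obtain ⟨V', hV', rfl⟩ := Restrict.exists_eq_preimage 𝔛' h' U' V
    obtain ⟨t', rfl⟩ := (Restrict.bijective_sharp 𝔛' h' U' hV').2 t
    have hVW : V' ≤ Unit.D h' (d j) := fun y hy => by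
      exact e' (show (⟨y, (Unit.mem_lvU_zero h' y).2 (hV' hy)⟩ : (𝔛'.restrictOpen h' U').X 0) ∈ _ from hy)
    let σV : Levels.A 𝔛' h' V' →+* Levels.A (𝔛'.restrictOpen h' U') hU'
        (((𝔛'.restrictOpenι h' U' : FSch.Hom _ 𝔛').app 0) ⁻¹ᵁ V') :=
      ((FSch.Hom.sharp (𝔛'.restrictOpenι h' U') hU' h').hom.app (op V')).hom
    have h1 : σV t' * σV (CohLocal.res h' hVW (CohLocal.res h' hWP (x i))) = 0 :=
      (congrArg (fun w => σV t' * w)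
        (SchIdeal.res_sharp h' hU' (𝔛'.restrictOpenι h' U') hVW (CohLocal.res h' hWP (x i)))).trans ht
    have h2 : t' * CohLocal.res h' hVW (CohLocal.res h' hWP (x i)) = 0 :=
      (Restrict.bijective_sharp 𝔛' h' U' hV').1 (((map_mul σV t' _).trans h1).trans (map_zero σV).symm)
    have h3 : t' * CohLocal.res h' (hVW.trans hWP) (x i) = 0 :=
      (congrArg (fun w => t' * w) (FBlow.IdealSh.map_comp_apply (O := 𝔛'.Osh h') hWP hVW (x i)).symm).trans h2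
    exact (congrArg σV (hreg V' (hVW.trans hWP) t' h3)).trans (map_zero σV)
  · have h1 : Ideal.r W' (g l) = sι (CohLocal.res h' hWP (x l)) :=
      ((SchIdeal.res_sharp h' hU' (𝔛'.restrictOpenι h' U') hWP (x l)).trans ((congrArg _ (hg l).symm).trans
        (Ideal.res_r _ _))).symm
    rw [h1, hd, map_mul, map_mul]

theorem comp_eval {A S T B C : Type u} [CommRing A] [CommRing S] [CommRing T] [CommRing B] [CommRing C] {n : Type}
    (α : A →+* B) (τ : A →+* S) (σ : S →+* T) (φ : B →+* C) (ρ : C →+* T) (hkey : ∀ a, σ (τ a) = ρ (φ (α a)))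
    (d : n → S) (π : MvPolynomial n A →+* B) (hC : ∀ a, π (MvPolynomial.C a) = α a)
    (hX : ∀ j, σ (d j) = ρ (φ (π (MvPolynomial.X j)))) (q : MvPolynomial n A) :
    σ (MvPolynomial.eval₂Hom τ d q) = ρ (φ (π q)) := by
  refine RingHom.congr_fun (show σ.comp (MvPolynomial.eval₂Hom τ d) = (ρ.comp φ).comp π from
    MvPolynomial.ringHom_ext (fun a => ?_) fun j => ?_) q
  · rw [RingHom.comp_apply, RingHom.comp_apply, RingHom.comp_apply, MvPolynomial.eval₂Hom_C, hC]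
    exact hkey a
  · rw [RingHom.comp_apply, RingHom.comp_apply, RingHom.comp_apply, MvPolynomial.eval₂Hom_X']
    exact hX j

section Chart

variable {𝔛' : FSch.Sys.{u}} (h' : 𝔛'.IsFormal) {B : Type u} [CommRing B] (L : _root_.Ideal B)
  (hB : (FSch.spf B L).IsFormal) (v : FSch.spf B L ⟶ 𝔛')
  (hv : ∀ n, IsOpenImmersion ((v : FSch.Hom _ 𝔛').app n)) {P : (𝔛'.X 0).Opens}
  (hP : (P : Set (𝔛'.X 0)) = Set.range ((v : FSch.Hom _ 𝔛').app 0).base)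

include hv hP in
theorem regular_of_key (x : Levels.A 𝔛' h' P) (c : B)
    (hx : (FSch.Hom.sharp v hB h').hom.app (op P) x =
      Ideal.r (((v : FSch.Hom _ 𝔛').app 0) ⁻¹ᵁ P) (Spf.φ L hB c))
    (hc : ∃ e : ℕ, ∀ (N : ℕ) (b : B), c * b ∈ L ^ (N + e) → b ∈ L ^ N)
    {W : (𝔛'.X 0).Opens} (e : W ≤ P) (t : Levels.A 𝔛' h' W) (ht : t * CohLocal.res h' e x = 0) : t = 0 := by
  have hWr : (W : Set (𝔛'.X 0)) ⊆ Set.range ((v : FSch.Hom _ 𝔛').app 0).base := fun z hz => hP ▸ e hz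
  have hbW := OpenImm.bijective_sharp h' hB v hv hWr
  have e1 : (FSch.Hom.sharp v hB h').hom.app (op W) (CohLocal.res h' e x) =
      Ideal.r (((v : FSch.Hom _ 𝔛').app 0) ⁻¹ᵁ W) (Spf.φ L hB c) :=
    ((SchIdeal.res_sharp h' hB v e _).trans (congrArg _ hx)).trans (Ideal.res_r _ _)
  let σW : Levels.A 𝔛' h' W →+* Levels.A (FSch.spf B L) hB (((v : FSch.Hom _ 𝔛').app 0) ⁻¹ᵁ W) :=
    ((FSch.Hom.sharp v hB h').hom.app (op W)).hom
  have h1 : σW t * σW (CohLocal.res h' e x) = 0 :=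
    (map_mul σW _ _).symm.trans ((congrArg σW ht).trans (map_zero σW))
  have h2 := (congrArg (fun z => σW t * z) e1).symm.trans h1
  exact hbW.1 ((Spf.regular_φ L hB hc _ (σW t) h2).trans (map_zero σW).symm)

include hv hP in
theorem exists_sect (z : B) : ∃ d : Levels.A 𝔛' h' P,
    (FSch.Hom.sharp v hB h').hom.app (op P) d = Ideal.r (((v : FSch.Hom _ 𝔛').app 0) ⁻¹ᵁ P) (Spf.φ L hB z) :=
  (OpenImm.bijective_sharp h' hB v hv hP.le).2 _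

include hv hP in
theorem exists_approx {Q : Type u} [CommRing Q] (π : Q →+* B) (ev : Q →+* Levels.A 𝔛' h' P)
    (hev : ∀ q, (FSch.Hom.sharp v hB h').hom.app (op P) (ev q) =
      Ideal.r (((v : FSch.Hom _ 𝔛').app 0) ⁻¹ᵁ P) (Spf.φ L hB (π q)))
    (m : ℕ) (hdense : ∀ x : B, ∃ q, x - π q ∈ L ^ (m + 1)) (t : Levels.A 𝔛' h' P) :
    ∃ q, Levels.proj 𝔛' h' m P t = Levels.proj 𝔛' h' m P (ev q) := by
  have hV : ((v : FSch.Hom _ 𝔛').app 0) ⁻¹ᵁ P = ⊤ := top_le_iff.1 fun z _ =>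
    show ((v : FSch.Hom _ 𝔛').app 0).base z ∈ (P : Set (𝔛'.X 0)) from hP ▸ Set.mem_range_self z
  set V := ((v : FSch.Hom _ 𝔛').app 0) ⁻¹ᵁ P
  have := IdealLemmas.isClosedImmersion_specQuot B L m
  haveI : IsClosedImmersion (FSch.spfToSpec B L m) := this
  obtain ⟨y, hy⟩ := Spf.surjective_appLE (FSch.spfToSpec B L m) (isAffineOpen_top _)
    ((FSch.spf B L).lvU hB m V) le_top (fun z _ => by rw [hV]; trivial)
    (Levels.proj (FSch.spf B L) hB m V ((FSch.Hom.sharp v hB h').hom.app (op P) t))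
  let x := (Scheme.ΓSpecIso (CommRingCat.of B)).hom y
  have hx : Levels.proj (FSch.spf B L) hB m V (Ideal.r V (Spf.φ L hB x)) =
      Levels.proj (FSch.spf B L) hB m V ((FSch.Hom.sharp v hB h').hom.app (op P) t) := by
    refine (Sigma.proj_r_φq hB _ (FSch.spfToSpec_comm _ L) m V x).trans ?_
    rw [Iso.hom_inv_id_apply]
    exact hy
  obtain ⟨q, hq⟩ := hdense x
  refine ⟨q, injective_appLE h' hB v hv hP.le m ?_⟩
  rw [← SchIdeal.proj_sharp h' hB v m P t, ← SchIdeal.proj_sharp h' hB v m P (ev q)]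
  refine hx.symm.trans ((?_ : _ = _).trans (congrArg (Levels.proj (FSch.spf B L) hB m V) (hev q)).symm)
  have h0 := Spf.proj_ψOf_eq_zero hB L (𝟙 _) hq
  rw [Spf.ψOf_id, map_sub, map_sub, sub_eq_zero] at h0
  have h1 := congrArg (((FSch.spf B L).X m).presheaf.map (homOfLE (Sigma.lvU_mono hB m (le_top : V ≤ ⊤))).op) h0
  exact (Unit.proj_res hB m (le_top : V ≤ ⊤) _).trans (h1.trans (Unit.proj_res hB m (le_top : V ≤ ⊤) _).symm)

end Chart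

theorem eval_chart {A S T C : Type u} [CommRing A] [Algebra R A] [CommRing S] [CommRing T] [CommRing C] {r : ℕ}
    (f : Fin (r + 1) → A) (i : Fin (r + 1)) (τ : A →+* S) (σ : S →+* T) (φ : AdicRing.chartAdm I f i →+* C)
    (ρ : C →+* T) (hkey : ∀ a, σ (τ a) = ρ (φ (algebraMap A (AdicRing.chartAdm I f i) a))) (d : Fin (r + 1) → S)
    (hd : ∀ j (z : AdicRing.chartAdm I f i), algebraMap A (AdicRing.chartAdm I f i) (f j) =
      z * algebraMap A (AdicRing.chartAdm I f i) (f i) → σ (d j) = ρ (φ z))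
    (q : MvPolynomial {j // j ≠ i} A) :
    σ (MvPolynomial.eval₂Hom τ (fun j => d j.1) q) = ρ (φ (Chart.toAdm f i (_root_.Ideal.Quotient.mk _ q))) :=
  comp_eval (algebraMap A (AdicRing.chartAdm I f i)) τ σ φ ρ hkey (fun j => d j.1)
    ((Chart.toAdm (I := I) f i).comp (_root_.Ideal.Quotient.mk _))
    (fun a => (RingHom.comp_apply _ _ _).trans (Chart.toAdm_algebraMap f i a))
    (fun j => (hd j.1 _ (Chart.toAdm_X (I := I) f i j).symm).trans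
      (congrArg (fun z => ρ (φ z)) (RingHom.comp_apply _ _ _).symm)) q

theorem exists_pieces (hR : AdicRing.IsBase R I) {𝔛 : FSch.Sys.{u}} (h : 𝔛.IsFormal) (p : 𝔛 ⟶ FSch.spf R I)
    (hp : FSch.IsAdicHom p) (J : FBlow.IdealSh (𝔛.Osh h)) {U : (𝔛.X 0).Opens} (hU : IsAffineOpen U) {r k : ℕ}
    (f : Fin (r + 1) → Levels.A 𝔛 h U)
    (hk : I.map (AdmLocal.const I h p U) ^ k ≤ _root_.Ideal.span (Set.range f))
    (hgen : CohLocal.HGen h J U (_root_.Ideal.span (Set.range f)))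
    {𝔛' : FSch.Sys.{u}} (h' : 𝔛'.IsFormal) (b : 𝔛' ⟶ 𝔛) (hb : FBlow.IsAdmBlowUp b h' h J) :
    ∃ (P : Fin (r + 1) → (𝔛'.X 0).Opens) (eP : ∀ i, P i ≤ ((b : FSch.Hom 𝔛' 𝔛).app 0) ⁻¹ᵁ U),
      (∀ z ∈ ((b : FSch.Hom 𝔛' 𝔛).app 0) ⁻¹ᵁ U, ∃ i, z ∈ P i) ∧ (∀ i, IsAffineOpen (P i)) ∧
      (∀ (i : Fin (r + 1)) (W : (𝔛'.X 0).Opens) (e : W ≤ P i) (t : Levels.A 𝔛' h' W),
        t * CohLocal.res h' e (SigmaBase.τ h h' b (eP i) (f i)) = 0 → t = 0) ∧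
      ∃ d : ∀ i, Fin (r + 1) → Levels.A 𝔛' h' (P i),
        (∀ i j, SigmaBase.τ h h' b (eP i) (f j) = d i j * SigmaBase.τ h h' b (eP i) (f i)) ∧
        (∀ i j, Unit.D h' (d i j) ≤ P j) ∧
        ∀ i (m : ℕ) (t : Levels.A 𝔛' h' (P i)), ∃ (t' : Levels.A 𝔛' h' (P i)) (e : ℕ),
          ∃ a ∈ _root_.Ideal.span (Set.range f) ^ e, Levels.proj 𝔛' h' m (P i) t = Levels.proj 𝔛' h' m (P i) t' ∧
            SigmaBase.τ h h' b (eP i) a = t' * SigmaBase.τ h h' b (eP i) (f i) ^ e := by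
  classical
  have hI := Groth.Agent.Lib.Adic.Base.isBase_fg hR
  letI : Algebra R (Levels.A 𝔛 h U) := (AdmLocal.const I h p U).toAlgebra
  obtain ⟨e, he⟩ := SpfIso.exists_iso I h p hp hI hU
  have hX := LocalChart.isFormal_spf (Levels.A 𝔛 h U) (SpfIso.J I h p U)
  let U' := ((b : FSch.Hom 𝔛' 𝔛).app 0) ⁻¹ᵁ U
  let hU' := Restrict.isFormal 𝔛' h' U'
  let b₂ := FSch.Hom.restrictOpen b h' h U ≫ e.hom
  have hb₂ : FBlow.IsAdmBlowUp b₂ hU' hX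
      (FBlow.schIdealMap (FSch.spf (Levels.A 𝔛 h U) (SpfIso.J I h p U)) hX
        (FSch.spfToSpec _ (SpfIso.J I h p U)) (FSch.spfToSpec_comm _ (SpfIso.J I h p U))
        (FBlow.IdealSh.ofData (FSch.idealSpec _ (_root_.Ideal.span (Set.range f))))) := by
    refine Transport.isAdmBlowUp_comp_iso hX _ hU' _ _ (Transport.isAdmBlowUp_restrict h U h' b hb) e _ ?_
    exact SpfIso.idealMap_eq h hX e.hom _ _ he J _ hgen
  have hinv := hb₂.2.1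
  rw [Main.idealMap_range] at hinv
  have hopen : (I ^ k).map (algebraMap R (Levels.A 𝔛 h U)) ≤ _root_.Ideal.span (Set.range f) := by
    rw [_root_.Ideal.map_pow]; exact hk
  have hle : ∀ i, I.map (algebraMap R (Levels.A 𝔛 h U)) ≤
      (I.map (algebraMap R (AdicRing.chartAdm I f i))).comap
        (algebraMap (Levels.A 𝔛 h U) (AdicRing.chartAdm I f i)) := fun i =>
    _root_.Ideal.map_le_iff_le_comap.1 (Chart.map_ideal f i).le
  choose u hu huoi hurange using fun i =>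
    Main.exists_chart hI f hopen hX hU' b₂ hb₂ i (LocalChart.isFormal_spf _ _) (hle i)
  let JB := fun i => I.map (algebraMap R (AdicRing.chartAdm I f i))
  have hB := fun i => LocalChart.isFormal_spf (AdicRing.chartAdm I f i) (JB i)
  let v := fun i => u i ≫ 𝔛'.restrictOpenι h' U'
  have hvoi : ∀ i n, IsOpenImmersion ((v i : FSch.Hom _ 𝔛').app n) := fun i n => by
    rw [FSch.comp_app]
    exact MorphismProperty.comp_mem @IsOpenImmersion _ _ (huoi i n)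
      (inferInstanceAs (IsOpenImmersion (𝔛'.lvU h' n U').ι))
  let P : Fin (r + 1) → (𝔛'.X 0).Opens := fun i => haveI := hvoi i 0; ((v i : FSch.Hom _ 𝔛').app 0).opensRange
  have hPr : ∀ i, (P i : Set (𝔛'.X 0)) = Set.range ((v i : FSch.Hom _ 𝔛').app 0).base := fun i => rfl
  have eP : ∀ i, P i ≤ U' := by
    rintro i _ ⟨z, rfl⟩
    exact Transport.ι_mem h' U' _
  have hpre : ∀ i, ((v i : FSch.Hom _ 𝔛').app 0) ⁻¹ᵁ P i = ⊤ := fun i => top_le_iff.1 fun z _ => ⟨z, rfl⟩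
  have hAP : ∀ i, Function.Bijective ((FSch.Hom.sharp (v i) (hB i) h').hom.app (op (P i))) := fun i =>
    OpenImm.bijective_sharp h' (hB i) (v i) (hvoi i) (hPr i).le
  let α := fun i => algebraMap (Levels.A 𝔛 h U) (AdicRing.chartAdm I f i)
  let τ := fun i => SigmaBase.τ h h' b (eP i)
  let σ : ∀ i, Levels.A 𝔛' h' (P i) →+* Levels.A (FSch.spf (AdicRing.chartAdm I f i) (JB i)) (hB i)
      (((v i : FSch.Hom _ 𝔛').app 0) ⁻¹ᵁ P i) :=
    fun i => ((FSch.Hom.sharp (v i) (hB i) h').hom.app (op (P i))).hom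
  have hkey : ∀ i a, σ i (τ i a) = Ideal.r (((v i : FSch.Hom _ 𝔛').app 0) ⁻¹ᵁ P i) (Spf.φ _ (hB i) (α i a)) := by
    intro i a
    let g := u i ≫ FSch.Hom.restrictOpen b h' h U
    have hg : g ≫ e.hom = FSch.spfMap _ _ (α i) (hle i) := (Category.assoc _ _ _).trans (hu i)
    have hvb : v i ≫ b = g ≫ 𝔛.restrictOpenι h U := restrict_swap h h' b U (u i)
    exact sharp_τ_φ h h' (JB i) (hB i) b (v i) g hvb e.hom he (α i) (hle i) hg (eP i) a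
  have hreg : ∀ (i : Fin (r + 1)) (W : (𝔛'.X 0).Opens) (e : W ≤ P i) (t : Levels.A 𝔛' h' W),
      t * CohLocal.res h' e (τ i (f i)) = 0 → t = 0 := fun i W e' t ht =>
    regular_of_key h' (JB i) (hB i) (v i) (hvoi i) (hPr i) _ _ (hkey i (f i)) (Chart.shift (I := I) f i hopen) e' t ht
  have hd : ∀ i j, ∃ d : Levels.A 𝔛' h' (P i), τ i (f j) = d * τ i (f i) ∧
      ∀ z : AdicRing.chartAdm I f i, α i (f j) = z * α i (f i) →
        σ i d = Ideal.r (((v i : FSch.Hom _ 𝔛').app 0) ⁻¹ᵁ P i) (Spf.φ _ (hB i) z) := fun i j =>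
    exists_d (α i) (τ i) (σ i) (hAP i) (Spf.φ _ (hB i)) (Ideal.r _) (hkey i) (f j) (f i)
      (Chart.exists_dvd_gen (I := I) f i j) (fun w hw => Chart.regular_gen f i w hw)
  choose d hdeq hdσ using hd
  refine ⟨P, eP, fun z hz => ?_, fun i => ?_, hreg, d, hdeq, fun i j => ?_, fun i m t => ?_⟩
  · let z' : (𝔛'.restrictOpen h' U').X 0 := ⟨z, (Unit.mem_lvU_zero h' z).2 hz⟩
    obtain ⟨i, hi⟩ := Good.exists_mem_U hU' (fun j => Spf.ψOf hU' _ b₂ (f j)) hinv z'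
    have hz' : z' ∈ Set.range ((u i : FSch.Hom _ (𝔛'.restrictOpen h' U')).app 0).base := (hurange i).symm ▸ hi
    obtain ⟨w, hw⟩ := hz'
    exact ⟨i, w, congrArg Subtype.val hw⟩
  · have := hvoi i 0
    haveI : IsAffine ((FSch.spf (AdicRing.chartAdm I f i) (JB i)).X 0) :=
      inferInstanceAs (IsAffine (Spec _))
    exact isAffineOpen_opensRange _
  · intro z hz
    have hzi : z ∈ P i := Unit.D_le h' _ hz
    let z' : (𝔛'.restrictOpen h' U').X 0 := ⟨z, (Unit.mem_lvU_zero h' z).2 (eP i hzi)⟩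
    have hz'U : z' ∈ Good.U hU' (fun l => Spf.ψOf hU' _ b₂ (f l)) j :=
      mem_U_of_mem_D h' (eP i) (fun l => Spf.ψOf hU' _ b₂ (f l)) (fun l => τ i (f l))
        (fun l => ψOf_restrict h h' b e.hom he (eP i) (f l)) i j (d i) (hdeq i) (hreg i) z' hz
    have hz2 : z' ∈ Set.range ((u j : FSch.Hom _ (𝔛'.restrictOpen h' U')).app 0).base := (hurange j).symm ▸ hz'U
    obtain ⟨w, hw⟩ := hz2
    exact ⟨w, congrArg Subtype.val hw⟩
  · let ev : MvPolynomial {j // j ≠ i} (Levels.A 𝔛 h U) →+* Levels.A 𝔛' h' (P i) :=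
      MvPolynomial.eval₂Hom (τ i) fun j => d i j.1
    obtain ⟨Q, hQ⟩ := exists_approx h' (JB i) (hB i) (v i) (hvoi i) (hPr i)
      ((Chart.toAdm (I := I) f i).comp (_root_.Ideal.Quotient.mk _)) ev
      (fun q => eval_chart f i (τ i) (σ i) (Spf.φ _ (hB i)) (Ideal.r _) (hkey i) (d i) (hdσ i) q) m (fun x => by
        obtain ⟨c, hc⟩ := Chart.dense f i hI x m
        obtain ⟨q, rfl⟩ := _root_.Ideal.Quotient.mk_surjective c
        exact ⟨q, hc⟩) t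
    obtain ⟨N, a, ha, ea⟩ := exists_num (τ i) f i (d i) (hdeq i) Q
    exact ⟨ev Q, N, a, ha, hQ, ea⟩

end Groth.Agent.Lib.FBlowAff.Pieces
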