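import Groth.Agent.Lib.FBlowAff.Ideal
import Groth.Agent.H30.IdealLemmas
import Groth.Prelude.Def_FSch3

/-!
# Ideals generated on formal systems over an affine scheme (helper5)
-/

set_option autoImplicit false
set_option linter.style.haveILetI false

universe u

open CategoryTheory CategoryTheory.Limits TopologicalSpace Opposite AlgebraicGeometry
open Groth.Agent.H30

namespace Groth.Agent.Lib.FBlowAff.SchIdeal

section Sharp

variable {𝔛 𝔜 : FSch.Sys.{u}} (hX : 𝔛.IsFormal) (hY : 𝔜.IsFormal) (g : 𝔜 ⟶ 𝔛)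
  {Z : Scheme.{u}} (p : ∀ n, 𝔛.X n ⟶ Z) (hp : ∀ n, 𝔛.ι n ≫ p (n + 1) = p n)

/-- The composite family. -/
noncomputable abbrev comp (n : ℕ) : 𝔜.X n ⟶ Z := (g : FSch.Hom 𝔜 𝔛).app n ≫ p n

include hp in
theorem comp_comm (n : ℕ) : 𝔜.ι n ≫ comp g p (n + 1) = comp g p n := by
  rw [comp, comp, ← Category.assoc, ← (g : FSch.Hom 𝔜 𝔛).comm n, Category.assoc, hp]

omit g p hp in
theorem ext_proj {V : (𝔜.X 0).Opens} (x y : Levels.A 𝔜 hY V)
    (h : ∀ n, Levels.proj 𝔜 hY n V x = Levels.proj 𝔜 hY n V y) : x = y :=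
  sub_eq_zero.1 (Levels.ext_of_proj _ fun n => by rw [map_sub, h n, sub_self])

/-- Functions of `Z` as sections of the structure sheaf. -/
noncomputable abbrev sch (W : Z.Opens) : Γ(Z, W) ⟶ Levels.A 𝔛 hX (p 0 ⁻¹ᵁ W) :=
  (FSch.schSharp 𝔛 hX p hp).hom.app (op W)

theorem proj_sch (n : ℕ) (W : Z.Opens) (a : Γ(Z, W)) :
    Levels.proj 𝔛 hX n (p 0 ⁻¹ᵁ W) (sch hX p hp W a) =
      (p n).appLE W _ (FSch.lvU_p 𝔛 hX p hp n W).ge a :=
  congrArg (fun φ => φ.hom.app (op W) a) (FSch.schSharp_proj 𝔛 hX p hp n)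

theorem proj_sharp (n : ℕ) (U : (𝔛.X 0).Opens) (a : Levels.A 𝔛 hX U) :
    Levels.proj 𝔜 hY n ((g : FSch.Hom 𝔜 𝔛).app 0 ⁻¹ᵁ U) ((FSch.Hom.sharp g hY hX).hom.app (op U) a) =
      ((g : FSch.Hom 𝔜 𝔛).app n).appLE _ _ (FSch.Hom.lvU_preimage g hY hX n U).ge
        (Levels.proj 𝔛 hX n U a) :=
  congrArg (fun φ => φ.hom.app (op U) a) (FSch.Hom.sharp_proj g hY hX n)

theorem res_sch {W W' : Z.Opens} (i : W' ≤ W) (a : Γ(Z, W)) :
    sch hX p hp W' (Z.presheaf.map (homOfLE i).op a) =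
      (𝔛.Osh hX).obj.map (homOfLE (Scheme.Hom.preimage_mono (p 0) i)).op (sch hX p hp W a) :=
  ConcreteCategory.congr_hom ((FSch.schSharp 𝔛 hX p hp).hom.naturality (homOfLE i).op) a

theorem res_sharp {U U' : (𝔛.X 0).Opens} (i : U' ≤ U) (a : Levels.A 𝔛 hX U) :
    (FSch.Hom.sharp g hY hX).hom.app (op U') ((𝔛.Osh hX).obj.map (homOfLE i).op a) =
      (𝔜.Osh hY).obj.map (homOfLE (Scheme.Hom.preimage_mono ((g : FSch.Hom 𝔜 𝔛).app 0) i)).op
        ((FSch.Hom.sharp g hY hX).hom.app (op U) a) :=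
  ConcreteCategory.congr_hom ((FSch.Hom.sharp g hY hX).hom.naturality (homOfLE i).op) a

theorem sharp_sch (W : Z.Opens) (a : Γ(Z, W)) :
    (FSch.Hom.sharp g hY hX).hom.app (op (p 0 ⁻¹ᵁ W)) (sch hX p hp W a) =
      sch hY (comp g p) (comp_comm g p hp) W a := by
  refine ext_proj hY (V := (g : FSch.Hom 𝔜 𝔛).app 0 ⁻¹ᵁ (p 0 ⁻¹ᵁ W))
    ((FSch.Hom.sharp g hY hX).hom.app (op (p 0 ⁻¹ᵁ W)) (sch hX p hp W a))
    (sch hY (comp g p) (comp_comm g p hp) W a) fun n => ?_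
  refine (proj_sharp hX hY g n _ _).trans ?_
  rw [proj_sch]
  refine Eq.trans ?_ (proj_sch hY (comp g p) (comp_comm g p hp) n W a).symm
  exact ConcreteCategory.congr_hom (FSch.appLE_comp_appLE_of_eq _ (p n) _ rfl W _ _ _ _ _) a

theorem idealMap_schIdealMap (K : FBlow.IdealSh Z.sheaf) :
    FBlow.idealMap g hY hX (FBlow.schIdealMap 𝔛 hX p hp K) =
      FBlow.schIdealMap 𝔜 hY (comp g p) (comp_comm g p hp) K := by
  refine Ideal.ext_of_le (FBlow.IdealSh.map_le fun U a ha V j => ?_)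
    (FBlow.IdealSh.map_le fun W a ha V j => ?_)
  · refine FBlow.IdealSh.mem_of_local _ fun y hy => ?_
    obtain ⟨U', i, hyU', hU'⟩ := ha (((g : FSch.Hom 𝔜 𝔛).app 0).base y) (j hy)
    refine ⟨V ⊓ ((g : FSch.Hom 𝔜 𝔛).app 0) ⁻¹ᵁ U', inf_le_left, ⟨hy, hyU'⟩, ?_⟩
    have h1 : (FSch.Hom.sharp g hY hX).hom.app (op U') ((𝔛.Osh hX).obj.map (homOfLE i).op a) ∈
        (FBlow.schIdealMap 𝔜 hY (comp g p) (comp_comm g p hp) K).sect (((g : FSch.Hom 𝔜 𝔛).app 0) ⁻¹ᵁ U') := by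
      refine (show Ideal.span _ ≤ Ideal.comap ((FSch.Hom.sharp g hY hX).hom.app (op U')).hom
        ((FBlow.schIdealMap 𝔜 hY (comp g p) (comp_comm g p hp) K).sect _) from ?_) hU'
      rw [Ideal.span_le]
      rintro _ ⟨W', j', _, ⟨W, j'', a', ha', rfl⟩, rfl⟩
      rw [SetLike.mem_coe, Ideal.mem_comap, FBlow.IdealSh.map_comp_apply]
      refine (congrArg (· ∈ _) ?_).mpr (FBlow.IdealSh.image_mem_map (comp g p 0).base
        (FSch.schSharp 𝔜 hY (comp g p) (comp_comm g p hp)) K ha'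
        (V := ((g : FSch.Hom 𝔜 𝔛).app 0) ⁻¹ᵁ U')
        (fun z hz => j'' (j' hz)))
      refine (res_sharp hX hY g (j'.trans j'') (sch hX p hp W a')).trans ?_
      exact congrArg _ (sharp_sch hX hY g p hp W a')
    have h2 := (FBlow.schIdealMap 𝔜 hY (comp g p) (comp_comm g p hp) K).map_mem
      (inf_le_right : V ⊓ ((g : FSch.Hom 𝔜 𝔛).app 0) ⁻¹ᵁ U' ≤ _) h1
    refine (congrArg (· ∈ _) ?_).mpr h2
    rw [FBlow.IdealSh.map_comp_apply]
    refine Eq.trans ?_ (congrArg _ (res_sharp hX hY g i a)).symm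
    exact (FBlow.IdealSh.map_comp_apply (Scheme.Hom.preimage_mono _ i) inf_le_right _).symm
  · have h1 : sch hX p hp W a ∈ (FBlow.schIdealMap 𝔛 hX p hp K).sect (p 0 ⁻¹ᵁ W) := by
      have := FBlow.IdealSh.image_mem_map (p 0).base (FSch.schSharp 𝔛 hX p hp) K ha
        (V := p 0 ⁻¹ᵁ W) le_rfl
      rwa [FBlow.IdealSh.map_id_apply] at this
    have h2 := FBlow.IdealSh.image_mem_map ((g : FSch.Hom 𝔜 𝔛).app 0).base (FSch.Hom.sharp g hY hX)
      (FBlow.schIdealMap 𝔛 hX p hp K) h1 (V := V) j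
    rwa [sharp_sch hX hY g p hp W a] at h2

end Sharp

section Affine

variable {A : Type u} [CommRing A] {𝔜 : FSch.Sys.{u}} (hY : 𝔜.IsFormal)
  (q : ∀ n, 𝔜.X n ⟶ Spec (CommRingCat.of A)) (hq : ∀ n, 𝔜.ι n ≫ q (n + 1) = q n)

/-- The map from the ring to the global functions. -/
noncomputable def φq : A →+* Levels.A 𝔜 hY ⊤ :=
  (sch hY q hq ⊤).hom.comp (Scheme.ΓSpecIso (CommRingCat.of A)).inv.hom

theorem proj_φq (n : ℕ) (a : A) :
    Levels.proj 𝔜 hY n ⊤ (φq hY q hq a) =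
      (q n).appLE ⊤ _ (FSch.lvU_p 𝔜 hY q hq n ⊤).ge ((Scheme.ΓSpecIso (CommRingCat.of A)).inv a) :=
  proj_sch hY q hq n ⊤ _

theorem r_φq (W : (Spec (CommRingCat.of A)).Opens) (a : A) :
    Ideal.r (q 0 ⁻¹ᵁ W) (φq hY q hq a) =
      sch hY q hq W ((Spec (CommRingCat.of A)).presheaf.map (homOfLE le_top).op
        ((Scheme.ΓSpecIso (CommRingCat.of A)).inv a)) :=
  (ConcreteCategory.congr_hom ((FSch.schSharp 𝔜 hY q hq).hom.naturality (homOfLE (le_top : W ≤ ⊤)).op)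
    ((Scheme.ΓSpecIso (CommRingCat.of A)).inv a)).symm

/-- The generated ideal is generated by generators of the ideal of the ring. -/
theorem schIdealMap_ofData (S : Set A) :
    FBlow.schIdealMap 𝔜 hY q hq (FBlow.IdealSh.ofData (FSch.idealSpec A (_root_.Ideal.span S))) =
      Ideal.gens (φq hY q hq '' S) := by
  have htop := IdealLemmas.idealSpec_ideal_top A (_root_.Ideal.span S)
  refine Ideal.ext_of_le (FBlow.IdealSh.map_le fun W s hs V j => ?_) (Ideal.gens_le ?_)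
  · refine FBlow.IdealSh.mem_of_local _ fun y hy => ?_
    obtain ⟨V', i, hyV', hV'⟩ := hs ((q 0).base y) (j hy)
    obtain ⟨_, ⟨f, rfl⟩, hyf, hfV'⟩ := Opens.isBasis_iff_nbhd.1
      (PrimeSpectrum.isBasis_basic_opens (R := A)) hyV'
    let D : (Spec (CommRingCat.of A)).affineOpens :=
      ⟨PrimeSpectrum.basicOpen f, IsAffineOpen.Spec_basicOpen (R := CommRingCat.of A) f⟩
    have hD := FBlow.res_mem_ofData (FSch.idealSpec A (_root_.Ideal.span S)) (V := V') (W := D) hfV' hV'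
    rw [FBlow.sch_map_comp_apply,
      ← (FSch.idealSpec A (_root_.Ideal.span S)).map_ideal (U := D)
        (V := ⟨⊤, isAffineOpen_top _⟩) (le_top : D.1 ≤ ⊤), htop, _root_.Ideal.map_map,
      _root_.Ideal.map_span] at hD
    refine ⟨V ⊓ q 0 ⁻¹ᵁ D.1, inf_le_left, ⟨hy, hyf⟩, ?_⟩
    have h1 : sch hY q hq D.1 ((Spec (CommRingCat.of A)).presheaf.map
        (homOfLE (hfV'.trans i)).op s) ∈ (Ideal.gens (φq hY q hq '' S)).sect (q 0 ⁻¹ᵁ D.1) := by
      refine (show _root_.Ideal.span _ ≤ _root_.Ideal.comap (sch hY q hq D.1).hom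
        ((Ideal.gens (φq hY q hq '' S)).sect _) from ?_) hD
      rw [_root_.Ideal.span_le]
      rintro _ ⟨a, ha, rfl⟩
      rw [SetLike.mem_coe, _root_.Ideal.mem_comap]
      exact (r_φq hY q hq D.1 a) ▸ Ideal.r_mem_gens (Set.mem_image_of_mem _ ha) _
    have h2 := (Ideal.gens (φq hY q hq '' S)).map_mem
      (inf_le_right : V ⊓ q 0 ⁻¹ᵁ D.1 ≤ _) h1
    refine (congrArg (· ∈ _) ?_).mpr h2
    rw [FBlow.IdealSh.map_comp_apply]
    refine Eq.trans ?_ (congrArg _ (res_sch hY q hq (hfV'.trans i) s)).symm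
    exact (FBlow.IdealSh.map_comp_apply (Scheme.Hom.preimage_mono _ (hfV'.trans i)) inf_le_right _).symm
  · rintro _ ⟨a, ha, rfl⟩
    have hmem : (Scheme.ΓSpecIso (CommRingCat.of A)).inv a ∈
        (FBlow.IdealSh.ofData (FSch.idealSpec A (_root_.Ideal.span S))).sect ⊤ := fun x _ => by
      refine ⟨⟨⊤, isAffineOpen_top _⟩, le_rfl, trivial, ?_⟩
      rw [htop, show (Spec (CommRingCat.of A)).presheaf.map (homOfLE (le_refl ⊤)).op = 𝟙 _ from
        (congrArg _ (Subsingleton.elim _ (𝟙 _))).trans (CategoryTheory.Functor.map_id _ _)]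
      exact _root_.Ideal.mem_map_of_mem _ (_root_.Ideal.subset_span ha)
    have h := FBlow.IdealSh.image_mem_map (q 0).base (FSch.schSharp 𝔜 hY q hq) _ hmem
      (V := (⊤ : (𝔜.X 0).Opens)) le_rfl
    refine (congrArg (· ∈ _) ?_).mpr h
    exact (FBlow.IdealSh.map_id_apply (le_refl (⊤ : (𝔜.X 0).Opens)) _).symm

theorem idealMap_spec {𝔛 : FSch.Sys.{u}} (hX : 𝔛.IsFormal) (g : 𝔜 ⟶ 𝔛)
    (p : ∀ n, 𝔛.X n ⟶ Spec (CommRingCat.of A)) (hp : ∀ n, 𝔛.ι n ≫ p (n + 1) = p n) (S : Set A) :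
    FBlow.idealMap g hY hX (FBlow.schIdealMap 𝔛 hX p hp
        (FBlow.IdealSh.ofData (FSch.idealSpec A (_root_.Ideal.span S)))) =
      Ideal.gens (φq hY (comp g p) (comp_comm g p hp) '' S) := by
  rw [idealMap_schIdealMap, schIdealMap_ofData]

end Affine

end Groth.Agent.Lib.FBlowAff.SchIdeal
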