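import Groth.Agent.Lib.FBlowAff.Spf
import Groth.Agent.Lib.Ferrand.Def

/-!
# Levels over the spectrum of the functions on an open (helper5)
-/

set_option autoImplicit false
set_option linter.style.haveILetI false

universe u

open CategoryTheory CategoryTheory.Limits TopologicalSpace Opposite AlgebraicGeometry
open Groth.Agent.H30

namespace Groth.Agent.Lib.FBlowAff.Sigma

variable {𝔜 : FSch.Sys.{u}} (hY : 𝔜.IsFormal)

/-- The level of an open over the spectrum of its functions. -/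
noncomputable def σ (n : ℕ) (V : (𝔜.X 0).Opens) :
    (𝔜.lvU hY n V).toScheme ⟶ Spec (Levels.A 𝔜 hY V) :=
  (𝔜.lvU hY n V).toSpecΓ ≫ Spec.map (Levels.proj 𝔜 hY n V)

theorem lvU_mono (n : ℕ) {V V' : (𝔜.X 0).Opens} (i : V' ≤ V) : 𝔜.lvU hY n V' ≤ 𝔜.lvU hY n V :=
  fun _ hz => i hz

theorem σ_res (n : ℕ) {V V' : (𝔜.X 0).Opens} (i : V' ≤ V) :
    (𝔜.X n).homOfLE (lvU_mono hY n i) ≫ σ hY n V =
      σ hY n V' ≫ Spec.map ((𝔜.Osh hY).obj.map (homOfLE i).op) := by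
  rw [σ, σ, ← Scheme.Opens.toSpecΓ_SpecMap_presheaf_map_assoc, Category.assoc, ← Spec.map_comp,
    ← Spec.map_comp]
  congr 2
  exact ((𝔜.OshProj hY n).hom.naturality (homOfLE i).op).symm

theorem σ_ι (n : ℕ) (V : (𝔜.X 0).Opens) :
    (𝔜.ι n).resLE (𝔜.lvU hY (n + 1) V) (𝔜.lvU hY n V) (𝔜.lvU_le hY n V) ≫ σ hY (n + 1) V =
      σ hY n V := by
  rw [σ, σ, ← Scheme.Opens.toSpecΓ_SpecMap_appLE_assoc, ← Spec.map_comp]
  congr 2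
  exact Levels.proj_trans 𝔜 hY n V

variable {A : Type u} [CommRing A] (q : ∀ n, 𝔜.X n ⟶ Spec (CommRingCat.of A))
  (hq : ∀ n, 𝔜.ι n ≫ q (n + 1) = q n)

/-- The map of spectra of functions to the base. -/
noncomputable def τ (V : (𝔜.X 0).Opens) : Spec (Levels.A 𝔜 hY V) ⟶ Spec (CommRingCat.of A) :=
  Spec.map (CommRingCat.ofHom ((Ideal.r V).comp (SchIdeal.φq hY q hq)))

theorem proj_r_φq (n : ℕ) (V : (𝔜.X 0).Opens) (a : A) :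
    Levels.proj 𝔜 hY n V (Ideal.r V (SchIdeal.φq hY q hq a)) =
      (q n).appLE ⊤ (𝔜.lvU hY n V) le_top ((Scheme.ΓSpecIso (CommRingCat.of A)).inv a) := by
  refine (ConcreteCategory.congr_hom ((𝔜.OshProj hY n).hom.naturality (homOfLE (le_top : V ≤ ⊤)).op)
    (SchIdeal.φq hY q hq a)).trans ?_
  show (𝔜.X n).presheaf.map (homOfLE (lvU_mono hY n (le_top : V ≤ ⊤))).op
    (Levels.proj 𝔜 hY n ⊤ (SchIdeal.φq hY q hq a)) = _
  rw [SchIdeal.proj_φq]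
  exact ConcreteCategory.congr_hom (Scheme.Hom.appLE_map (q n) _ _) _

theorem σ_τ (n : ℕ) (V : (𝔜.X 0).Opens) :
    σ hY n V ≫ τ hY q hq V = (𝔜.lvU hY n V).ι ≫ q n := by
  have e : CommRingCat.ofHom ((Ideal.r V).comp (SchIdeal.φq hY q hq)) ≫ Levels.proj 𝔜 hY n V =
      (Scheme.ΓSpecIso (CommRingCat.of A)).inv ≫ (q n).appLE ⊤ (𝔜.lvU hY n V) le_top := by
    ext a
    exact proj_r_φq hY q hq n V a
  rw [σ, τ, Category.assoc, ← Spec.map_comp, e, Spec.map_comp, Scheme.Opens.toSpecΓ_SpecMap_appLE_assoc,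
    Scheme.Opens.toSpecΓ_top, Category.assoc, toSpecΓ_SpecMap_ΓSpecIso_inv, Category.comp_id,
    Scheme.Hom.resLE_comp_ι]

variable {P : Scheme.{u}} (m : ∀ n, 𝔜.X n ⟶ P) (hm : ∀ n, 𝔜.ι n ≫ m (n + 1) = m n)

/-- Functions of an affine open on an open of its trace. -/
noncomputable def θ {W : P.Opens} {V : (𝔜.X 0).Opens} (e : V ≤ m 0 ⁻¹ᵁ W) :
    Γ(P, W) ⟶ Levels.A 𝔜 hY V :=
  SchIdeal.sch hY m hm W ≫ (𝔜.Osh hY).obj.map (homOfLE e).op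

theorem lvU_le_preimage (n : ℕ) {W : P.Opens} {V : (𝔜.X 0).Opens} (e : V ≤ m 0 ⁻¹ᵁ W)
    (hm' : ∀ n, 𝔜.ι n ≫ m (n + 1) = m n) : 𝔜.lvU hY n V ≤ m n ⁻¹ᵁ W :=
  (lvU_mono hY n e).trans (FSch.lvU_p 𝔜 hY m hm' n W).ge

theorem proj_θ (n : ℕ) {W : P.Opens} {V : (𝔜.X 0).Opens} (e : V ≤ m 0 ⁻¹ᵁ W) :
    θ hY m hm e ≫ Levels.proj 𝔜 hY n V =
      (m n).appLE W (𝔜.lvU hY n V) (lvU_le_preimage hY m n e hm) := by
  ext a
  refine (ConcreteCategory.congr_hom ((𝔜.OshProj hY n).hom.naturality (homOfLE e).op) _).trans ?_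
  show (𝔜.X n).presheaf.map (homOfLE (lvU_mono hY n e)).op (Levels.proj 𝔜 hY n _ (SchIdeal.sch hY m hm W a)) = _
  rw [SchIdeal.proj_sch]
  exact ConcreteCategory.congr_hom (Scheme.Hom.appLE_map (m n) _ _) _

theorem σ_fromSpec (n : ℕ) {W : P.Opens} (hW : IsAffineOpen W) {V : (𝔜.X 0).Opens} (e : V ≤ m 0 ⁻¹ᵁ W) :
    σ hY n V ≫ Spec.map (θ hY m hm e) ≫ hW.fromSpec = (𝔜.lvU hY n V).ι ≫ m n := by
  rw [σ, Category.assoc, ← Spec.map_comp_assoc, proj_θ, Scheme.Opens.toSpecΓ_SpecMap_appLE_assoc,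
    IsAffineOpen.toSpecΓ_fromSpec, Scheme.Hom.resLE_comp_ι]

theorem θ_appLE (qP : P ⟶ Spec (CommRingCat.of A)) (hqP : ∀ n, m n ≫ qP = q n) {W : P.Opens}
    {V : (𝔜.X 0).Opens} (e : V ≤ m 0 ⁻¹ᵁ W) (a : A) :
    θ hY m hm e (qP.appLE ⊤ W le_top ((Scheme.ΓSpecIso (CommRingCat.of A)).inv a)) =
      Ideal.r V (SchIdeal.φq hY q hq a) := by
  refine SchIdeal.ext_proj hY _ _ fun n => ?_
  rw [proj_r_φq, ← ConcreteCategory.comp_apply, proj_θ, ← ConcreteCategory.comp_apply]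
  refine ConcreteCategory.congr_hom ?_ _
  exact FSch.appLE_comp_appLE_of_eq (m n) qP (q n) (hqP n) ⊤ W _ _ _ _

theorem θ_comp (qP : P ⟶ Spec (CommRingCat.of A)) (hqP : ∀ n, m n ≫ qP = q n) {W : P.Opens}
    (hW : IsAffineOpen W) {V : (𝔜.X 0).Opens} (e : V ≤ m 0 ⁻¹ᵁ W) :
    (Spec.map (θ hY m hm e) ≫ hW.fromSpec) ≫ qP = τ hY q hq V := by
  rw [Category.assoc, ← IsAffineOpen.SpecMap_appLE_fromSpec qP (isAffineOpen_top _) hW le_top,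
    IsAffineOpen.fromSpec_top, Scheme.isoSpec_Spec_inv, τ, ← Spec.map_comp, ← Spec.map_comp]
  congr 1
  ext a
  exact θ_appLE hY q hq m hm qP hqP e a

/-- Gluing on the levels of a cover. -/
theorem exists_glue (n : ℕ) {J : Type u} (D : J → (𝔜.X 0).Opens) (hD : ∀ x, ∃ i, x ∈ D i)
    {T : Scheme.{u}} (w : ∀ i, (𝔜.lvU hY n (D i)).toScheme ⟶ T)
    (hw : ∀ i j, (𝔜.X n).homOfLE (lvU_mono hY n (inf_le_left : D i ⊓ D j ≤ D i)) ≫ w i =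
      (𝔜.X n).homOfLE (lvU_mono hY n (inf_le_right : D i ⊓ D j ≤ D j)) ≫ w j) :
    ∃ W : 𝔜.X n ⟶ T, ∀ i, (𝔜.lvU hY n (D i)).ι ≫ W = w i := by
  obtain ⟨W, hW⟩ := Groth.Agent.Lib.Ferrand.exists_glue (fun i => 𝔜.lvU hY n (D i)) ⊤
    (top_le_iff.1 fun x _ => Opens.mem_iSup.2 (hD (𝔜.gInv hY n x))) w hw
  refine ⟨(𝔜.X n).topIso.inv ≫ W, fun i => ?_⟩
  rw [← Category.assoc, ← hW i le_top]
  congr 1
  rw [← cancel_mono (𝔜.X n).topIso.hom]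
  simp

theorem hom_ext (n : ℕ) {T : Scheme.{u}} {f f' : 𝔜.X n ⟶ T}
    (h : ∀ x : 𝔜.X 0, ∃ V : (𝔜.X 0).Opens, x ∈ V ∧ (𝔜.lvU hY n V).ι ≫ f = (𝔜.lvU hY n V).ι ≫ f') :
    f = f' :=
  Scheme.hom_ext_of_forall _ _ fun z => by
    obtain ⟨V, hV, e⟩ := h (𝔜.gInv hY n z)
    exact ⟨𝔜.lvU hY n V, hV, e⟩

end Groth.Agent.Lib.FBlowAff.Sigma
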