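import Groth.Agent.Lib.FBlowAff.SchIdeal
import Groth.Agent.H30.Spf

/-!
# Morphisms into a formal spectrum and regular functions on it (helper5)
-/

set_option autoImplicit false
set_option linter.style.haveILetI false

universe u

open CategoryTheory CategoryTheory.Limits TopologicalSpace Opposite AlgebraicGeometry
open Groth.Agent.H30

namespace Groth.Agent.Lib.FBlowAff.Spf

open SchIdeal

theorem proj_eq_zero_of_add {𝔛 : FSch.Sys.{u}} (hX : 𝔛.IsFormal) {V : (𝔛.X 0).Opens} {n e : ℕ}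
    (x : Levels.A 𝔛 hX V) (hx : Levels.proj 𝔛 hX (n + e) V x = 0) : Levels.proj 𝔛 hX n V x = 0 := by
  induction e with
  | zero => exact hx
  | succ e ih =>
    refine ih ?_
    rw [← Levels.proj_trans 𝔛 hX (n + e) V]
    show Levels.trans 𝔛 hX (n + e) V (Levels.proj 𝔛 hX (n + e + 1) V x) = 0
    rw [show Levels.proj 𝔛 hX (n + e + 1) V x = 0 from hx, map_zero]

section Hom

variable {A : Type u} [CommRing A] {𝔜 : FSch.Sys.{u}} (hY : 𝔜.IsFormal)

theorem lvU_top (n : ℕ) : 𝔜.lvU hY n ⊤ = ⊤ := rfl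

/-- The level of a map into the global functions, into the global functions of the level. -/
noncomputable def lev (ψ : A →+* Levels.A 𝔜 hY ⊤) (n : ℕ) : CommRingCat.of A ⟶ Γ(𝔜.X n, ⊤) :=
  CommRingCat.ofHom ψ ≫ Levels.proj 𝔜 hY n ⊤ ≫ (𝔜.X n).presheaf.map (homOfLE (lvU_top hY n).ge).op

/-- The map to the spectrum given by a map into global functions. -/
noncomputable def toSpec (ψ : A →+* Levels.A 𝔜 hY ⊤) (n : ℕ) : 𝔜.X n ⟶ Spec (CommRingCat.of A) :=
  (𝔜.X n).toSpecΓ ≫ Spec.map (lev hY ψ n)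

theorem appTop_toSpec (ψ : A →+* Levels.A 𝔜 hY ⊤) (n : ℕ) :
    (toSpec hY ψ n).appTop = (Scheme.ΓSpecIso (CommRingCat.of A)).hom ≫ lev hY ψ n := by
  rw [toSpec, Scheme.Hom.comp_appTop, Scheme.toSpecΓ_appTop, Scheme.ΓSpecIso_naturality]

theorem appLE_top_eq {X Y : Scheme.{u}} (f : X ⟶ Y) (V : X.Opens) (e : V ≤ f ⁻¹ᵁ ⊤) :
    f.appLE ⊤ V e = f.appTop ≫ X.presheaf.map (homOfLE (le_top : V ≤ ⊤)).op := rfl

theorem proj_φq_eq (q : ∀ n, 𝔜.X n ⟶ Spec (CommRingCat.of A))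
    (hq : ∀ n, 𝔜.ι n ≫ q (n + 1) = q n) (n : ℕ) (a : A) :
    Levels.proj 𝔜 hY n ⊤ (φq hY q hq a) =
      (𝔜.X n).presheaf.map (homOfLE (le_top : 𝔜.lvU hY n ⊤ ≤ ⊤)).op
        ((q n).appTop ((Scheme.ΓSpecIso (CommRingCat.of A)).inv a)) := by
  rw [proj_φq, appLE_top_eq]
  rfl

theorem eq_toSpec (q : ∀ n, 𝔜.X n ⟶ Spec (CommRingCat.of A))
    (hq : ∀ n, 𝔜.ι n ≫ q (n + 1) = q n) (n : ℕ) : q n = toSpec hY (φq hY q hq) n := by
  refine ext_of_isAffine ?_
  rw [appTop_toSpec, ← cancel_epi (Scheme.ΓSpecIso (CommRingCat.of A)).inv,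
    Iso.inv_hom_id_assoc]
  ext a
  show (q n).appTop _ = (𝔜.X n).presheaf.map _ (Levels.proj 𝔜 hY n ⊤ (φq hY q hq a))
  rw [proj_φq_eq, FBlow.sch_map_comp_apply]
  exact (ConcreteCategory.congr_hom (CategoryTheory.Functor.map_id (𝔜.X n).presheaf (op ⊤)) _).symm

theorem toSpec_comm (ψ : A →+* Levels.A 𝔜 hY ⊤) (n : ℕ) :
    𝔜.ι n ≫ toSpec hY ψ (n + 1) = toSpec hY ψ n := by
  refine ext_of_isAffine ?_
  rw [Scheme.Hom.comp_appTop, appTop_toSpec, appTop_toSpec, Category.assoc]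
  refine congrArg _ ?_
  ext a
  show (𝔜.ι n).appTop _ = (𝔜.X n).presheaf.map _ (Levels.proj 𝔜 hY n ⊤ (ψ a))
  rw [← Levels.proj_trans 𝔜 hY n ⊤]
  show ((𝔜.X (n + 1)).presheaf.map _ ≫ (𝔜.ι n).appTop) (Levels.proj 𝔜 hY (n + 1) ⊤ (ψ a)) =
    (Levels.trans 𝔜 hY n ⊤ ≫ (𝔜.X n).presheaf.map _) (Levels.proj 𝔜 hY (n + 1) ⊤ (ψ a))
  refine ConcreteCategory.congr_hom ?_ _
  have e : (𝔜.ι n).appTop = (𝔜.ι n).appLE ⊤ ⊤ le_rfl := Scheme.Hom.app_eq_appLE _
  rw [Levels.trans, e, Scheme.Hom.map_appLE, Scheme.Hom.appLE_map]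

theorem φq_toSpec (ψ : A →+* Levels.A 𝔜 hY ⊤) :
    φq hY (toSpec hY ψ) (toSpec_comm hY ψ) = ψ := by
  refine RingHom.ext fun a => ext_proj hY _ _ fun n => ?_
  rw [proj_φq_eq, appTop_toSpec]
  show (𝔜.X n).presheaf.map _ (lev hY ψ n
    ((Scheme.ΓSpecIso (CommRingCat.of A)).hom ((Scheme.ΓSpecIso (CommRingCat.of A)).inv a))) = _
  rw [Iso.inv_hom_id_apply]
  show (𝔜.X n).presheaf.map _ ((𝔜.X n).presheaf.map _ (Levels.proj 𝔜 hY n ⊤ (ψ a))) = _
  rw [FBlow.sch_map_comp_apply]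
  exact ConcreteCategory.congr_hom (CategoryTheory.Functor.map_id (𝔜.X n).presheaf (op (𝔜.lvU hY n ⊤))) _

variable (I : _root_.Ideal A)

/-- The map on functions of a morphism into a formal spectrum. -/
noncomputable def ψOf (g : 𝔜 ⟶ FSch.spf A I) : A →+* Levels.A 𝔜 hY ⊤ :=
  φq hY (comp g fun n => FSch.spfToSpec A I n) (comp_comm g _ (FSch.spfToSpec_comm A I))

theorem proj_ψOf_eq_zero (g : 𝔜 ⟶ FSch.spf A I) {n : ℕ} {a : A} (ha : a ∈ I ^ (n + 1)) :
    Levels.proj 𝔜 hY n ⊤ (ψOf hY I g a) = 0 := by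
  rw [ψOf, proj_φq_eq]
  have h : (CohB1.specQuot I n).appTop ((Scheme.ΓSpecIso (CommRingCat.of A)).inv a) = 0 := by
    have := ConcreteCategory.congr_hom
      (Scheme.ΓSpecIso_inv_naturality (CommRingCat.ofHom (_root_.Ideal.Quotient.mk (I ^ (n + 1))))) a
    refine this.symm.trans ?_
    show (Scheme.ΓSpecIso (CommRingCat.of (A ⧸ I ^ (n + 1)))).inv (_root_.Ideal.Quotient.mk (I ^ (n + 1)) a) = 0
    rw [_root_.Ideal.Quotient.eq_zero_iff_mem.2 ha, map_zero]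
  show (𝔜.X n).presheaf.map _ ((((g : FSch.Hom _ _).app n ≫ FSch.spfToSpec A I n)).appTop _) = 0
  rw [Scheme.Hom.comp_appTop]
  show (𝔜.X n).presheaf.map _ (((g : FSch.Hom _ _).app n).appTop _) = 0
  erw [h, map_zero, map_zero]

theorem ψOf_injective {g g' : 𝔜 ⟶ FSch.spf A I} (h : ψOf hY I g = ψOf hY I g') : g = g' := by
  refine FSch.Hom.ext (funext fun n => ?_)
  have := IdealLemmas.isClosedImmersion_specQuot A I n
  refine (cancel_mono (CohB1.specQuot I n)).1 ?_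
  have e1 := eq_toSpec hY (comp g fun n => FSch.spfToSpec A I n) (comp_comm g _ (FSch.spfToSpec_comm A I)) n
  have e2 := eq_toSpec hY (comp g' fun n => FSch.spfToSpec A I n) (comp_comm g' _ (FSch.spfToSpec_comm A I)) n
  exact e1.trans ((congrArg (fun ψ => toSpec hY ψ n) h).trans e2.symm)

theorem exists_ψOf_eq (ψ : A →+* Levels.A 𝔜 hY ⊤)
    (hψ : ∀ n, ∀ a ∈ I ^ (n + 1), Levels.proj 𝔜 hY n ⊤ (ψ a) = 0) :
    ∃ g : 𝔜 ⟶ FSch.spf A I, ψOf hY I g = ψ := by
  have hker : ∀ n, ∀ a ∈ I ^ (n + 1), (lev hY ψ n).hom a = 0 := fun n a ha => by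
    show (𝔜.X n).presheaf.map _ (Levels.proj 𝔜 hY n ⊤ (ψ a)) = 0
    rw [hψ n a ha, map_zero]
  let χ : ∀ n, CommRingCat.of (A ⧸ I ^ (n + 1)) ⟶ Γ(𝔜.X n, ⊤) := fun n =>
    CommRingCat.ofHom (_root_.Ideal.Quotient.lift _ (lev hY ψ n).hom (hker n))
  let app : ∀ n, 𝔜.X n ⟶ (FSch.spf A I).X n := fun n => (𝔜.X n).toSpecΓ ≫ Spec.map (χ n)
  have happ : ∀ n, app n ≫ CohB1.specQuot I n = toSpec hY ψ n := fun n => by
    show (_ ≫ Spec.map (χ n)) ≫ Spec.map (CommRingCat.ofHom (_root_.Ideal.Quotient.mk _)) = _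
    rw [Category.assoc, ← Spec.map_comp]
    rfl
  have hcomm : ∀ n, app n ≫ (FSch.spf A I).ι n = 𝔜.ι n ≫ app (n + 1) := fun n => by
    have := IdealLemmas.isClosedImmersion_specQuot A I (n + 1)
    refine (cancel_mono (CohB1.specQuot I (n + 1))).1 ?_
    exact ((Category.assoc _ _ _).trans ((congrArg (app n ≫ ·)
      (CohB1.specQuotTrans_specQuot I n)).trans (happ n))).trans
      (((Category.assoc _ _ _).trans ((congrArg (𝔜.ι n ≫ ·) (happ (n + 1))).trans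
        (toSpec_comm hY ψ n))).symm)
  let g : 𝔜 ⟶ FSch.spf A I := ⟨app, hcomm⟩
  refine ⟨g, RingHom.ext fun a => ext_proj hY _ _ fun n => ?_⟩
  have h1 := RingHom.congr_fun (φq_toSpec hY ψ) a
  rw [← h1, ψOf, proj_φq_eq, proj_φq_eq]
  show (𝔜.X n).presheaf.map _ ((app n ≫ CohB1.specQuot I n).appTop _) = _
  rw [happ]

theorem ψOf_comp_spfMap {B : Type u} [CommRing B] (K : _root_.Ideal B) (φ : B →+* A)
    (h : K ≤ I.comap φ) (g : 𝔜 ⟶ FSch.spf A I) :
    ψOf hY K (g ≫ FSch.spfMap I K φ h) = (ψOf hY I g).comp φ := by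
  refine RingHom.ext fun b => ext_proj hY _ _ fun n => ?_
  rw [RingHom.comp_apply, ψOf, ψOf, proj_φq_eq, proj_φq_eq]
  refine congrArg _ ?_
  have e : ((g ≫ FSch.spfMap I K φ h : _) : FSch.Hom _ _).app n ≫ FSch.spfToSpec B K n =
      ((g : FSch.Hom _ _).app n ≫ FSch.spfToSpec A I n) ≫ Spec.map (CommRingCat.ofHom φ) := by
    rw [FSch.comp_app, Category.assoc, Category.assoc, Groth.Agent.H30.Spf.spfMap_app_comp_spfToSpec]
  show ((((g ≫ FSch.spfMap I K φ h : _) : FSch.Hom _ _).app n ≫ FSch.spfToSpec B K n)).appTop _ = _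
  rw [e, Scheme.Hom.comp_appTop]
  exact congrArg (fun z => ((g : FSch.Hom _ _).app n ≫ FSch.spfToSpec A I n).appTop z)
    (ConcreteCategory.congr_hom (Scheme.ΓSpecIso_inv_naturality (CommRingCat.ofHom φ)) b).symm

end Hom

section Regular

variable {A : Type u} [CommRing A] (I : _root_.Ideal A)

/-- Functions on a basic open as an algebra over the ring. -/
@[local instance, reducible] noncomputable def algD (f : A) :
    Algebra A Γ(Spec (CommRingCat.of A), PrimeSpectrum.basicOpen f) :=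
  (fun (R : CommRingCat.{u}) (U : (Spec R).Opens) => (inferInstance : Algebra R Γ(Spec R, U)))
    (CommRingCat.of A) _

/-- Functions on a basic open form the localization. -/
@[local instance] theorem isLocD (f : A) :
    IsLocalization.Away f Γ(Spec (CommRingCat.of A), PrimeSpectrum.basicOpen f) :=
  (fun (R : CommRingCat.{u}) (g : R) =>
    (inferInstance : IsLocalization.Away g Γ(Spec R, PrimeSpectrum.basicOpen g))) (CommRingCat.of A) f

theorem appLE_spfToSpec_eq_zero_iff (n : ℕ) (f : A) (hX : (FSch.spf A I).IsFormal)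
    (x : Γ(Spec (CommRingCat.of A), PrimeSpectrum.basicOpen f)) :
    (FSch.spfToSpec A I n).appLE (PrimeSpectrum.basicOpen f)
      ((FSch.spf A I).lvU hX n (FSch.spfToSpec A I 0 ⁻¹ᵁ PrimeSpectrum.basicOpen f))
      (FSch.lvU_p (FSch.spf A I) hX (fun n => FSch.spfToSpec A I n) (FSch.spfToSpec_comm A I) n _).ge x = 0 ↔
      x ∈ (I ^ (n + 1)).map (algebraMap A Γ(Spec (CommRingCat.of A), PrimeSpectrum.basicOpen f)) := by
  let D : (Spec (CommRingCat.of A)).affineOpens :=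
    ⟨PrimeSpectrum.basicOpen f, IsAffineOpen.Spec_basicOpen (R := CommRingCat.of A) f⟩
  have h1 : (FSch.idealSpec A (I ^ (n + 1))).ideal D =
      (I ^ (n + 1)).map (algebraMap A Γ(Spec (CommRingCat.of A), PrimeSpectrum.basicOpen f)) := by
    rw [← (FSch.idealSpec A (I ^ (n + 1))).map_ideal (U := D) (V := ⟨⊤, isAffineOpen_top _⟩)
      (le_top : D.1 ≤ ⊤), IdealLemmas.idealSpec_ideal_top, _root_.Ideal.map_map]
    rfl
  have := IdealLemmas.isClosedImmersion_specQuot A I n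
  rw [← h1, ← IdealLemmas.idealSpec_pow, ← IdealLemmas.ker_specQuot A I n, Scheme.Hom.ker_apply,
    ← Levels.ker_appLE_eq (CohB1.specQuot I n) D.1 _
      (FSch.lvU_p (FSch.spf A I) hX (fun n => FSch.spfToSpec A I n) (FSch.spfToSpec_comm A I) n _).ge
      (FSch.lvU_p (FSch.spf A I) hX (fun n => FSch.spfToSpec A I n) (FSch.spfToSpec_comm A I) n _).le]
  exact Iff.rfl

theorem surjective_appLE {X Y : Scheme.{u}} (q : X ⟶ Y) [IsClosedImmersion q] {U : Y.Opens}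
    (hU : IsAffineOpen U) (V : X.Opens) (e : V ≤ q ⁻¹ᵁ U) (e' : q ⁻¹ᵁ U ≤ V) :
    Function.Surjective (q.appLE U V e) := by
  intro y
  obtain rfl : V = q ⁻¹ᵁ U := le_antisymm e e'
  rw [← Scheme.Hom.app_eq_appLE]
  exact Scheme.Hom.app_surjective q U hU y

/-- The functions of a formal spectrum given by the ring. -/
noncomputable abbrev φ (hX : (FSch.spf A I).IsFormal) : A →+* Levels.A (FSch.spf A I) hX ⊤ :=
  φq hX (fun n => FSch.spfToSpec A I n) (FSch.spfToSpec_comm A I)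

theorem r_φ (hX : (FSch.spf A I).IsFormal) (n : ℕ) (f a : A) :
    Levels.proj (FSch.spf A I) hX n (FSch.spfToSpec A I 0 ⁻¹ᵁ PrimeSpectrum.basicOpen f)
        (Ideal.r _ (φ I hX a)) =
      (FSch.spfToSpec A I n).appLE (PrimeSpectrum.basicOpen f) _
        (FSch.lvU_p (FSch.spf A I) hX (fun n => FSch.spfToSpec A I n) (FSch.spfToSpec_comm A I) n _).ge
        (algebraMap A Γ(Spec (CommRingCat.of A), PrimeSpectrum.basicOpen f) a) := by
  rw [r_φq, proj_sch]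
  rfl

/-- If multiplication by `a` reflects the filtration up to a shift, `a` is regular on the formal
spectrum. -/
theorem regular_φ (hX : (FSch.spf A I).IsFormal) {a : A}
    (ha : ∃ e : ℕ, ∀ (N : ℕ) (b : A), a * b ∈ I ^ (N + e) → b ∈ I ^ N) :
    Ideal.Regular (φ I hX a) := by
  obtain ⟨e, he⟩ := ha
  intro V s hs
  refine Levels.ext_of_proj s fun n => ?_
  have hp : ∀ n, IsClosedImmersion (FSch.spfToSpec A I n) := fun n =>
    IdealLemmas.isClosedImmersion_specQuot A I n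
  -- cover `V` by traces of basic opens
  have hcov : ∀ x ∈ V, ∃ f : A, x ∈ FSch.spfToSpec A I 0 ⁻¹ᵁ PrimeSpectrum.basicOpen f ∧
      FSch.spfToSpec A I 0 ⁻¹ᵁ PrimeSpectrum.basicOpen f ≤ V := fun x hx => by
    have := hp 0
    obtain ⟨O, hO, hOV⟩ := (FSch.spfToSpec A I 0).isClosedEmbedding.isEmbedding.isInducing.isOpen_iff.1 V.2
    obtain ⟨_, ⟨f, rfl⟩, hxf, hfO⟩ := Opens.isBasis_iff_nbhd.1 (PrimeSpectrum.isBasis_basic_opens (R := A))
      (show (FSch.spfToSpec A I 0).base x ∈ (⟨O, hO⟩ : (Spec (CommRingCat.of A)).Opens) from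
        (Set.ext_iff.1 hOV x).2 hx)
    exact ⟨f, hxf, fun y hy => (Set.ext_iff.1 hOV y).1 (hfO hy)⟩
  choose! f hxf hfV using hcov
  let W : V → ((FSch.spf A I).X 0).Opens := fun x => FSch.spfToSpec A I 0 ⁻¹ᵁ PrimeSpectrum.basicOpen (f x.1)
  refine TopCat.Sheaf.eq_of_locally_eq' ((FSch.spf A I).levelObj hX n) W V
    (fun x => homOfLE (hfV x.1 x.2)) (fun x hx => Opens.mem_iSup.2 ⟨⟨x, hx⟩, hxf x hx⟩) _ _ fun x => ?_
  refine Eq.trans ?_ (map_zero _).symm
  refine ((ConcreteCategory.congr_hom (((FSch.spf A I).OshProj hX n).hom.naturality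
    (homOfLE (hfV x.1 x.2)).op) s).symm).trans ?_
  show Levels.proj (FSch.spf A I) hX n (W x) (((FSch.spf A I).Osh hX).obj.map (homOfLE (hfV x.1 x.2)).op s) = 0
  have hs' : ((FSch.spf A I).Osh hX).obj.map (homOfLE (hfV x.1 x.2)).op s * Ideal.r (W x) (φ I hX a) = 0 := by
    rw [← Ideal.res_r (hfV x.1 x.2) (φ I hX a), ← map_mul, hs, map_zero]
  generalize ((FSch.spf A I).Osh hX).obj.map (homOfLE (hfV x.1 x.2)).op s = t at hs'
  -- the level `n + e`
  have := hp (n + e)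
  obtain ⟨y, hy⟩ := surjective_appLE (FSch.spfToSpec A I (n + e))
    (IsAffineOpen.Spec_basicOpen (R := CommRingCat.of A) (f x.1)) _
    (FSch.lvU_p (FSch.spf A I) hX (fun n => FSch.spfToSpec A I n) (FSch.spfToSpec_comm A I) (n + e) _).ge
    (FSch.lvU_p (FSch.spf A I) hX (fun n => FSch.spfToSpec A I n) (FSch.spfToSpec_comm A I) (n + e) _).le
    (Levels.proj (FSch.spf A I) hX (n + e) (W x) t)
  have h0 := congrArg (Levels.proj (FSch.spf A I) hX (n + e) (W x)) hs'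
  rw [map_mul, map_zero, r_φ, ← hy, ← map_mul, appLE_spfToSpec_eq_zero_iff] at h0
  obtain ⟨⟨b, m⟩, hm⟩ := IsLocalization.surj (Submonoid.powers (f x.1)) y
  obtain ⟨_, k, rfl⟩ := m
  have h1 : algebraMap A Γ(Spec (CommRingCat.of A), PrimeSpectrum.basicOpen (f x.1)) (a * b) ∈
      (I ^ (n + e + 1)).map (algebraMap A Γ(Spec (CommRingCat.of A), PrimeSpectrum.basicOpen (f x.1))) := by
    rw [map_mul, ← hm, ← mul_assoc, mul_comm _ y]
    exact _root_.Ideal.mul_mem_right _ _ h0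
  rw [IsLocalization.algebraMap_mem_map_algebraMap_iff (Submonoid.powers (f x.1))] at h1
  obtain ⟨_, ⟨l, rfl⟩, hl⟩ := h1
  rw [mul_left_comm, show n + e + 1 = n + 1 + e by omega] at hl
  have hy' : y ∈ (I ^ (n + 1)).map (algebraMap A Γ(Spec (CommRingCat.of A), PrimeSpectrum.basicOpen (f x.1))) := by
    have h2 := _root_.Ideal.mem_map_of_mem
      (algebraMap A Γ(Spec (CommRingCat.of A), PrimeSpectrum.basicOpen (f x.1))) (he _ _ hl)
    rw [map_mul, ← hm, ← mul_assoc, mul_comm _ y, mul_assoc] at h2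
    refine (_root_.Ideal.mul_unit_mem_iff_mem _ ?_).1 h2
    exact (IsLocalization.map_units _ (⟨_, l, rfl⟩ : Submonoid.powers (f x.1))).mul
      (IsLocalization.map_units _ (⟨_, k, rfl⟩ : Submonoid.powers (f x.1)))
  -- descend to the level `n`
  have hd := proj_eq_zero_of_add hX (n := n) (e := e)
    (t - sch hX (fun n => FSch.spfToSpec A I n) (FSch.spfToSpec_comm A I)
      (PrimeSpectrum.basicOpen (f x.1)) y) (by rw [map_sub, proj_sch, sub_eq_zero]; exact hy.symm)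
  rw [map_sub, proj_sch, sub_eq_zero] at hd
  exact hd.trans ((appLE_spfToSpec_eq_zero_iff I n (f x.1) hX y).2 hy')

theorem ψOf_id (hX : (FSch.spf A I).IsFormal) : ψOf hX I (𝟙 (FSch.spf A I)) = φ I hX := by
  refine RingHom.ext fun a => ext_proj hX _ _ fun n => ?_
  rw [ψOf, proj_φq_eq, proj_φq_eq]
  show (((FSch.spf A I).X n).presheaf.map _) ((𝟙 _ ≫ FSch.spfToSpec A I n).appTop _) = _
  rw [Category.id_comp]

theorem ψOf_spfMap (hX : (FSch.spf A I).IsFormal) {B : Type u} [CommRing B]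
    (K : _root_.Ideal B) (φ' : B →+* A) (h : K ≤ I.comap φ') :
    ψOf hX K (FSch.spfMap I K φ' h) = (φ I hX).comp φ' := by
  rw [← Category.id_comp (FSch.spfMap I K φ' h), ψOf_comp_spfMap, ψOf_id]

end Regular

end Groth.Agent.Lib.FBlowAff.Spf
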